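import Cfsg.Agent.Lib.Block.BlkQuo
import Cfsg.Agent.Lib.Block.BlkZero

/-!
# Defect groups of dominated blocks
-/

set_option autoImplicit false
set_option linter.unusedSectionVars false

namespace CA.BlkDom

open Cfsg MonoidAlgebra CA.BlkAlg CA.BlkVal CA.BlkOmega CA.BlkRed CA.BlkCore CA.BlkDefect CA.SylIn
  CA.BlkInd CA.BlkHeight CA.BlkKer CA.BlkReg CA.BlkQuo CA.BlkZero CA.H12PPart CChar.CharFun
  CChar.CharOrth CChar.CharInt CChar.CharKer Subgroup
open CA.H11Map (mp mp_single mp_mp)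

variable {p : ℕ} {M : Ideal AlgInt} {G Q : Type*} [Group G] [Group Q] [Finite G] [Finite Q]
  {φ : G →* Q}

theorem isSylowIn_map' [Fact p.Prime] (φ : G →* Q) {T H : Subgroup G} (h : IsSylowIn p T H) :
    IsSylowIn p (T.map φ) (H.map φ) := by
  refine ⟨map_mono h.le, h.isPGroup.map φ, fun hd => h.not_dvd ?_⟩
  rw [← relIndex_comap, comap_map_eq] at hd
  exact hd.trans (relIndex_dvd_of_le_left _ le_sup_left)

theorem map_conj (φ : G →* Q) (x : G) (H : Subgroup G) :
    (x •ᶜ H).map φ = φ x •ᶜ H.map φ := by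
  ext y
  simp only [mem_map, MulEquiv.coe_toMonoidHom, MulAut.conj_apply]
  constructor
  · rintro ⟨_, ⟨a, ha, rfl⟩, rfl⟩
    exact ⟨φ a, ⟨a, ha, rfl⟩, by simp⟩
  · rintro ⟨_, ⟨a, ha, rfl⟩, rfl⟩
    exact ⟨_, ⟨a, ha, rfl⟩, by simp⟩

theorem centralizer_le_comap (φ : G →* Q) (g : G) :
    centralizer ({g} : Set G) ≤ (centralizer ({φ g} : Set Q)).comap φ := fun x hx => by
  rw [mem_comap, mem_centralizer_singleton_iff, ← map_mul, ← map_mul,
    mem_centralizer_singleton_iff.1 hx]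

variable (hφ : Function.Surjective φ)
include hφ

/-- A class on which the central character of an inflated character does not vanish. -/
theorem lam_classSum_infl [Fact p.Prime] (hM : IsPModular p M) (ψ : IrrCharacter Q) {g : G}
    (h : lam M (infl hφ ψ).1 (classSum (k M) g) ≠ 0) {P : Subgroup G}
    (hP : IsSylowIn p P (centralizer ({g} : Set G))) :
    lam M ψ.1 (classSum (k M) (φ g)) ≠ 0 ∧
      IsSylowIn p (P.map φ) (centralizer ({φ g} : Set Q)) := by
  have h0 := apply_ne_zero_of_lam_ne_zero h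
  rw [lam_classSum_ne_zero_iff] at h
  simp only [infl_apply, map_one] at h h0
  set C := (centralizer ({φ g} : Set Q)).comap φ with hC
  have hi : C.index = (centralizer ({φ g} : Set Q)).index := index_comap_of_surjective _ hφ
  have hm := relIndex_mul_index (centralizer_le_comap φ g)
  rw [← hC, hi] at hm
  have h1 := v_index_mul_le (M := M) ψ (φ g)
  have hv0 : v M (ψ.1 (φ g)) ≠ 0 := by simpa using h0
  have hr : v M (((centralizer ({g} : Set G)).relIndex C : ℕ) : ℂ) = 1 := by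
    refine le_antisymm (mem_O_iff.1 (natCast_mem_O _)) ?_
    rw [← h, ← hm, Nat.cast_mul, map_mul, mul_assoc] at h1
    exact (le_mul_iff_one_le_left (zero_lt_iff.2 (mul_ne_zero (v_index_ne_zero _) hv0))).1 h1
  refine ⟨?_, ?_⟩
  · rw [lam_classSum_ne_zero_iff, ← h, ← hm, Nat.cast_mul, map_mul, hr, one_mul]
  · have hs : IsSylowIn p P C := by
      refine ⟨hP.le.trans (centralizer_le_comap φ g), hP.isPGroup, fun hd => ?_⟩
      rw [← relIndex_mul_relIndex _ _ _ hP.le (centralizer_le_comap φ g)] at hd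
      rcases (Fact.out : p.Prime).dvd_mul.1 hd with hd | hd
      · exact hP.not_dvd hd
      · exact (v_natCast_eq_one_iff hM _).1 hr hd
    have := isSylowIn_map' φ hs
    rwa [hC, map_comap_eq_self_of_surjective hφ] at this

/-- The defect groups of a dominated block lie in images of defect groups. -/
theorem exists_le_map [Fact p.Prime] (hM : IsPModular p M) {b : Set (IrrCharacter Q)}
    (hb : IsPBlock M b) {B : Set (IrrCharacter G)} (hB : IsPBlock M B) {ψ : IrrCharacter Q}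
    (hψ : ψ ∈ b) (hψB : infl hφ ψ ∈ B) {E : Subgroup Q} (hE : IsDefectGroup p M b E) :
    ∃ P, IsDefectGroup p M B P ∧ E ≤ P.map φ := by
  obtain ⟨P, hP⟩ := exists_isDefectGroup (p := p) hM hB
  obtain ⟨g, hg, hS⟩ := isDefectGroup_iff.1 hP
  obtain ⟨h1, h2⟩ := lam_classSum_infl hφ hM ψ ((isDefectClass_iff hM hB hψB g).1 hg).2 hS
  obtain ⟨x, hx⟩ := exists_conj_le_of_lam_ne_zero hM hb hψ hE h1 h2
  obtain ⟨y, rfl⟩ := hφ x
  refine ⟨y⁻¹ •ᶜ P, isDefectGroup_conj hP _, ?_⟩
  rw [map_conj, map_inv]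
  exact conj_le_iff_le_inv_conj.1 hx

omit hφ in
theorem exists_block_coeff_ne_zero (hM : IsPModular p M) {A : Set (IrrCharacter G)}
    (hA : IsSat M A) {g : G} (h : (eB M A).coeff g ≠ 0) :
    ∃ b, IsPBlock M b ∧ b ⊆ A ∧ (eB M b).coeff g ≠ 0 := by
  by_contra hc
  push Not at hc
  apply h
  rw [← mul_one (eB M A), ← sum_eB_blocks hM, Finset.mul_sum, coeff_sum']
  refine Finset.sum_eq_zero fun b hb => ?_
  have hb := mem_blocks.1 hb
  rw [eB_mul_eB hA (isSat_of_isPBlock hM hb)]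
  by_cases hs : b ⊆ A
  · rw [Set.inter_eq_right.2 hs]; exact hc b hb hs
  · have : A ∩ b = ∅ := Set.eq_empty_of_forall_notMem fun χ hχ =>
      hs (hA.subset_of_mem hM hb hχ.2 hχ.1)
    rw [this, eB_empty]; rfl

/-- A block dominates a block whose defect groups are the images of its defect groups. -/
theorem exists_dominated [Fact p.Prime] (hM : IsPModular p M) (hN : IsPGroup p φ.ker)
    {B : Set (IrrCharacter G)} (hB : IsPBlock M B) {P : Subgroup G}
    (hP : IsDefectGroup p M B P) :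
    ∃ b, IsPBlock M b ∧ b ⊆ infl hφ ⁻¹' B ∧ IsDefectGroup p M b (P.map φ) := by
  obtain ⟨g, hg, hS⟩ := isDefectGroup_iff.1 hP
  obtain ⟨χ, hχ⟩ := block_nonempty hM hB
  have hsat := isSat_of_isPBlock hM hB
  have h1 := ((isDefectClass_iff hM hB hχ g).1 hg).1
  have h2 := coeff_mp_eB_of_ne_zero hM hN hsat h1
  rw [mp_eB hφ hsat] at h2
  obtain ⟨b, hb, hbs, hc⟩ := exists_block_coeff_ne_zero hM (isSat_preimage hφ hM hsat)
    (h2 ▸ h1 : (eB M (infl hφ ⁻¹' B)).coeff (φ g) ≠ 0)
  refine ⟨b, hb, hbs, ?_⟩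
  obtain ⟨E, hE⟩ := exists_isDefectGroup (p := p) hM hb
  obtain ⟨ψ, hψ⟩ := block_nonempty hM hb
  obtain ⟨P', hP', hle⟩ := exists_le_map hφ hM hb hB hψ (hbs hψ) hE
  obtain ⟨x, rfl⟩ := exists_conj_eq_of_isDefectGroup hM hB hP hP'
  have hle' : P.map φ ≤ centralizer ({φ g} : Set Q) :=
    map_le_iff_le_comap.2 (hS.le.trans (centralizer_le_comap φ g))
  refine isDefectGroup_of_card_ge hM hb hE (hS.isPGroup.map φ)
    (trunc_ne_zero_iff.2 ⟨φ g, le_centralizer_singleton_iff.1 hle', hc⟩) ?_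
  rw [map_conj] at hle
  exact (card_le_of_le hle).trans (card_conj _ _).le

/-- If the `p`-regular elements centralize the kernel, the unique dominated block has the images
of the defect groups as defect groups. -/
theorem isDefectGroup_preimage [Fact p.Prime] (hM : IsPModular p M) (hN : IsPGroup p φ.ker)
    (h : ∀ g, ¬ p ∣ orderOf g → g ∈ centralizer (φ.ker : Set G)) {B : Set (IrrCharacter G)}
    (hB : IsPBlock M B) {P : Subgroup G} (hP : IsDefectGroup p M B P) :
    IsDefectGroup p M (infl hφ ⁻¹' B) (P.map φ) := by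
  obtain ⟨b, hb, hbs, hd⟩ := exists_dominated hφ hM hN hB hP
  obtain ⟨ψ, hψ⟩ := block_nonempty hM hb
  rwa [← block_eq_of_mem hM hb (isPBlock_preimage_of_regular hφ hM hN h hB) hψ (hbs hψ)]

end CA.BlkDom
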