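import Mathlib
import Cfsg.Agent.Lib.Block.BlkSubs
import Cfsg.Agent.Lib.Block.BlkIBr
import Cfsg.Agent.Lib.Block.H11Fus

/-!
Blocks all of whose characters have the same degree (Okuyama-Tsushima).
-/

set_option autoImplicit false
set_option linter.unusedSectionVars false

namespace CA.BlkOT

open Cfsg MonoidAlgebra CA.BlkAlg CA.H11Loc CA.SylIn CA.H11Amb CA.H11Def CA.H11Pair CA.H11Max
  CA.H11Brg CA.BlkFirst CA.BlkVal CA.BlkOmega CA.BlkRed CA.BlkKer CChar.CharFun CChar.CharOrth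
  CA.BlkHeight CA.BlkDefect CA.BlkReg CA.H11Sec CA.H12PPart CA.BlkBas CA.BlkIBr CA.BlkIdem
  CA.BlkSubs CA.H11Contrib CA.H11Cyclo CA.H11Av CChar.CharGen CA.BlkInd CChar.CharInt
  Subgroup
open CA.BlkCore hiding lam lam_mul lam_one
open scoped ComplexConjugate

theorem corner_eq {F V : Type*} [Field F] [CharZero F] [AddCommGroup V] [Module F V]
    [FiniteDimensional F V] {E : Module.End F V} (hE : E * E = E)
    (h1 : LinearMap.trace F V E = 1) (A : Module.End F V) :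
    E * A * E = LinearMap.trace F V (E * A) • E := by
  have h2 := (LinearMap.IsIdempotentElem.isProj_range _ hE).trace
  rw [h1, eq_comm, Nat.cast_eq_one] at h2
  obtain ⟨c, hc⟩ := (LinearMap.existsUnique_eq_smul_id_of_finrank_eq_one h2
    ((E * A).restrict (p := LinearMap.range E) (q := LinearMap.range E) fun x _ => ⟨_, rfl⟩)).exists
  have h3 : E * A * E = c • E := LinearMap.ext fun x =>
    congrArg Subtype.val (LinearMap.congr_fun hc ⟨E x, x, rfl⟩)
  have h4 := congrArg (LinearMap.trace F V) h3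
  rw [LinearMap.trace_mul_comm, ← mul_assoc, hE, map_smul, h1, smul_eq_mul, mul_one] at h4
  rw [h3, h4]

variable {p : ℕ} {M : Ideal AlgInt} {G : Type*} [Group G] [Fintype G] {B : Set (IrrCharacter G)}

theorem chiL_corner {χ : G → ℂ} (hχ : IsIrrCharacter G χ) {ε : ℂ[G]} (hε : ε * ε = ε)
    (h1 : chiL χ ε = 1) (a b : ℂ[G]) :
    chiL χ (ε * a * ε * b) = chiL χ (ε * a) * chiL χ (ε * b) := by
  obtain ⟨m, ρ, -, rfl⟩ := hχ
  simp only [chiL_character, map_mul] at h1 ⊢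
  rw [corner_eq (by rw [← map_mul, hε]) h1, smul_mul_assoc, map_smul, smul_eq_mul]

/-- The block has a single Brauer character, with all decomposition numbers one. -/
structure One (B : Set (IrrCharacter G)) (i : IBr M G) : Prop where
  sub : blk i ⊆ B
  uniq : ∀ j : IBr M G, blk j ⊆ B → j = i
  dn : ∀ χ ∈ B, dn χ.1 i = 1

variable {i : IBr M G}

theorem One.exists_central (h : One B i) (hM : IsPModular p M) (hB : IsPBlock M B) {a : ℂ[G]}
    (ha : a ∈ OG M G) : ∃ z ∈ Z ℂ G, z ∈ OG M G ∧ ∀ χ ∈ B, omega χ.1 z = chiL χ.1 a := by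
  classical
  have hA := isSat_of_isPBlock hM hB
  obtain ⟨D⟩ := nonempty_decO (M := M) (e := ⟨fB B, fB_mem_OG hM hB⟩) (Subtype.ext (fB_mul_self B))
  have hsum : ∑ j, (D.x j : ℂ[G]) * D.y j = fB B := by simpa using congrArg Subtype.val D.sum
  have hye : ∀ j, (D.y j : ℂ[G]) * fB B = D.y j := fun j => congrArg Subtype.val (D.ye j)
  have hc : ∀ j, D.c j = i := fun j => h.uniq _ ((blk_subset_iff hM hA).mpr (by
    have e1 := congrArg Subtype.val (D.yx j)
    simp only [Subring.coe_mul] at e1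
    rw [eh, ← e1, ← mul_assoc, (commute_of_mem_Z (fB_mem_Z B) _).eq, hye]))
  have hx : ∀ j, (D.x j : ℂ[G]) * eh i = D.x j := fun j => hc j ▸ congrArg Subtype.val (D.xê j)
  have hy : ∀ j, eh i * (D.y j : ℂ[G]) = D.y j := fun j => hc j ▸ congrArg Subtype.val (D.êy j)
  have h1 : ∀ χ ∈ B, chiL χ.1 (eh i) = 1 := fun χ hχ => by rw [← cast_dn_irr, h.dn χ hχ, Nat.cast_one]
  set b := ∑ j, (D.y j : ℂ[G]) * a * D.x j with hb
  have hb1 : eh i * b = b := by simp only [hb, Finset.mul_sum, ← mul_assoc, hy]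
  have hb2 : b * eh i = b := by simp only [hb, Finset.sum_mul, mul_assoc, hx]
  have hb3 : fB B * b = b := by
    simp only [hb, Finset.mul_sum, ← mul_assoc, fun j : Fin D.r =>
      (commute_of_mem_Z (fB_mem_Z B) (D.y j : ℂ[G])).eq, hye]
  have hb4 : ∀ χ ∈ B, chiL χ.1 b = chiL χ.1 a := fun χ hχ => by
    rw [hb, map_sum, Finset.sum_congr rfl fun j _ => chiL_mul_comm (irr_classFun χ.2) _ _]
    simp only [← mul_assoc]
    rw [← map_sum, ← Finset.sum_mul, hsum, chiL_fB_mul, if_pos hχ]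
  set w := ∑ χ with χ ∈ B, chiL χ.1 a • fB {χ} with hw
  have hwZ : w ∈ Z ℂ G := sum_mem fun χ _ => Subalgebra.smul_mem _ (fB_mem_Z _) _
  have hw1 : ∀ χ : IrrCharacter G, omega χ.1 w = if χ ∈ B then chiL χ.1 a else 0 := fun χ => by
    simp [hw, omega_fB]
  have h2 : b = w * eh i := by
    refine sub_eq_zero.1 (eq_zero_of_chiL fun χ g => ?_)
    rw [sub_mul, map_sub, mul_assoc, chiL_mul_of_Z χ.2 hwZ, hw1, ← hb3, mul_assoc, chiL_fB_mul]
    split_ifs with hχ
    · rw [← hb1, ← hb2, ← mul_assoc, chiL_corner χ.2 (eh_idem i) (h1 χ hχ), hb1, hb4 χ hχ, sub_self]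
    · simp
  have h3 : w = ∑ j, (D.x j : ℂ[G]) * b * D.y j := by
    simp only [h2, ← mul_assoc, ← (commute_of_mem_Z hwZ _).eq]
    simp only [mul_assoc w, hx, ← Finset.mul_sum, hsum]
    exact eq_of_omega hwZ (mul_mem hwZ (fB_mem_Z B)) fun χ => by
      rw [omega_mul_of_Z χ.2 hwZ, omega_fB, hw1]; split_ifs <;> simp
  refine ⟨w, hwZ, h3 ▸ sum_mem fun j _ => mul_mem (mul_mem (D.x j).2 (sum_mem fun j _ =>
    mul_mem (mul_mem (D.y j).2 ha) (D.x j).2)) (D.y j).2, fun χ hχ => by rw [hw1, if_pos hχ]⟩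

theorem One.pReg_eq (h : One B i) (hM : IsPModular p M) (hB : IsPBlock M B)
    {χ : IrrCharacter G} (hχ : χ ∈ B) : pRegularPart p χ.1 = phi p i := by
  rw [pReg_irr_eq hM, Finset.sum_eq_single i (fun j _ hj => ?_) (by simp), h.dn χ hχ, Nat.cast_one,
    one_smul]
  rw [dn_eq_zero hM fun h1 => hj (h.uniq j ((isSat_of_isPBlock hM hB).subset_of_mem hM
    (isPBlock_blk j) h1 hχ)), Nat.cast_zero, zero_smul]

theorem One.deg (h : One B i) (hM : IsPModular p M) (hB : IsPBlock M B)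
    {χ : IrrCharacter G} (hχ : χ ∈ B) : χ.1 1 = phi p i 1 := by
  rw [← h.pReg_eq hM hB hχ, pReg_one hM.1]

theorem One.height (h : One B i) (hM : IsPModular p M) (hB : IsPBlock M B)
    {χ : IrrCharacter G} (hχ : χ ∈ B) : blockHeight p B χ.1 = 0 := by
  obtain ⟨ψ, hψ, h0⟩ := exists_height_zero (p := p) ⟨χ, hχ⟩
  rw [blockHeight_eq, charDegree, h.deg hM hB hχ, ← h.deg hM hB hψ]
  exact h0

theorem One.card (h : One B i) (hM : IsPModular p M) (hB : IsPBlock M B) :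
    Nat.card B = p ^ blockDefect p B := by
  classical
  have hA := isSat_of_isPBlock hM hB
  haveI : Subsingleton (IBrIn M B) := ⟨fun a b => Subtype.ext ((h.uniq _ a.2).trans (h.uniq _ b.2).symm)⟩
  have h1 := (ibr hM hA).C_eq_of_subsingleton hM hB ⟨i, h.sub⟩
  rw [BSet.C_apply, ← Finset.sum_filter_add_sum_filter_not _ (· ∈ B),
    Finset.sum_eq_zero (s := Finset.filter (fun χ => ¬ χ ∈ B) _) fun χ hχ => by
      rw [(ibr hM hA).d_zero χ (by simpa using hχ), mul_zero],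
    Finset.sum_congr rfl fun χ hχ => show _ = (1 : ℤ) by simp [h.dn χ (by simpa using hχ)]] at h1
  rw [card_set_eq]
  simp only [Finset.sum_const, nsmul_eq_mul, mul_one, add_zero] at h1
  exact_mod_cast h1

theorem One.v_sum_le [DecidablePred (· ∈ B)] (h : One B i) (hM : IsPModular p M) (hB : IsPBlock M B)
    {a a' : ℂ[G]} (ha : a ∈ OG M G) (ha' : a' ∈ OG M G) :
    v M (∑ χ with χ ∈ B, chiL χ.1 a * chiL χ.1 a') ≤ v M (p : ℂ) ^ blockDefect p B := by
  obtain ⟨z, hz, hz', h1⟩ := h.exists_central hM hB ha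
  obtain ⟨ψ, hψ⟩ := block_nonempty hM hB
  have h2 := mem_O_iff.1 (mul_mem (fB_mem_OG hM hB) (mul_mem hz' ha') 1)
  have h3 := v_pow_mul_div hM hψ
  rw [coeff_fB_mul, Finset.sum_congr rfl fun χ hχ => show _ = ψ.1 1 * (chiL χ.1 a * chiL χ.1 a') by
    have hχ := (Finset.mem_filter.1 hχ).2
    rw [inv_one, ← one_def, mul_one, chiL_mul_of_Z χ.2 hz, h1 χ hχ, h.deg hM hB hχ, h.deg hM hB hψ],
    ← Finset.mul_sum, ← mul_assoc, map_mul] at h2
  rw [h.height hM hB hψ, pow_zero, map_mul, map_pow, div_eq_inv_mul] at h3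
  rw [← one_mul (v M _), ← h3, mul_assoc]
  exact mul_le_of_le_one_right' h2

theorem rank_eq_one_of_dvd (hM : IsPModular p M) (hB : IsPBlock M B) {ι : Type*} [Fintype ι]
    (S : BSet p B ι) (h : ∀ i j, (p : ℤ) ^ blockDefect p B ∣ S.C i j) : blockRank p B = 1 := by
  classical
  obtain ⟨θ, hθ⟩ := block_nonempty hM hB
  obtain ⟨N, hN⟩ := S.exists_int_Γ hM hB
  obtain ⟨κ, -, hκ⟩ := exists_kappa hM hB hθ
  choose C hC using h
  have h1 : ∀ i j, ∑ l, C i l * N l j = if i = j then 1 else 0 := fun i j => by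
    have h2 := congrFun (congrFun (S.C_mul_eq hM hB hN) i) j
    simp only [Matrix.mul_apply, hC, mul_assoc, ← Finset.mul_sum, Matrix.smul_apply, smul_eq_mul,
      Matrix.one_apply] at h2
    exact mul_left_cancel₀ (pow_ne_zero _ (Int.natCast_ne_zero.2 hM.1.ne_zero)) h2
  set s : ι → k M := fun i => ∑ χ, (S.a i χ : k M) * BlkCore.lam M θ.1 (sK p M χ.1)
  have h2 : ∀ i j, (N i j : k M) = κ * s i * s j := fun i j => by
    have h3 : N i j = ∑ χ, ∑ ψ, S.a i χ * S.a j ψ * NB p B χ ψ := by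
      apply Int.cast_injective (α := ℂ)
      rw [← hN, S.Γ_eq]
      simp only [Finset.mul_sum, Int.cast_sum, Int.cast_mul]
      refine Finset.sum_congr rfl fun χ _ => Finset.sum_congr rfl fun ψ _ => ?_
      by_cases hψ : ψ ∈ B
      · rw [NB_cast hM χ hψ, mm_def]; ring
      · simp [S.a_zero j ψ hψ]
    rw [h3, mul_assoc, Finset.sum_mul_sum]
    simp only [Finset.mul_sum, Int.cast_sum, Int.cast_mul]
    refine Finset.sum_congr rfl fun χ _ => Finset.sum_congr rfl fun ψ _ => ?_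
    by_cases hψ : ψ ∈ B
    · rw [hκ χ ψ hψ]; ring
    · simp [S.a_zero j ψ hψ]
  have h3 : ∀ i j, (∑ l, C i l * (κ * s l)) * s j = if i = j then 1 else 0 := fun i j => by
    have h4 := congrArg (Int.cast : ℤ → k M) (h1 i j)
    simpa [h2, Finset.sum_mul, mul_assoc] using h4
  rw [← S.card_eq]
  refine le_antisymm (Fintype.card_le_one_iff.2 fun i j => by_contra fun hij => ?_)
    (S.card_eq ▸ CA.BlkIBr.blockRank_pos hM hB)
  have h4 := h3 i i
  have h5 := h3 j j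
  have h6 := h3 i j
  rw [if_pos rfl] at h4 h5
  rw [if_neg hij] at h6
  exact (mul_eq_zero.1 h6).elim (left_ne_zero_of_mul_eq_one h4) (right_ne_zero_of_mul_eq_one h5)

theorem One.rank_sub [Fact p.Prime] (h : One B i) (hM : IsPModular p M) (hB : IsPBlock M B) {u : G}
    (hu : ∃ n : ℕ, orderOf u = p ^ n) {b : Set (IrrCharacter (centralizer ({u} : Set G)))}
    (hind : IsInducedBlock M _ b B) : blockRank p b = 1 := by
  classical
  haveI := Fintype.ofFinite (centralizer ({u} : Set G))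
  have hb := isSat_of_isPBlock hM hind.1
  have huH : u ∈ centralizer ({u} : Set G) := self_mem_of_eq rfl
  obtain ⟨ξ, hξ⟩ := block_nonempty hM hind.1
  obtain ⟨χ, hχ⟩ := block_nonempty hM hB
  refine rank_eq_one_of_dvd hM hind.1 (ibr hM hb) fun j l => (pow_dvd_pow _ (blockDefect_le_of_ind
    hM (subtype_injective _) hind.1 hB hξ hχ (ind_of_isInducedBlock hM hind hξ hχ))).trans ?_
  have h1 : ∀ (x : G) (χ : IrrCharacter G) (j : IBrIn M b), x ∈ ({u, u⁻¹} : Set G) →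
      (ibr hM hb).gd x χ.1 j = chiL χ.1 (single x 1 * emb _ (eh j.1)) := fun x χ j hx => by
    rw [BSet.gd_def, ibr_Φ, inner_Phi (tr_classFun ?_ (irr_classFun χ.2)), chiL_apply,
      chiL_single_mul, ← chiL_apply (fun y => χ.1 (x * y)), chiL_emb, chiL_apply]
    · rfl
    · rcases hx with rfl | rfl
      · exact le_rfl
      · exact fun y hy => mem_centralizer_singleton_iff.2
          (Commute.inv_right (mem_centralizer_singleton_iff.1 hy))
  rw [pow_dvd_iff_v_le hM, ← (ibr hM hb).sum_gd_mul_conj_self hM hu rfl hb,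
    ← Finset.sum_filter_add_sum_filter_not _ (· ∈ B),
    Finset.sum_eq_zero (s := Finset.filter (fun χ => ¬ χ ∈ B) _) fun χ hχ => by
      rw [(ibr hM hb).gd_eq_zero_of_not_mem hM hu rfl hind (by simpa using hχ), zero_mul], add_zero]
  rw [Finset.sum_congr rfl fun χ _ => by
    rw [← (ibr hM hb).gd_inv le_rfl huH (gen_of_irr χ.2), h1 u _ _ (.inl rfl), h1 u⁻¹ _ _ (.inr rfl)]]
  exact h.v_sum_le hM hB (mul_mem (single_mem_OG _ (one_mem _)) (emb_mem_OG _ (eh_mem _)))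
    (mul_mem (single_mem_OG _ (one_mem _)) (emb_mem_OG _ (eh_mem _)))

theorem pr_of_ind [Fact p.Prime] (hM : IsPModular p M) (hB : IsPBlock M B) {u : G}
    (hu : ∃ n : ℕ, orderOf u = p ^ n) {b : Set (IrrCharacter (centralizer ({u} : Set G)))}
    (hind : IsInducedBlock M _ b B) :
    Pr p ⊤ (zpowers u) (ab M _ b) ∧ br (zpowers u) (eB M B) * ab M _ b = ab M _ b := by
  obtain ⟨n, hn⟩ := hu
  have hP : IsPGroup p (zpowers u) := .of_card (by rw [Nat.card_zpowers, hn])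
  exact ⟨⟨le_top, hP, by rw [top_inf_eq, CC_zpowers]; exact blk_ab hM hind.1⟩,
    (isInducedBlock_iff_ab hM hP (zpowers_le.mpr (mem_centralizer_singleton_iff.mpr rfl))
      (CC_zpowers u).le ((CC_zpowers u).ge.trans (CC_le_NN _)) hind.1 hB).mp hind⟩

/-- Okuyama-Tsushima: the defect group is abelian and the inertial index is one. -/
theorem One.st_le [Fact p.Prime] (h : One B i) (hM : IsPModular p M) (hB : IsPBlock M B)
    {D : Subgroup G} {e : (k M)[G]} (hmx : Mx p ⊤ (eB M B) D e) : St ⊤ D e ≤ CC D := by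
  classical
  have hp := p_eq_zero hM
  obtain ⟨X, hX⟩ := exists_reps p G
  let T := (x : X) × {b : Set (IrrCharacter (centralizer ({x.1} : Set G))) //
    b ∈ (blocks M _).filter (IsInducedBlock M _ · B)}
  have hT : ∀ π : T, IsInducedBlock M _ π.2.1 B := fun π => (Finset.mem_filter.1 π.2.2).2
  have hc : Fintype.card T = Fintype.card D := by
    rw [← Nat.card_eq_fintype_card (α := D), card_defectGroup hM hB
      ((isDefectGroup_iff_top hM hB).mpr hmx.isDef), ← h.card hM hB, card_eq_sum_rank hM hX hB,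
      Fintype.card_sigma, ← Finset.sum_coe_sort X]
    refine Finset.sum_congr rfl fun x _ => ?_
    rw [Fintype.card_coe, Finset.card_eq_sum_ones]
    exact Finset.sum_congr rfl fun b hb =>
      (h.rank_sub hM hB (hX.pel _ x.2) (Finset.mem_filter.1 hb).2).symm
  let R : G → T → Prop := fun u π => ∃ g, g * π.1.1 * g⁻¹ = u ∧
    Sub p ⊤ (zpowers u) (cjA g (ab M _ π.2.1)) D e
  have h1 : ∀ u π π', R u π → R u π' → π = π' := by
    rintro u ⟨x, b, hb⟩ ⟨x', b', hb'⟩ ⟨g, h1, h2⟩ ⟨g', h3, h4⟩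
    obtain rfl : x = x' := Subtype.ext (hX.eq x.2 x'.2 (isConj_iff.2 ⟨g'⁻¹ * g, by
      have e := h1.trans h3.symm
      simp only at e
      rw [mul_inv_rev, mul_assoc g'⁻¹, mul_assoc g'⁻¹, ← mul_assoc (g * _), e]; group⟩))
    have h5 := h2.unique hp hmx.pr h4
    have hb1 := (Finset.mem_filter.1 hb).2.1
    have hb2 := (Finset.mem_filter.1 hb').2.1
    have h6 : g'⁻¹ * g ∈ centralizer ({x.1} : Set G) := mem_centralizer_singleton_iff.2 (by
      have e := h1.trans h3.symm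
      simp only at e
      rw [mul_assoc, ← inv_mul_cancel_right (g * _) g, e]; group)
    obtain rfl : b = b' := ab_inj hM hb1 hb2 (by
      rw [← (blk_ab hM hb1).fixed _ h6, cjA_mul_apply, h5, cjA_inv_cjA])
    rfl
  have h2 : ∀ π : T, ∃ u : D, R u π := fun π => by
    obtain ⟨h2, h3⟩ := pr_of_ind hM hB (hX.pel _ π.1.2) (hT π)
    obtain ⟨g, -, h4⟩ := hmx.exists_conj_sub hp h2 h3
    rw [conj_zpowers] at h4
    exact ⟨⟨_, h4.le (mem_zpowers _)⟩, g, rfl, h4⟩
  choose f hf using h2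
  have h3 := ((Fintype.bijective_iff_injective_and_card f).2
    ⟨fun π π' e => h1 _ _ _ (hf π) (e ▸ hf π'), hc⟩).2
  intro t ht
  obtain ⟨-, ht1, ht2⟩ := mem_St.1 ht
  refine mem_CC.2 fun u hu => ?_
  obtain ⟨π, h4⟩ := h3 ⟨u, hu⟩
  obtain ⟨π', h5⟩ := h3 ⟨t * u * t⁻¹, (mem_normalizer_iff.1 ht1 u).1 hu⟩
  obtain ⟨g, h6, h7⟩ := hf π
  have h8 := hf π'
  rw [h4] at h6 h7
  rw [h5] at h8
  have h9 := h7.conj_of_stab (mem_top t) ht1 ht2
  rw [conj_zpowers, ← cjA_mul_apply] at h9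
  obtain rfl := h1 _ _ _ ⟨t * g, by rw [← h6]; group, h9⟩ h8
  exact eq_mul_inv_iff_mul_eq.1 (congrArg Subtype.val (h4.symm.trans h5))

theorem One.nil [Fact p.Prime] (h : One B i) (hM : IsPModular p M) (hB : IsPBlock M B)
    {D : Subgroup G} (hD : IsDefectGroup p M B D) : D ≤ CC D ∧ IsNilpotentBlock p M B := by
  have hp := p_eq_zero hM
  obtain ⟨e, hmx⟩ := exists_mx hp (blk_eB hM hB) ((isDefectGroup_iff_top hM hB).mp hD)
  have h1 := h.st_le hM hB hmx
  have h2 := hmx.pr.le_St.trans h1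
  exact ⟨h2, (CA.H11Fus.isNilpotentBlock_iff hM).2 ⟨hB, (hmx.nil_iff_of_comm hp h2).2 h1⟩⟩

theorem exists_one_of_deg (hM : IsPModular p M) (hB : IsPBlock M B) {d : ℕ}
    (h : ∀ χ ∈ B, charDegree χ.1 = d) : ∃ i : IBr M G, One B i := by
  classical
  have hA := isSat_of_isPBlock hM hB
  set S := ibr hM hA
  have hd : ∀ χ ∈ B, χ.1 1 = d := fun χ hχ => by rw [← h χ hχ, irr_apply_one_eq χ.2]
  have h1 : ∀ χ ∈ B, ∃ i, dn χ.1 i = 1 ∧ ∀ j, j ≠ i → dn χ.1 j = 0 := fun χ hχ => by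
    have h2 : ∀ j : IBr M G, dn χ.1 j ≠ 0 → d ∣ charDegree (phi p j) := fun j hj => by
      have h3 := S.φ_apply ⟨j, (mem_iff_blk_subset hM hA hj).1 hχ⟩ (g := 1) (by simpa using hM.1.ne_one)
      rw [Finset.sum_congr rfl fun ψ _ => show _ = (S.a ⟨j, _⟩ ψ : ℂ) * d by
        by_cases hψ : ψ ∈ B
        · rw [hd ψ hψ]
        · simp [S.a_zero _ ψ hψ], ← Finset.sum_mul, ibr_φ, phi_one_eq hM] at h3
      exact Int.natCast_dvd_natCast.1 ⟨∑ ψ, S.a ⟨j, _⟩ ψ, by rw [mul_comm]; exact_mod_cast h3⟩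
    have h3 := degree_eq_sum hM (char_of_irr χ.2)
    have h0 : 0 < d := h χ hχ ▸ charDegree_pos χ.2
    rw [h χ hχ, Finset.sum_congr rfl fun j _ =>
      show _ = d * (dn χ.1 j * (charDegree (phi p j) / d)) by
        by_cases hj : dn χ.1 j = 0
        · simp [hj]
        · rw [mul_left_comm, Nat.mul_div_cancel' (h2 j hj)], ← Finset.mul_sum] at h3
    obtain ⟨i, h4, h5⟩ := exists_of_sum_eq_one (Nat.eq_of_mul_eq_mul_left h0
      ((mul_one d).trans h3)).symm
    refine ⟨i, Nat.eq_one_of_mul_eq_one_right h4, fun j hj => by_contra fun h6 => ?_⟩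
    exact (Nat.div_pos (Nat.le_of_dvd (phi_deg_pos hM j) (h2 j h6)) h0).ne'
      ((mul_eq_zero.1 (h5 j hj)).resolve_left h6)
  obtain ⟨χ, hχ, h0⟩ := exists_height_zero (p := p) (block_nonempty hM hB)
  obtain ⟨i, h2, h3⟩ := h1 χ hχ
  have hi := (mem_iff_blk_subset hM hA (h2 ▸ one_ne_zero)).1 hχ
  have h4 : ∀ ψ ∈ B, dn ψ.1 i ≠ 0 := fun ψ hψ h4 => by
    refine NB_ne_zero hM hB hχ h0 hψ (Int.cast_injective (α := ℂ) ?_)
    have h5 := S.Φ_eq_sum hM hA ⟨i, hi⟩
    obtain ⟨j, h6, h7⟩ := h1 ψ hψ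
    have hj := (mem_iff_blk_subset hM hA (h6 ▸ one_ne_zero)).1 hψ
    have hij : (⟨i, hi⟩ : IBrIn M B) ≠ ⟨j, hj⟩ := fun e => by
      rw [show i = j from congrArg Subtype.val e, h6] at h4; exact one_ne_zero h4
    rw [Finset.sum_eq_single ⟨i, hi⟩ (fun l _ hl => by
      rw [S.C_apply, Finset.sum_eq_zero fun ξ _ => ?_, Int.cast_zero, zero_smul]
      by_cases hξ : ξ ∈ B
      · obtain ⟨m, -, h8⟩ := h1 ξ hξ
        by_cases hm : i = m
        · simp [S, h8 l.1 fun e => hl (Subtype.ext (e.trans hm.symm))]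
        · simp [S, h8 i hm]
      · rw [S.d_zero ξ hξ, zero_mul]) (by simp)] at h5
    have h8 := S.inner_Φ_φ hM hA ⟨i, hi⟩ ⟨j, hj⟩
    rw [if_neg hij, h5, ci_smul_left, mul_eq_zero] at h8
    have h9 : ∀ (ξ : IrrCharacter G) (l : IBr M G), dn ξ.1 l = 1 → (∀ j, j ≠ l → dn ξ.1 j = 0) → pRegularPart p ξ.1 = phi p l :=
      fun ξ l e e' => by
        rw [pReg_irr_eq hM, Finset.sum_eq_single l (fun j _ hj => by simp [e' j hj]) (by simp), e,
          Nat.cast_one, one_smul]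
    rw [NB_cast hM χ hψ, mm_def, ← inner_pReg_pReg, h9 χ i h2 h3, h9 ψ j h6 h7]
    simpa using .inr (h8.resolve_left (Int.cast_ne_zero.2 (S.C_pos _).ne'))
  have h5 : ∀ ψ ∈ B, dn ψ.1 i = 1 ∧ ∀ j, j ≠ i → dn ψ.1 j = 0 := fun ψ hψ => by
    obtain ⟨j, h6⟩ := h1 ψ hψ
    rwa [show i = j from by_contra fun e => h4 ψ hψ (h6.2 i e)]
  refine ⟨i, hi, fun j hj => by_contra fun e => ?_, fun ψ hψ => (h5 ψ hψ).1⟩
  obtain ⟨ψ, hψ⟩ := exists_dn_ne_zero j
  exact hψ ((h5 ψ (hj (mem_blk hM hψ))).2 j e)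

theorem exists_deg_of_card (hM : IsPModular p M) (hB : IsPBlock M B) (hl : blockRank p B = 1)
    (hk : p ^ blockDefect p B ≤ Nat.card B) : ∃ d, ∀ χ ∈ B, charDegree χ.1 = d := by
  classical
  obtain ⟨n, d, h1, -, h2⟩ := exists_of_rank_one hM hB hl
  rw [← h2, card_set_eq, Finset.card_eq_sum_ones] at hk
  have h3 := (Finset.sum_eq_sum_iff_of_le fun χ hχ =>
    Nat.one_le_pow 2 _ (h1 χ (Finset.mem_filter.1 hχ).2).1).1 (le_antisymm (Finset.sum_le_sum
      fun χ hχ => Nat.one_le_pow 2 _ (h1 χ (Finset.mem_filter.1 hχ).2).1) hk)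
  refine ⟨charDegree ((1 : ℕ) • pRegularPart p (∑ ψ with ψ ∈ B, (n ψ : ℂ) • ψ.1)), fun χ hχ => ?_⟩
  rw [charDegree, ← pReg_one hM.1 χ.1, (h1 χ hχ).2, show d χ = 1 by
    simpa using (h3 χ (by simpa using hχ)).symm]
  simp [charDegree]

theorem pj_one [Fact p.Prime] (hM : IsPModular p M) (hB : IsPBlock M B)
    [Fintype (centralizer ({1} : Set G))] {b : Set (IrrCharacter (centralizer ({1} : Set G)))}
    (hind : IsInducedBlock M _ b B) {χ : IrrCharacter G} (hχ : χ ∈ B) :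
    pj p b 1 χ.1 = pRegularPart p χ.1 := by
  have hu : ∃ n, orderOf (1 : G) = p ^ n := ⟨0, by simp⟩
  have h1 := sum_pj hM (H := centralizer ({1} : Set G)) le_rfl (irr_classFun χ.2)
  have h2 : ∀ b, IsInducedBlock M (centralizer ({1} : Set G)) b B → ab M _ b = eB M B := fun b hb => by
    obtain ⟨h2, h3⟩ := pr_of_ind hM hB hu hb
    have h4 := h2.blk
    rw [zpowers_one_eq_bot, CC_bot, top_inf_eq] at h4
    rw [zpowers_one_eq_bot, br_bot] at h3
    exact (h4.eq_of_mul_ne_zero (blk_eB hM hB) (h3.symm ▸ h4.ne)).symm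
  rw [Finset.sum_eq_single b (fun b' hb' hne => by
    rw [pj_def, sp_eq_zero_of_not_ind hM hu rfl hB (mem_blocks.1 hb') (fun h => hne
      (ab_inj hM h.1 hind.1 ((h2 _ h).trans (h2 _ hind).symm))) (CA.H13Span.inSpan_irr hχ), map_zero])
    (fun h => (h (mem_blocks.2 hind.1)).elim)] at h1
  rw [h1]
  funext g
  by_cases hg : p ∣ orderOf g
  · rw [pReg_of_dvd _ hg, up_eq_zero hM.1 hu le_rfl _ fun h => ?_]
    exact (pPart_eq_one_iff hM.1).1 (isConj_one_right.1 h) hg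
  · have h3 := up_apply hM.1 hu rfl (tr_classFun le_rfl (irr_classFun χ.2))
      (y := ⟨g, mem_centralizer_singleton_iff.2 (by simp)⟩) (by rwa [← orderOf_coe])
    simp only [one_mul, tr_apply] at h3
    rw [h3, pReg_of_not_dvd _ hg]

theorem NB_le_one [Fact p.Prime] (hM : IsPModular p M) (hB : IsPBlock M B) {D : Subgroup G}
    {e : (k M)[G]} (hmx : Mx p ⊤ (eB M B) D e) (hst : St ⊤ D e ≤ CC D) {χ : IrrCharacter G}
    (hχ : χ ∈ B) : NB p B χ χ ≤ 1 := by
  classical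
  have hp := p_eq_zero hM
  have hDC := hmx.pr.le_St.trans hst
  choose bb hb1 hb2 hb3 using fun u : D => exists_major hM hB hmx u.2 (hDC u.2)
  have hu : ∀ u : D, ∃ n, orderOf (u : G) = p ^ n := fun u => pel_of_mem hM.1 hmx.pr.pg u.2
  have hχ' := irr_classFun χ.2
  let P : D → G → ℂ := fun u => pj p (bb u) u χ.1
  let a : D → ℝ := fun u => ‖cb p (bb u) u χ.1 χ.1‖
  have hs := fun u => isSat_of_isPBlock hM (hb2 u).1
  have hZC : ∀ u : D, D ≤ CC (zpowers (u : G)) := fun u =>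
    (mem_CC_iff_le.mp (hDC u.2)).trans (CC_zpowers _).ge
  have h4 : ∀ u w : D, w ≠ u → classInner (P u) (P w) = 0 := fun u w hne => by
    refine inner_pj_eq_zero hM (hu u) (hu w) (hb2 u).1 (hb2 w).1 (fun g h1 h2 => hne ?_) _ hχ'
    have h5 := hb1 w
    have h6 := hZC w
    rw [h2, ← h1, ← conj_zpowers] at h5
    rw [← h1, ← conj_zpowers] at h6
    obtain ⟨t, ht, h7⟩ := Mx.exists_conj_of_major hp hmx (hZC u) h6 (hb1 u) h5
    have h8 := mem_CC.mp (mul_mem h7 (CC_anti (zpowers_le.2 u.2) (inv_mem (hst ht)))) _ (mem_zpowers _)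
    rw [mul_inv_cancel_right] at h8
    exact Subtype.ext (by rw [← h1, mul_assoc, h8, mul_inv_cancel_left])
  have h6 : ∑ u, a u ≤ 1 := by
    have e1 := norm_inner_sq_le (θ := ∑ u, P u) (classFun_sum _ fun u _ => pj_classFun _) χ
    have e2 : classInner (∑ u, P u) χ.1 = (∑ u, a u : ℝ) := by
      rw [inner_sum_left]
      push_cast
      exact Finset.sum_congr rfl fun u _ => by
        rw [← cb_eq_inner_pj' hM (hs u) rfl _ hχ', cb_self_eq_norm]
    have e3 : classInner (∑ u, P u) (∑ u, P u) = (∑ u, a u : ℝ) := by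
      rw [inner_sum_left]
      push_cast
      refine Finset.sum_congr rfl fun u _ => ?_
      rw [inner_sum_right, Finset.sum_eq_single u (fun w _ hw => h4 u w hw) (by simp),
        inner_pj_pj hM (hs u) (hu u) rfl, cb_self_eq_norm]
    have e4 : 0 ≤ ∑ u, a u := Finset.sum_nonneg fun _ _ => norm_nonneg _
    rw [e2, e3, Complex.norm_real, Real.norm_of_nonneg e4] at e1
    nlinarith
  have hDd := card_defectGroup hM hB ((isDefectGroup_iff_top hM hB).mpr hmx.isDef)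
  set d := blockDefect p B
  haveI : NeZero (p ^ d) := ⟨pow_ne_zero _ hM.1.ne_zero⟩
  have hn' : ∀ u : D, orderOf (u : G) ∣ p ^ d := fun u => hDd ▸ orderOf_dvd_natCard D u.2
  have h7 : ∀ (w : (ZMod (p ^ d))ˣ) (u : D),
      ‖cb p (bb u) ((u : G) ^ ex w) χ.1 χ.1‖ = a (u ^ ex w) := fun w u => by
    have e1 := eq_centralizer_pow_ex (hn' u) rfl w
    have e2 : zpowers ((u : G) ^ ex w) = zpowers (u : G) :=
      zpowers_pow_of_coprime ((coprime_ex w).coprime_dvd_right (hn' u))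
    have e3 := (hb1 u).unique hp hmx.pr (e2 ▸ hb1 (u ^ ex w))
    rw [cb_congr hM e1 (hb2 u).1 (hb2 (u ^ ex w)).1 e3]
    rfl
  set F : D → ℝ := fun u => av (p ^ d) fun k => ‖(p : ℂ) ^ d * cb p (bb u) ((u : G) ^ k) χ.1 χ.1‖
  have h8 : ∀ u : D, 1 ≤ F u := fun u => by
    have e1 := cb_mem_cyc hM (hb2 u).1 le_rfl (self_mem_of_eq rfl) (hn' u)
      (gen_of_irr χ.2) (gen_of_irr χ.2)
    rw [hb3] at e1
    refine one_le_av e1 (mul_ne_zero (pow_ne_zero _ (Nat.cast_ne_zero.mpr hM.1.ne_zero)) ?_)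
    rw [pow_one, Ne, cb_self_eq_zero]
    exact sp_ne_zero_of_major hM (hu u) rfl (hb2 u) (hb3 u) hχ
  have h9 : ∑ u, F u ≤ ∑ _u : D, (1 : ℝ) := by
    rw [← av_sum, Finset.sum_const, Finset.card_univ, ← Nat.card_eq_fintype_card, hDd]
    refine av_le fun w => ?_
    simp only [norm_mul, norm_pow, Complex.norm_natCast, h7, ← Finset.mul_sum, nsmul_eq_mul,
      Nat.cast_pow]
    refine mul_le_mul_of_nonneg_left (le_trans (le_of_eq ?_) h6) (by positivity)
    exact Equiv.sum_comp (powCoprime (G := D) (n := ex w) (by rw [hDd]; exact (coprime_ex w).symm)) a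
  have h10 := (Finset.sum_eq_sum_iff_of_le fun u _ => h8 u).1
    (le_antisymm (Finset.sum_le_sum fun u _ => h8 u) h9) 1 (Finset.mem_univ _)
  simp only [F, OneMemClass.coe_one, one_pow, av_const] at h10
  rw [show cb p (bb 1) 1 χ.1 χ.1 = _ from cb_eq_inner_pj' hM (hs 1) rfl _ hχ',
    show pj p (bb 1) ((1 : D) : G) χ.1 = _ from pj_one hM hB (hb2 1) hχ, ← mm_def, ← NB_cast hM χ hχ,
    Complex.norm_intCast] at h10
  exact_mod_cast (le_abs_self _).trans h10.ge

theorem deg_eq_of_st_le [Fact p.Prime] (hM : IsPModular p M) (hB : IsPBlock M B) {D : Subgroup G}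
    {e : (k M)[G]} (hmx : Mx p ⊤ (eB M B) D e) (hst : St ⊤ D e ≤ CC D) {χ ψ : IrrCharacter G}
    (hχ : χ ∈ B) (hψ : ψ ∈ B) (h0 : blockHeight p B χ.1 = 0) :
    charDegree χ.1 = charDegree ψ.1 := by
  have h1 := NB_le_one hM hB hmx hst hχ
  have h2 := NB_le_one hM hB hmx hst hψ
  have h3 := NB_ne_zero hM hB hχ h0 hψ
  obtain ⟨ε, h4, h5⟩ : ∃ ε : ℤ, ε * ε = 1 ∧ 1 ≤ ε * NB p B χ ψ := by
    rcases lt_or_gt_of_ne h3 with h | h
    · exact ⟨-1, by norm_num, by omega⟩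
    · exact ⟨1, by norm_num, by omega⟩
  set f := pRegularPart p χ.1 - (ε : ℂ) • pRegularPart p ψ.1 with hf
  have h6 : (p : ℂ) ^ blockDefect p B * classInner f f =
      (NB p B χ χ + ε * ε * NB p B ψ ψ - 2 * (ε * NB p B χ ψ) : ℤ) := by
    simp only [hf, ci_sub_left, ci_sub_right, ci_smul_left, ci_smul_right,
      inner_pReg_pReg, ← mm_def, map_intCast]
    push_cast
    rw [NB_cast hM χ hχ, NB_cast hM ψ hψ, NB_cast hM χ hψ, mm_symm ψ χ]
    ring
  have h7 : f = 0 := by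
    have h8 := congrArg Complex.re h6
    rw [← Nat.cast_pow, ← Complex.ofReal_natCast, Complex.re_ofReal_mul, Complex.intCast_re] at h8
    by_contra h9
    have h10 := mul_pos (Nat.cast_pos.2 (pow_pos hM.1.pos (blockDefect p B))) (ci_self_re_pos h9)
    rw [h8, h4, Int.cast_pos] at h10
    omega
  have h8 := congrFun (sub_eq_zero.1 h7) 1
  rw [Pi.smul_apply, pReg_one hM.1, pReg_one hM.1, irr_apply_one_eq χ.2,
    irr_apply_one_eq ψ.2, smul_eq_mul] at h8
  have h9 : (charDegree χ.1 : ℤ) = ε * charDegree ψ.1 := by exact_mod_cast h8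
  rcases Int.eq_one_or_neg_one_of_mul_eq_one h4 with rfl | rfl
  · omega
  · have := charDegree_pos χ.2
    omega

end CA.BlkOT
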