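import Cfsg.Agent.Lib.Block.BlkQuo

/-!
# The number of Brauer characters of a dominated block
-/

set_option autoImplicit false
set_option linter.unusedSectionVars false

namespace CA.BlkRk

open Cfsg MonoidAlgebra CA.BlkAlg CA.BlkVal CA.BlkOmega CA.BlkRed CA.BlkCore CA.BlkReg CA.BlkQuo
  CChar.CharFun CChar.CharOrth Subgroup
open CA.H11Map (mp)
open CA.H11Brg (chiL_mp mp_mem_Z)
open scoped ComplexConjugate

variable {p : ℕ} {M : Ideal AlgInt} {G Q : Type*} [Group G] [Group Q] [Finite G] [Finite Q]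
  {φ : G →* Q}

/-- Transfer of `blockRank` along a linear map that is injective on `p`-regular parts. -/
theorem blockRank_eq_of_map (F : (Q → ℂ) →ₗ[ℂ] (G → ℂ))
    (hF : ∀ f, (∀ y, p ∣ orderOf y → f y = 0) → F f = 0 → f = 0) {A : Set (IrrCharacter G)}
    {a : Set (IrrCharacter Q)}
    (h1 : ∀ ψ ∈ a, F (pRegularPart p ψ.1) ∈
      Submodule.span ℂ ((fun χ : IrrCharacter G => pRegularPart p χ.1) '' A))
    (h2 : ∀ χ ∈ A, ∃ f ∈ Submodule.span ℂ ((fun ψ : IrrCharacter Q => pRegularPart p ψ.1) '' a),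
      F f = pRegularPart p χ.1) : blockRank p A = blockRank p a := by
  set W := Submodule.span ℂ ((fun ψ : IrrCharacter Q => pRegularPart p ψ.1) '' a) with hW
  have e : Submodule.span ℂ ((fun χ : IrrCharacter G => pRegularPart p χ.1) '' A) = W.map F := by
    refine le_antisymm (Submodule.span_le.2 ?_) (Submodule.map_le_iff_le_comap.2
      (Submodule.span_le.2 ?_))
    · rintro _ ⟨χ, hχ, rfl⟩; exact h2 χ hχ
    · rintro _ ⟨ψ, hψ, rfl⟩; exact h1 ψ hψ
  have hi : Function.Injective (F.domRestrict W) := (injective_iff_map_eq_zero _).2 fun f hf => by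
    refine Subtype.ext (hF _ (fun y hy => ?_) hf)
    have : W ≤ LinearMap.ker (LinearMap.proj (R := ℂ) (φ := fun _ : Q => ℂ) y) :=
      Submodule.span_le.2 (by rintro _ ⟨ψ, -, rfl⟩; exact pReg_of_dvd _ hy)
    exact this f.2
  show Module.finrank ℂ _ = Module.finrank ℂ W
  rw [e, ← LinearMap.finrank_range_of_inj hi, LinearMap.range_domRestrict]

/-- If the `p`-regular elements centralize the `p`-group `ker φ`, then `l` is preserved. -/
theorem blockRank_preimage (hφ : Function.Surjective φ) (hM : IsPModular p M)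
    (hN : IsPGroup p φ.ker) (h : ∀ g, ¬ p ∣ orderOf g → g ∈ centralizer (φ.ker : Set G))
    {A : Set (IrrCharacter G)} (hA : IsSat M A) :
    blockRank p A = blockRank p (infl hφ ⁻¹' A) := by
  have := Fintype.ofFinite G
  have := Fintype.ofFinite Q
  have hp : p.Prime := hM.1
  have hF : ∀ f : Q → ℂ, regL p G (fun g => pRegularPart p f (φ g)) =
      pRegularPart p fun g => f (φ g) := fun f => funext fun g => by
    by_cases hg : p ∣ orderOf g
    · rw [regL_apply, pReg_of_dvd _ hg, pReg_of_dvd _ hg]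
    · rw [regL_apply, pReg_of_not_dvd _ hg, pReg_of_not_dvd _ hg,
        pReg_of_not_dvd _ (not_dvd_orderOf_map φ hg)]
  refine blockRank_eq_of_map ((regL p G).comp (LinearMap.funLeft ℂ ℂ φ)) (fun f h0 hf => ?_)
    (fun ψ hψ => Submodule.subset_span ⟨_, hψ, (hF ψ.1).symm⟩) fun χ hχ => ?_
  · funext y
    by_cases hy : p ∣ orderOf y
    · exact h0 y hy
    · obtain ⟨g, hg, rfl⟩ := exists_regular_preimage hφ hp hy
      exact (pReg_of_not_dvd (fun g => f (φ g)) hg).symm.trans (congrFun hf g)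
  · set z := mp φ (sR p G χ.1) with hz
    have hZ : z ∈ Z ℂ Q := mp_mem_Z hφ (sR_mem_Z (irr_classFun χ.2))
    have hc : IsClassFunction Q fun y => z.coeff y⁻¹ := fun y u => by
      have := mem_Z_iff_coeff.1 hZ u y⁻¹
      simpa [mul_assoc] using this
    refine ⟨regL p Q fun y => z.coeff y⁻¹, ?_, ?_⟩
    · rw [classFun_eq_sum hc, map_sum]
      refine Submodule.sum_mem _ fun ψ _ => ?_
      rw [map_smul]
      by_cases hψ : infl hφ ψ ∈ A
      · exact Submodule.smul_mem _ _ (Submodule.subset_span ⟨ψ, hψ, rfl⟩)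
      · have h1 : ∑ y, z.coeff y⁻¹ * conj (ψ.1 y) = chiL ψ.1 z := by
          rw [chiL_apply, ← Equiv.sum_comp (Equiv.inv Q)]
          simp [← char_apply_inv (char_of_irr ψ.2)]
        rw [ci_def, h1, hz, chiL_mp, ← infl_val hφ, chiL_sR _ (char_of_irr (infl hφ ψ).2),
          inner_pReg_eq_zero hM hA hχ hψ]
        simp
    · refine (hF fun y => z.coeff y⁻¹).trans (funext fun g => ?_)
      by_cases hg : p ∣ orderOf g
      · rw [pReg_of_dvd _ hg, pReg_of_dvd _ hg]
      · have hg' : ¬ p ∣ orderOf g⁻¹ := by rwa [orderOf_inv]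
        rw [pReg_of_not_dvd _ hg, ← map_inv, hz, coeff_mp_of_unique φ _ fun x hx h0 =>
          eq_of_regular hp hN hg' (h _ hg') (fun hd => h0 ?_) hx, coeff_sR, inv_inv]
        rw [coeff_sR, pReg_of_dvd _ (by rwa [orderOf_inv])]

end CA.BlkRk
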