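import Cfsg.Agent.Lib.Block.H12Brg
import Cfsg.Agent.Lib.Block.H11Fus
import Cfsg.Agent.Lib.Block.BlkQuo
import Cfsg.Agent.Lib.Block.BlkCov
import Cfsg.Agent.Lib.Block.BlkZero
import Cfsg.Agent.Lib.Char.Gall
import Cfsg.Agent.Lib.Char.CharProd

/-!
# The Alperin–Dade theorem on isomorphic principal blocks
-/

set_option autoImplicit false
set_option linter.unusedSectionVars false

namespace CA.H12Dade

open Cfsg MonoidAlgebra CA.BlkAlg CA.BlkVal CA.BlkOmega CA.BlkRed CA.BlkCore CA.BlkDefect CA.SylIn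
  CA.H11Loc CA.H11Amb CA.H11Map CA.H11Max CA.H11Brg CA.H11Fus CA.H12Brg CA.H12Cover CA.H12Graded
  CA.BlkCov CChar.CharFun CChar.CharOrth CChar.CharInt CChar.CharKer CChar.CharProd Subgroup
open scoped ComplexConjugate

section alg
variable {k : Type*} [Field k] {G X : Type*} [Group G] [Finite G] [Group X] [Finite X]

theorem nil_of_ker (φ : G →* X) {e x : k[G]} (he : Blk φ.ker e) (h1 : aug k G e = 1)
    (hx : x ∈ Fixed k φ.ker) (hxe : x * e = x) (h0 : mp φ x = 0) : IsNilpotent x := by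
  classical
  have := Fintype.ofFinite G
  refine isNilpotent_of_graded (N := φ.ker) {x | x ∈ Fixed k φ.ker ∧ x * e = x ∧ mp φ x = 0}
    (fun x hx => hx.1) (fun x hx y hy => ⟨mul_mem hx.1 hy.1, by rw [mul_assoc, hy.2.1], by
      rw [map_mul, hx.2.2, zero_mul]⟩) (fun x hx q => ⟨cut_coset_mem_fixed hx.1 q,
      by rw [← cut_coset_mul he.supp, hx.2.1], ext_coeff fun y => ?_⟩) (fun x hx hs => ?_)
    ⟨hx, hxe, h0⟩
  · obtain ⟨g, rfl⟩ := QuotientGroup.mk_surjective q
    have e1 : ∀ z : G, z ∈ coset φ.ker g ↔ φ z = φ g := fun z => by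
      rw [mem_coset, QuotientGroup.eq, MonoidHom.mem_ker, map_mul, map_inv, inv_mul_eq_one]
    rw [BlkQuo.coeff_mp_sum]
    by_cases hy : φ g = y
    · rw [← hx.2.2, BlkQuo.coeff_mp_sum]
      exact Finset.sum_congr rfl fun z hz => coeff_cut_of_mem _
        ((e1 z).2 ((Finset.mem_filter.1 hz).2.trans hy.symm))
    · exact Finset.sum_eq_zero fun z hz => coeff_cut_of_not_mem _
        fun h => hy (((e1 z).1 h).symm.trans (Finset.mem_filter.1 hz).2)
  · have hz : x ∈ ZA k φ.ker := mem_ZA.2 ⟨hs, hx.1⟩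
    rw [← hx.2.1, ← IsLoc.lam_eq_zero_iff (comm_ZA _) he hz, lam_of_aug he h1 hz, ← aug_mp φ,
      hx.2.2, map_zero]

theorem mul_eq_smul {x : k[G]} (hx : ∀ g, single g (1 : k) * x = x) (b : k[G]) :
    b * x = aug k G b • x := by
  have := Fintype.ofFinite G
  conv_lhs => rw [eq_sum_single b]
  simp only [Finset.sum_mul, smul_mul_assoc, hx, aug_eq_sum, Finset.sum_smul]

theorem diag_zero {e : k[X]} (h : ∀ g, single g (1 : k) * e = e) (hZ : e ∈ Z k X)
    (h1 : aug k X e = 1) : mp (.inl X X) e * (1 - mp (.inr X X) e) *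
      mp ((MonoidHom.id X).prod (.id X)) e = 0 := by
  set a := mp (.inl X X) e with ha
  set d := mp ((MonoidHom.id X).prod (.id X)) e with hd
  have h2 : ∀ y : X, Commute (single ((1 : X), y) (1 : k)) a := fun y => by
    have := Fintype.ofFinite X
    rw [ha, eq_sum_single e, map_sum]
    refine Commute.sum_right _ _ _ fun g _ => ?_
    rw [map_smul, mp_single]
    exact Commute.smul_right (by simp [Commute, SemiconjBy, single_mul_single]) _
  have h3 : ∀ x : X, single (x, (1 : X)) (1 : k) * a = a := fun x => by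
    have := congrArg (mp (.inl X X)) (h x)
    rwa [map_mul, mp_single] at this
  have h4 : ∀ x : X, a * single (x, (1 : X)) (1 : k) = a := fun x => by
    have := congrArg (mp (.inl X X)) ((commute_of_mem_Z hZ _).eq.trans (h x))
    rwa [map_mul, mp_single] at this
  have h5 : ∀ x : X, single (x, x) (1 : k) * d = d := fun x => by
    have := congrArg (mp ((MonoidHom.id X).prod (.id X))) (h x)
    rwa [map_mul, mp_single] at this
  have h6 : ∀ g : X × X, single g (1 : k) * (a * d) = a * d := fun ⟨x, y⟩ => by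
    have e1 : single (x, y) (1 : k) = single (x, (1 : X)) 1 * single ((1 : X), y) 1 := by
      simp [single_mul_single]
    have e2 : single (y, y) (1 : k) = single (y, (1 : X)) 1 * single ((1 : X), y) 1 := by
      simp [single_mul_single]
    rw [e1, mul_assoc, ← mul_assoc _ a, (h2 y).eq, ← h4 y, mul_assoc a, ← e2, mul_assoc a, h5,
      ← mul_assoc, h4, h3]
  have h7 : Commute (mp (.inr X X) e) a := by
    have := Fintype.ofFinite X
    rw [eq_sum_single e, map_sum]
    refine Commute.sum_left _ _ _ fun g _ => ?_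
    rw [map_smul, mp_single]
    exact (h2 g).smul_left _
  rw [mul_sub, mul_one, sub_mul, ← h7.eq, mul_assoc, mul_eq_smul h6, aug_mp, h1, one_smul, sub_self]

end alg

variable {p : ℕ} [hp : Fact p.Prime] {M : Ideal AlgInt} {G : Type*} [Group G] [Fintype G]
  {N : Subgroup G} [hN : N.Normal] {χ ψ : IrrCharacter G}

theorem chiL_prod_mul {A B : Type*} [Group A] [Group B] [Finite A] [Finite B] (χ : IrrCharacter A)
    (μ : IrrCharacter B) {z : ℂ[A]} (hz : z ∈ Z ℂ A) {w : ℂ[B]} (hw : w ∈ Z ℂ B) :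
    mp (.inl A B) z ∈ Z ℂ (A × B) ∧ mp (.inr A B) w ∈ Z ℂ (A × B) ∧
    omega (fun x : A × B => χ.1 x.1 * μ.1 x.2) (mp (.inl A B) z) = omega χ.1 z ∧
    omega (fun x : A × B => χ.1 x.1 * μ.1 x.2) (mp (.inr A B) w) = omega μ.1 w := by
  have := Fintype.ofFinite A
  have := Fintype.ofFinite B
  have h1 := irr_apply_one_ne_zero χ.2
  have h2 := irr_apply_one_ne_zero μ.2
  refine ⟨mem_Z_iff_cjA.2 fun ⟨u, v⟩ => ?_, mem_Z_iff_cjA.2 fun ⟨u, v⟩ => ?_, ?_, ?_⟩
  · conv_rhs => rw [← mem_Z_iff_cjA.1 hz u]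
    rw [eq_sum_single z]
    simp [mp_single, cjA_single]
  · conv_rhs => rw [← mem_Z_iff_cjA.1 hw v]
    rw [eq_sum_single w]
    simp [mp_single, cjA_single]
  · rw [omega_mp, omega_eq_sum, omega_eq_sum]
    exact Finset.sum_congr rfl fun g _ => by simp; field_simp
  · rw [omega_mp, omega_eq_sum, omega_eq_sum]
    exact Finset.sum_congr rfl fun g _ => by simp; field_simp

theorem inner_mul_eq_zero (hM : IsPModular p M) (h : ∀ μ : IrrCharacter (G ⧸ N),
      BlkQuo.infl (QuotientGroup.mk'_surjective N) μ ∈ principalBlock M G → μ = irrOne _)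
    (hχ : χ ∈ principalBlock M G) (hψ : ψ ∈ principalBlock M G) {μ : IrrCharacter (G ⧸ N)}
    (hμ : μ ≠ irrOne _) : classInner ((fun g : G => μ.1 g) * χ.1) ψ.1 = 0 := by
  have hs := QuotientGroup.mk'_surjective N
  set π := QuotientGroup.mk' N
  have hB : IsPBlock M (principalBlock M G) := isPBlock_principalBlock
  have hS := isSat_of_isPBlock hM hB
  have hA : BlkQuo.infl hs ⁻¹' principalBlock M G = {irrOne _} :=
    Set.eq_singleton_iff_unique_mem.2 ⟨by
      rw [Set.mem_preimage, BlkQuo.infl_irrOne]; exact irrOne_mem_principalBlock hM, h⟩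
  have hS' : IsSat M {irrOne (G ⧸ N)} := hA ▸ BlkQuo.isSat_preimage hs hM hS
  let δ : G →* G × (G ⧸ N) := (MonoidHom.id G).prod π
  have hδ : Function.Injective δ := fun a b e => congrArg Prod.fst e
  have hi : Function.Injective (MonoidHom.inl G (G ⧸ N)) := fun a b e => congrArg Prod.fst e
  obtain ⟨z1, z2, o1, o2⟩ := chiL_prod_mul χ μ (fB_mem_Z (principalBlock M G))
    (fB_mem_Z {irrOne (G ⧸ N)})
  set a := mp (.inl G (G ⧸ N)) (fB (principalBlock M G)) with ha
  set b := mp (.inr G (G ⧸ N)) (fB {irrOne (G ⧸ N)}) with hb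
  set d := mp δ (fB (principalBlock M G)) with hd
  have z3 : a * (1 - b) ∈ Z ℂ (G × (G ⧸ N)) := mul_mem z1 (sub_mem (one_mem _) z2)
  have ia : a * a = a := by rw [ha, ← map_mul, fB_mul_self]
  have ib : b * b = b := by rw [hb, ← map_mul, fB_mul_self]
  have id' : d * d = d := by rw [hd, ← map_mul, fB_mul_self]
  have i1 : a * (1 - b) * d * (a * (1 - b) * d) = a * (1 - b) * d := by
    rw [mul_assoc, ← mul_assoc d, ← (commute_of_mem_Z z3 d).eq, mul_assoc _ d, id', ← mul_assoc,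
      mul_assoc a, ← mul_assoc (1 - b), ← (commute_of_mem_Z z1 _).eq, ← mul_assoc, ← mul_assoc, ia,
      mul_assoc a, sub_mul, one_mul, mul_sub b, ib, mul_one, sub_self, sub_zero]
  have oa : a ∈ OG M _ := BlkQuo.mp_mem_OG _ (fB_mem_OG_of_isSat hS)
  have ob : b ∈ OG M _ := BlkQuo.mp_mem_OG _ (fB_mem_OG_of_isSat hS')
  have od : d ∈ OG M _ := BlkQuo.mp_mem_OG _ (fB_mem_OG_of_isSat hS)
  have o3 : a * (1 - b) ∈ OG M _ := mul_mem oa (sub_mem (one_mem _) ob)
  have h0 : a * (1 - b) * d = 0 := by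
    refine eq_zero_of_idem_of_red_eq_zero (mul_mem o3 od) i1 (eq_zero_of_idem_nil (by
      rw [← red_mul (mul_mem o3 od) (mul_mem o3 od), i1]) ?_)
    have hk : (π.prodMap (MonoidHom.id (G ⧸ N))).ker = N.map (.inl G (G ⧸ N)) := by
      ext ⟨x, y⟩
      simp only [MonoidHom.mem_ker, MonoidHom.prodMap_def, MonoidHom.prod_apply, Prod.mk_eq_one,
        mem_map, MonoidHom.inl_apply, Prod.mk.injEq, π, MonoidHom.comp_apply, MonoidHom.coe_fst,
        MonoidHom.coe_snd, MonoidHom.id_apply, QuotientGroup.mk'_apply, QuotientGroup.eq_one_iff]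
      exact ⟨fun h => ⟨x, h.1, rfl, h.2.symm⟩, fun ⟨_, h1, h2, h3⟩ => ⟨h2 ▸ h1, h3.symm⟩⟩
    have he := eB_mul_emb_of_cov hM (isSat_of_isPBlock hM isPBlock_principalBlock)
      (cjS_principal (N := N) hM) hB (cov_principal hM N)
    have e1 : red M (a * (1 - b) * d) = mp (.inl G (G ⧸ N)) (eB M (principalBlock M G)) *
        (1 - mp (.inr G (G ⧸ N)) (eB M {irrOne (G ⧸ N)})) * mp δ (eB M (principalBlock M G)) := by
      rw [red_mul o3 od, red_mul oa (sub_mem (one_mem _) ob), red_sub (one_mem _) ob, red_one, ha,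
        hb, hd, BlkQuo.red_mp _ (fB_mem_OG_of_isSat hS), BlkQuo.red_mp _ (fB_mem_OG_of_isSat hS'),
        BlkQuo.red_mp _ (fB_mem_OG_of_isSat hS)]
      rfl
    have hf : red M (a * (1 - b) * d) ∈ Fixed (k M) (N.map (.inl G (G ⧸ N))) := by
      refine red_mem_fixed (mul_mem (mem_fixed_of_mem_Z z3 _) ?_)
      rintro _ ⟨x, hx, rfl⟩
      rw [show MonoidHom.inl G (G ⧸ N) x = δ x from Prod.ext rfl
        ((QuotientGroup.eq_one_iff x).2 hx).symm, hd, cjA_mp, mem_Z_iff_cjA.1 (fB_mem_Z _)]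
    have hblk := (blk_mp_iff hi).2 (blk_ab hM (isPBlock_principalBlock (M := M) (G := N)))
    refine nil_of_ker (π.prodMap (MonoidHom.id (G ⧸ N))) (hk ▸ hblk) (by
      rw [aug_mp, aug_ab_principal hM]) (hk ▸ hf) ?_ ?_
    · rw [← (commute_of_supp_of_fixed hblk.supp hf).eq, e1, ← mul_assoc, ← mul_assoc, ← map_mul,
        ab, he]
    have e2 : mp π (eB M (principalBlock M G)) = eB M {irrOne (G ⧸ N)} := by
      rw [BlkQuo.mp_eB hs hS, hA]
    have := diag_zero (e := eB M {irrOne (G ⧸ N)}) (fun g => ext_coeff fun x => by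
      simp [coeff_single_mul_apply, BlkZero.blockCoeff_singleton, irrOne_apply]) (eB_mem_Z _)
      (by rw [← e2, aug_mp, aug_eB_principal hM])
    rw [e1, map_mul, map_mul, map_sub, map_one, mp_mp, mp_mp, mp_mp, ← this]
    refine congrArg₂ (· * ·) (congrArg₂ (· * ·) ?_ rfl) ?_ <;> rw [← e2, mp_mp] <;> rfl
  have h1 := congrArg (chiL fun x : G × (G ⧸ N) => χ.1 x.1 * μ.1 x.2) h0
  have hirr := irr_prod_mul χ.2 μ.2
  rw [chiL_mul_of_Z hirr z3, omega_mul_of_Z hirr z1, map_sub,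
    omega_one (irr_apply_one_ne_zero hirr), o1, o2, omega_fB_of_mem hχ, omega_fB_of_not_mem (B := {irrOne _}) hμ,
    sub_zero, one_mul, one_mul, hd, chiL_mp, map_zero] at h1
  by_contra h2
  refine (chiL_fB_ne_zero_iff (char_mul (char_of_irr χ.2) (char_inflate (char_of_irr μ.2))) _).2
    ⟨ψ, hψ, by rwa [mul_comm]⟩ h1

theorem inner_res_eq [Fintype N] (hM : IsPModular p M) (h : ∀ μ : IrrCharacter (G ⧸ N),
      BlkQuo.infl (QuotientGroup.mk'_surjective N) μ ∈ principalBlock M G → μ = irrOne _)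
    (hχ : χ ∈ principalBlock M G) (hψ : ψ ∈ principalBlock M G) :
    classInner (fun n : N => χ.1 n) (fun n : N => ψ.1 n) = classInner χ.1 ψ.1 := by
  rw [← CA.Ind.inner_ind_left N _ (irr_classFun ψ.2), Gall.indFun_res_eq_sum (irr_classFun χ.2),
    CChar.CharFun.inner_sum_left, Finset.sum_eq_single (irrOne _) (fun μ _ hμ => by
      rw [CChar.CharFun.inner_smul_left, inner_mul_eq_zero hM h hχ hψ hμ, mul_zero]) (by simp)]
  congr 1
  funext g; simp [irrOne_apply]

/-- Alperin–Dade. -/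
theorem dade (hM : IsPModular p M) (h : ∀ μ : IrrCharacter (G ⧸ N),
      BlkQuo.infl (QuotientGroup.mk'_surjective N) μ ∈ principalBlock M G → μ = irrOne _) :
    (∀ χ ∈ principalBlock M G, ∃ θ ∈ principalBlock M N, ∀ n : N, χ.1 n = θ.1 n) ∧
      ∀ θ ∈ principalBlock M N, ∃! χ : IrrCharacter G,
        χ ∈ principalBlock M G ∧ ∀ n : N, χ.1 n = θ.1 n := by
  have := Fintype.ofFinite N
  have h1 : ∀ χ ∈ principalBlock M G, IsIrrCharacter N fun n : N => χ.1 n := fun χ hχ =>
    irr_of_char_of_inner_self (char_restrict (char_of_irr χ.2) N)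
      ((inner_res_eq hM h hχ hχ).trans (inner_irr_self χ.2))
  refine ⟨fun χ hχ => ⟨⟨_, h1 χ hχ⟩, under_mem_principal hM hχ (over_of_ext fun _ => rfl),
    fun _ => rfl⟩, fun θ hθ => ?_⟩
  obtain ⟨χ, hχ, h2⟩ := exists_over_of_cov hM isPBlock_principalBlock
    (isSat_of_isPBlock hM isPBlock_principalBlock) (cov_principal hM N) hθ
  have h3 := irr_eq_of_inner_ne_zero (h1 χ hχ) θ.2 (over_iff.1 h2)
  refine ⟨χ, ⟨hχ, congrFun h3⟩, fun ψ h4 => Subtype.ext (irr_eq_of_inner_ne_zero ψ.2 χ.2 ?_)⟩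
  rw [← inner_res_eq hM h h4.1 hχ, h3, funext h4.2, inner_irr_self θ.2]
  exact one_ne_zero

theorem eq_one_of_sup (hM : IsPModular p M) (hi : ¬ p ∣ N.index) {P : Subgroup G}
    (hP : ¬ p ∣ P.index) (hs : N ⊔ centralizer (P : Set G) = ⊤) (μ : IrrCharacter (G ⧸ N))
    (h : BlkQuo.infl (QuotientGroup.mk'_surjective N) μ ∈ principalBlock M G) : μ = irrOne _ := by
  have := Fintype.ofFinite (G ⧸ N)
  have h0 : v M (μ.1 1) = 1 := by
    rw [irr_apply_one_eq μ.2, v_natCast_eq_one_iff hM]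
    exact fun e => hi (e.trans (charDegree_dvd_card μ.2))
  have h1 : ∀ q, res M (μ.1 q) = res M (μ.1 1) := fun q => by
    obtain ⟨g, rfl⟩ := QuotientGroup.mk_surjective q
    obtain ⟨n, hn, x, hx, rfl⟩ := mem_sup_of_normal_left.1 (hs ▸ mem_top g)
    have h2 := res_centralChar_eq_of_mem hM isPBlock_principalBlock h
      (irrOne_mem_principalBlock hM) x
    have h3 : (((centralizer ({x} : Set G)).index : ℕ) : k M) ≠ 0 := fun e =>
      hP (((natCast_k_eq_zero_iff hM _).1 e).trans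
        (index_dvd_of_le (le_centralizer_singleton_iff.2 hx)))
    simp only [centralChar, BlkQuo.infl_apply, irrOne_apply, map_one, mul_one, div_one] at h2
    rw [res_div (mul_mem (natCast_mem_O _) (irr_mem_O _ _)) h0, res_mul (natCast_mem_O _)
      (irr_mem_O _ _), res_natCast, div_eq_iff ((res_ne_zero_iff (irr_mem_O _ _)).2 h0),
      mul_right_inj' h3] at h2
    rw [QuotientGroup.mk_mul, (QuotientGroup.eq_one_iff n).2 hn, one_mul]
    exact h2
  by_contra h2
  have h3 := congrArg (res M) (sum_irr_eq_zero μ.2 fun e => h2 (Subtype.ext e))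
  rw [res_sum _ _ fun _ _ => irr_mem_O _ _, Finset.sum_congr rfl fun q _ => h1 q, Finset.sum_const,
    Finset.card_univ, ← Nat.card_eq_fintype_card, res_zero, nsmul_eq_mul, mul_eq_zero,
    natCast_k_eq_zero_iff hM] at h3
  exact h3.elim hi ((res_ne_zero_iff (irr_mem_O _ _)).2 h0)

end CA.H12Dade
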