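import Cfsg.Agent.Lib.Block.BlkRk
import Cfsg.Agent.Lib.Block.H12Dade
import Cfsg.Agent.Lib.Block.H12Har
import Cfsg.Agent.Lib.Block.H11Cy2
import Cfsg.Agent.Lib.Block.H11Prin
import Cfsg.Agent.Lib.Block.BlkPr
import Cfsg.Agent.Lib.Block.BlkIBr
import Cfsg.Agent.Lib.Char.Ind2
import Cfsg.Agent.Lib.Grp.L0Syl
import Cfsg.Agent.S4646
import Cfsg.Agent.S4511

/-!
# Invariants of principal blocks with abelian Sylow subgroups
-/

set_option autoImplicit false
set_option linter.unusedSectionVars false

namespace CA.H10Ab2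

section ee
open Subgroup
variable {G Q : Type*} [Group G] [Group Q]

/-- the order of the automizer -/
noncomputable abbrev ee (P : Subgroup G) : ℕ :=
  (centralizer (P : Set G)).relIndex (normalizer (P : Set G))

/-- the order of a stabilizer in the automizer -/
noncomputable abbrev eu (P : Subgroup G) (u : G) : ℕ :=
  (centralizer (P : Set G)).relIndex (normalizer (P : Set G) ⊓ centralizer {u})

theorem relIndex_map (φ : G →* Q) {P K : Subgroup G} (hφ : ∀ x ∈ P, φ x = 1 → x = 1)
    (hK : K ≤ normalizer (P : Set G)) :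
    (centralizer ((P.map φ : Subgroup Q) : Set Q)).relIndex (K.map φ) =
      (centralizer (P : Set G)).relIndex K := by
  rw [← relIndex_comap, ← inf_relIndex_right, ← inf_relIndex_right (centralizer (P : Set G))]
  congr 1
  ext g
  refine and_congr_left fun hg => ⟨fun h x hx => ?_, fun h => ?_⟩
  · have h1 := h (φ x) (mem_map_of_mem φ hx)
    have h2 : x⁻¹ * (g * x * g⁻¹) ∈ P := mul_mem (inv_mem hx) ((mem_normalizer_iff.1 (hK hg) x).1 hx)
    have h3 := hφ _ h2 (by
      simp only [map_mul, map_inv]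
      rw [← h1]; group)
    rw [inv_mul_eq_one, eq_mul_inv_iff_mul_eq] at h3
    exact h3
  · rintro _ ⟨x, hx, rfl⟩
    rw [← map_mul, ← map_mul, h x hx]

theorem relIndex_of_sup {P K : Subgroup G} (hK : K ≤ normalizer (P : Set G))
    (h : normalizer (P : Set G) ≤ K ⊔ centralizer (P : Set G)) :
    (centralizer (P : Set G)).relIndex K = ee P := by
  have hC : centralizer (P : Set G) ≤ normalizer (P : Set G) := centralizer_le_normalizer _
  have h1 : K.subgroupOf (normalizer (P : Set G)) ⊔
      (centralizer (P : Set G)).subgroupOf (normalizer (P : Set G)) = ⊤ := by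
    rw [← subgroupOf_sup hK hC, subgroupOf_eq_top]; exact h
  rw [← relIndex_subgroupOf hK, ← relIndex_sup_right, h1, relIndex_top_right]; rfl

theorem ee_map (φ : G →* Q) {P : Subgroup G} (hφ : ∀ x ∈ P, φ x = 1 → x = 1)
    (h : normalizer ((P.map φ : Subgroup Q) : Set Q) ≤
      (normalizer (P : Set G)).map φ ⊔ centralizer ((P.map φ : Subgroup Q) : Set Q)) :
    ee (P.map φ) = ee P := by
  rw [← relIndex_of_sup (le_normalizer_map φ) h, relIndex_map φ hφ le_rfl]

theorem ee_subgroupOf {P H : Subgroup G} (h : P ≤ H) :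
    ee (P.subgroupOf H) = (centralizer (P : Set G)).relIndex (normalizer (P : Set G) ⊓ H) := by
  rw [ee, ← relIndex_map H.subtype (fun x _ hx => Subtype.ext hx) le_rfl, ← subgroupOf_normalizer_eq h,
    map_subgroupOf_eq_of_le h, subgroupOf_map_subtype]

theorem ee_cent {P : Subgroup G} {u : G} (h : P ≤ centralizer {u}) :
    ee (P.subgroupOf (centralizer {u})) = eu P u := ee_subgroupOf h

theorem eu_mul (P : Subgroup G) (u : G) :
    eu P u * (centralizer {u}).relIndex (normalizer (P : Set G)) =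
      (centralizer (P : Set G) ⊓ centralizer {u}).relIndex (normalizer (P : Set G)) := by
  rw [eu, inf_comm, relIndex_inf_mul_relIndex]

theorem cent_le {P : Subgroup G} {u : G} (h : u ∈ P) : centralizer (P : Set G) ≤ centralizer {u} :=
  centralizer_le (Set.singleton_subset_iff.2 h)

theorem eu_mul' {P : Subgroup G} {u : G} (h : u ∈ P) :
    eu P u * (centralizer {u}).relIndex (normalizer (P : Set G)) = ee P := by
  rw [eu_mul, inf_eq_left.2 (cent_le h)]

theorem eu_dvd {P : Subgroup G} {u : G} (h : u ∈ P) : eu P u ∣ ee P := Dvd.intro _ (eu_mul' h)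

theorem ee_ne_zero [Finite G] (P : Subgroup G) : ee P ≠ 0 := index_ne_zero_of_finite

theorem eu_eq_iff [Finite G] {P : Subgroup G} {u : G} (h : u ∈ P) :
    eu P u = ee P ↔ normalizer (P : Set G) ≤ centralizer {u} := by
  rw [← relIndex_eq_one]
  have h1 := eu_mul' h
  have h2 := ee_ne_zero P
  constructor
  · intro e
    rw [e] at h1
    exact (mul_eq_left₀ h2).1 h1
  · intro e
    rwa [e, mul_one] at h1

theorem eu_one (P : Subgroup G) : eu P 1 = ee P := by
  have : centralizer ({1} : Set G) = ⊤ := eq_top_iff.2 fun g _ => mem_centralizer_singleton_iff.2 (by simp)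
  rw [eu, this, inf_top_eq]

theorem ee_prod (P : Subgroup G) (R : Subgroup Q) [Finite G] [Finite Q] :
    ee (P.prod R) = ee P * ee R := by
  have h1 : centralizer ((P.prod R : Subgroup (G × Q)) : Set (G × Q)) =
      (centralizer (P : Set G)).prod (centralizer (R : Set Q)) := by
    ext ⟨g, y⟩
    refine ⟨fun h => ⟨fun x hx => ?_, fun x hx => ?_⟩, fun h x hx => ?_⟩
    · exact congrArg Prod.fst (h (x, 1) ⟨hx, R.one_mem⟩)
    · exact congrArg Prod.snd (h (1, x) ⟨P.one_mem, hx⟩)
    · exact Prod.ext (h.1 _ hx.1) (h.2 _ hx.2)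
  have h2 : normalizer ((P.prod R : Subgroup (G × Q)) : Set (G × Q)) =
      (normalizer (P : Set G)).prod (normalizer (R : Set Q)) := by
    ext ⟨g, y⟩
    simp only [mem_prod, mem_normalizer_iff]
    refine ⟨fun h => ⟨fun x => ?_, fun x => ?_⟩, fun h x => and_congr (h.1 _) (h.2 _)⟩
    · simpa using h (x, 1)
    · simpa using h (1, x)
  have key : ∀ {X : Type _} [Group X] [Finite X] {A B : Subgroup X}, A ≤ B →
      A.relIndex B * Nat.card A = Nat.card B := fun {X} _ _ A B h => by
    rw [← Nat.card_congr (subgroupOfEquivOfLe h).toEquiv]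
    exact index_mul_card _
  have key' : ∀ {X : Type _} [Group X] [Finite X] {A B : Subgroup X}, A ≤ B →
      A.relIndex B * Nat.card A = Nat.card B := fun {X} _ _ A B h => by
    rw [← Nat.card_congr (subgroupOfEquivOfLe h).toEquiv]
    exact index_mul_card _
  have key'' : ∀ {X : Type _} [Group X] [Finite X] {A B : Subgroup X}, A ≤ B →
      A.relIndex B * Nat.card A = Nat.card B := fun {X} _ _ A B h => by
    rw [← Nat.card_congr (subgroupOfEquivOfLe h).toEquiv]
    exact index_mul_card _
  have h3 := key (centralizer_le_normalizer ((P.prod R : Subgroup (G × Q)) : Set (G × Q)))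
  have h4 := key' (centralizer_le_normalizer (P : Set G))
  have h5 := key'' (centralizer_le_normalizer (R : Set Q))
  conv at h3 => rhs; rw [h2, Nat.card_congr (prodEquiv _ _).toEquiv, Nat.card_prod, ← h4, ← h5]
  conv at h3 => lhs; arg 2; rw [h1, Nat.card_congr (prodEquiv _ _).toEquiv, Nat.card_prod]
  refine Nat.eq_of_mul_eq_mul_right (Nat.mul_pos (Nat.card_pos (α := centralizer (P : Set G)))
    (Nat.card_pos (α := centralizer (R : Set Q)))) (h3.trans (by ring))

variable {p : ℕ} [hp : Fact p.Prime] [Finite G] [Finite Q]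

theorem not_dvd_ee (P : Sylow p G) (hc : IsMulCommutative (P : Subgroup G)) :
    ¬ p ∣ ee (P : Subgroup G) := fun h => by
  have h1 : (P : Subgroup G) ≤ centralizer (P : Set G) := fun x hx y hy =>
    congrArg Subtype.val (hc.1.1 ⟨y, hy⟩ ⟨x, hx⟩)
  exact P.not_dvd_index ((h.trans (relIndex_dvd_of_le_left _ h1)).trans
    (relIndex_dvd_index_of_le le_normalizer))

theorem inj_on {φ : G →* Q} (h : ¬ p ∣ Nat.card φ.ker) {P : Subgroup G} (hP : IsPGroup p P) :
    ∀ x ∈ P, φ x = 1 → x = 1 := fun x hx h1 => by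
  obtain ⟨k, hk⟩ := IsPGroup.iff_orderOf.1 hP ⟨x, hx⟩
  rw [Subgroup.orderOf_mk] at hk
  rcases k with _ | k
  · exact orderOf_eq_one_iff.1 hk
  · exact (h ((hk ▸ dvd_pow_self p k.succ_ne_zero).trans
      (Subgroup.orderOf_dvd_natCard _ (φ.mem_ker.2 h1)))).elim

theorem ee_surj {φ : G →* Q} (hφ : Function.Surjective φ) (h : ¬ p ∣ Nat.card φ.ker)
    (P : Sylow p G) : ee ((P : Subgroup G).map φ) = ee (P : Subgroup G) := by
  refine ee_map φ (inj_on h P.isPGroup') (le_sup_of_le_left ?_)
  rw [← map_comap_eq_self_of_surjective hφ (normalizer _), comap_normalizer_eq_of_surjective _ hφ,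
    comap_map_eq, CA.L0Syl.normalizer_sup, Subgroup.map_sup, (map_eq_bot_iff φ.ker).2 le_rfl, sup_bot_eq]

theorem card_map_surj {φ : G →* Q} (h : ¬ p ∣ Nat.card φ.ker) (P : Sylow p G) :
    Nat.card ((P : Subgroup G).map φ) = Nat.card (P : Subgroup G) := by
  rw [← relIndex_ker, ← inf_relIndex_right, eq_bot_iff.2 (show φ.ker ⊓ P ≤ ⊥ from
    fun x hx => inj_on h P.isPGroup' x hx.2 hx.1), relIndex_bot_left]

theorem ee_index (P : Sylow p G) (N : Subgroup G) [N.Normal] (hP : (P : Subgroup G) ≤ N)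
    (hC : centralizer (P : Set G) ≤ N) :
    ee ((P : Subgroup G).subgroupOf N) * N.index = ee (P : Subgroup G) := by
  rw [ee_subgroupOf hP, ← relIndex_top_right, ← P.normalizer_sup_eq_top' hP, relIndex_sup_right,
    inf_comm, P.coe_coe, relIndex_inf_mul_relIndex, inf_eq_left.2 hC]
  rfl

theorem ee_dade (P : Sylow p G) (N : Subgroup G) [N.Normal] (hP : (P : Subgroup G) ≤ N)
    (hs : N ⊔ centralizer ((P : Subgroup G) : Set G) = ⊤) :
    ee ((P : Subgroup G).subgroupOf N) = ee (P : Subgroup G) := by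
  rw [ee_subgroupOf hP]
  refine relIndex_of_sup inf_le_left fun g hg => ?_
  obtain ⟨n, hn, c, hc, rfl⟩ := mem_sup_of_normal_left.1 (hs.ge (mem_top g))
  refine mul_mem (mem_sup_left ⟨?_, hn⟩) (mem_sup_right hc)
  simpa using mul_mem hg (inv_mem (centralizer_le_normalizer _ hc))

end ee

end CA.H10Ab2
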