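import Cfsg.Agent.Lib.Block.H10Ab2
import Cfsg.Agent.Lib.Block.H13Span
import Cfsg.Agent.S4691
import Cfsg.Agent.S4539

/-!
# `k` and `l` of principal blocks: transfer lemmas and the local formula
-/

set_option autoImplicit false
set_option linter.unusedSectionVars false

namespace CA.H10Ab3
open Cfsg CA.H10Ab2 CA.BlkCore CA.BlkReg CA.BlkQuo CA.H13Span CChar.CharFun CChar.CharOrth
  CChar.CharProd Subgroup

/-- the number of characters of the principal block -/
noncomputable abbrev kk (M : Ideal AlgInt) (G : Type*) [Group G] [Finite G] : ℕ :=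
  Nat.card (principalBlock M G)

/-- the number of Brauer characters of the principal block -/
noncomputable abbrev ll (p : ℕ) (M : Ideal AlgInt) (G : Type*) [Group G] [Finite G] : ℕ :=
  blockRank p (principalBlock M G)

variable {p : ℕ} [hp : Fact p.Prime] {M : Ideal AlgInt} {G Q : Type*} [Group G] [Group Q]
  [Finite G] [Finite Q]

theorem rank_map (F : (Q → ℂ) →ₗ[ℂ] (G → ℂ)) {A : Set (IrrCharacter G)} {a : Set (IrrCharacter Q)}
    (hF : ∀ f ∈ Submodule.span ℂ ((fun ψ : IrrCharacter Q => pRegularPart p ψ.1) '' a),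
      F f = 0 → f = 0)
    (h1 : ∀ ψ ∈ a, ∃ χ ∈ A, F (pRegularPart p ψ.1) = pRegularPart p χ.1)
    (h2 : ∀ χ ∈ A, ∃ ψ ∈ a, F (pRegularPart p ψ.1) = pRegularPart p χ.1) :
    blockRank p A = blockRank p a := by
  set W := Submodule.span ℂ ((fun ψ : IrrCharacter Q => pRegularPart p ψ.1) '' a) with hW
  have e : Submodule.span ℂ ((fun χ : IrrCharacter G => pRegularPart p χ.1) '' A) = W.map F := by
    refine le_antisymm (Submodule.span_le.2 ?_) (Submodule.map_le_iff_le_comap.2
      (Submodule.span_le.2 ?_))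
    · rintro _ ⟨χ, hχ, rfl⟩
      obtain ⟨ψ, hψ, h⟩ := h2 χ hχ
      exact ⟨_, Submodule.subset_span ⟨ψ, hψ, rfl⟩, h⟩
    · rintro _ ⟨ψ, hψ, rfl⟩
      obtain ⟨χ, hχ, h⟩ := h1 ψ hψ
      exact Submodule.subset_span ⟨χ, hχ, h.symm⟩
  have hi : Function.Injective (F.domRestrict W) := (injective_iff_map_eq_zero _).2 fun f hf =>
    Subtype.ext (hF _ f.2 hf)
  show Module.finrank ℂ _ = Module.finrank ℂ W
  rw [e, ← LinearMap.finrank_range_of_inj hi, LinearMap.range_domRestrict]

theorem kl_surj (hM : IsPModular p M) {φ : G →* Q} (hφ : Function.Surjective φ)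
    (h : ¬ p ∣ Nat.card φ.ker) : kk M Q = kk M G ∧ ll p M Q = ll p M G := by
  have h0 := image_principal_of_not_dvd hφ hM h
  have h1 : ∀ ψ : IrrCharacter Q, LinearMap.funLeft ℂ ℂ φ (pRegularPart p ψ.1) =
      pRegularPart p (infl hφ ψ).1 := fun ψ => funext fun g => by
    rw [LinearMap.funLeft_apply, pRegularPart_apply, pRegularPart_apply, infl_apply]
    simp only [dvd_orderOf_map_iff hp.out h]
  refine ⟨?_, (rank_map (LinearMap.funLeft ℂ ℂ φ) (fun f _ hf => ?_) (fun ψ hψ => ?_)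
    fun χ hχ => ?_).symm⟩
  · rw [kk, kk, ← h0, Nat.card_image_of_injective (infl_injective hφ)]
  · exact LinearMap.funLeft_injective_of_surjective ℂ ℂ _ hφ (hf.trans (map_zero _).symm)
  · exact ⟨_, infl_mem_principal hφ hM hψ, h1 ψ⟩
  · obtain ⟨ψ, hψ, rfl⟩ := h0.symm ▸ hχ
    exact ⟨ψ, hψ, h1 ψ⟩

theorem kl_equiv (hM : IsPModular p M) (e : G ≃* Q) : kk M Q = kk M G ∧ ll p M Q = ll p M G :=
  kl_surj hM (φ := e.toMonoidHom) e.surjective (by
    rw [(MonoidHom.ker_eq_bot_iff _).2 e.injective, card_bot]; exact hp.out.not_dvd_one)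

theorem kl_dade (hM : IsPModular p M) (N : Subgroup G) [N.Normal] (hi : ¬ p ∣ N.index)
    (P : Sylow p G) (hs : N ⊔ centralizer ((P : Subgroup G) : Set G) = ⊤) :
    kk M N = kk M G ∧ ll p M N = ll p M G := by
  classical
  have := Fintype.ofFinite G
  have := Fintype.ofFinite N
  have h0 := H12Dade.eq_one_of_sup hM hi P.not_dvd_index hs
  obtain ⟨h1, h2⟩ := H12Dade.dade hM h0
  have h3 : ∀ (χ : IrrCharacter G) (θ : IrrCharacter N), (∀ n : N, χ.1 n = θ.1 n) →
      LinearMap.funLeft ℂ ℂ N.subtype (pRegularPart p χ.1) = pRegularPart p θ.1 :=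
    fun χ θ h => funext fun n => by
      rw [LinearMap.funLeft_apply, pRegularPart_comp N.subtype_injective, ← funext h]; rfl
  refine ⟨?_, rank_map (LinearMap.funLeft ℂ ℂ N.subtype) (fun f hf h => ?_) (fun χ hχ => ?_)
    fun θ hθ => ?_⟩
  · choose f hf hf' using h1
    refine (Nat.card_eq_of_bijective (fun χ : principalBlock M G =>
      (⟨f χ.1 χ.2, hf _ _⟩ : principalBlock M N)) ⟨fun χ ψ e => ?_, fun θ => ?_⟩).symm
    · have e' : f χ.1 χ.2 = f ψ.1 ψ.2 := congrArg Subtype.val e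
      exact Subtype.ext ((h2 _ (hf _ χ.2)).unique ⟨χ.2, hf' _ _⟩ ⟨ψ.2, e' ▸ hf' _ _⟩)
    · obtain ⟨χ, ⟨hχ, h⟩, -⟩ := h2 θ.1 θ.2
      exact ⟨⟨χ, hχ⟩, Subtype.ext (Subtype.ext (funext fun n => (hf' _ _ n).symm.trans (h n)))⟩
  · have h4 : InSpan (principalBlock M G) f := by
      refine Submodule.span_induction ?_ ?_ (fun _ _ _ _ => InSpan.add) (fun c _ _ h => h.smul c) hf
      · rintro _ ⟨χ, hχ, rfl⟩
        exact ⟨classFun_pRegularPart (irr_classFun χ.2), fun ψ hψ => inner_pReg_eq_zero hM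
          (isSat_of_isPBlock hM isPBlock_principalBlock) hχ hψ⟩
      · exact ⟨fun _ _ => rfl, fun _ _ => CChar.CharFun.inner_zero_left _⟩
    refine eq_zero_of_inner_irr_eq_zero h4.1 fun χ hχ => ?_
    by_cases hm : (⟨χ, hχ⟩ : IrrCharacter G) ∈ principalBlock M G
    swap
    · exact h4.2 _ hm
    have h5 : f = ∑ ψ with ψ ∈ principalBlock M G, classInner f ψ.1 • ψ.1 := funext fun g => by
      rw [h4.apply_eq, Finset.sum_apply]; rfl
    have h6 : (0 : N → ℂ) = ∑ ψ with ψ ∈ principalBlock M G,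
        classInner f ψ.1 • fun n : N => ψ.1 n := by
      rw [← h]
      conv_lhs => rw [h5, map_sum]
      rfl
    have h7 := congrArg (classInner · fun n : N => χ n) h6
    simp only [CChar.CharFun.inner_zero_left, CChar.CharFun.inner_sum_left,
      CChar.CharFun.inner_smul_left] at h7
    rw [h5, CChar.CharFun.inner_sum_left, h7]
    refine Finset.sum_congr rfl fun ψ hψ => ?_
    rw [CChar.CharFun.inner_smul_left, H12Dade.inner_res_eq hM h0 (Finset.mem_filter.1 hψ).2 hm]
  · obtain ⟨θ, hθ, h⟩ := h1 χ hχ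
    exact ⟨θ, hθ, h3 χ θ h⟩
  · obtain ⟨χ, ⟨hχ, h⟩, -⟩ := h2 θ hθ
    exact ⟨χ, hχ, h3 χ θ h⟩

theorem kk_prod (hM : IsPModular p M) : kk M (G × Q) = kk M G * kk M Q := by
  classical
  have := Fintype.ofFinite G
  have := Fintype.ofFinite Q
  have h : ∀ x : IrrCharacter G × IrrCharacter Q, irrProdEquiv x ∈ principalBlock M (G × Q) ↔
      x.1 ∈ principalBlock M G ∧ x.2 ∈ principalBlock M Q := fun x => by
    simp only [H13Prin.mem_principal_iff hM, irrProdEquiv_apply]
    rw [← mul_ne_zero_iff, Finset.sum_mul_sum, ← Finset.sum_product']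
    refine (Eq.congr_left (Finset.sum_congr ?_ fun _ _ => rfl)).not
    ext g
    simp [H13Prin.mem_reg, Prod.orderOf, hp.out.dvd_lcm]
  rw [← Nat.card_prod]
  exact (Nat.card_congr ((Equiv.Set.prod _ _).symm.trans
    (irrProdEquiv.subtypeEquiv fun x => (h x).symm))).symm

theorem ll_eq_one_iff (hM : IsPModular p M) : ll p M G = 1 ↔ HasNormalPComplement p G := by
  have := Fintype.ofFinite G
  rw [Cfsg.Agent.S4691.result p M hM, Cfsg.Agent.S4646.result p M hM]

theorem ee_top (h : IsMulCommutative (⊤ : Subgroup G)) : ee (⊤ : Subgroup G) = 1 :=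
  relIndex_eq_one.2 fun x _ y _ => congrArg Subtype.val (h.1.1 ⟨y, trivial⟩ ⟨x, trivial⟩)

theorem ee_eq_one_iff (P : Sylow p G) (hc : IsMulCommutative (P : Subgroup G)) :
    ee (P : Subgroup G) = 1 ↔ HasNormalPComplement p G := by
  refine ⟨fun h => PRes.hasNPC_of_normalizer_le_centralizer P (relIndex_eq_one.1 h), fun h => ?_⟩
  obtain ⟨N, _, h1, h2⟩ := PRes.hasNPC_iff_exists_normal.1 h
  have h3 : (P : Subgroup G).map (QuotientGroup.mk' N) = ⊤ :=
    ((P.mapSurjective (QuotientGroup.mk'_surjective N)).is_maximal' (h2.to_subgroup ⊤) le_top).symm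
  rw [← ee_surj (QuotientGroup.mk'_surjective N) (by rwa [QuotientGroup.ker_mk']) P, h3]
  exact ee_top (h3 ▸ inferInstance)

theorem ll_eq_one_iff' (hM : IsPModular p M) (P : Sylow p G)
    (hc : IsMulCommutative (P : Subgroup G)) : ll p M G = 1 ↔ ee (P : Subgroup G) = 1 := by
  rw [ll_eq_one_iff hM, ee_eq_one_iff P hc]

section loc
open MulAction
open scoped Pointwise

/-- orbits of the normalizer -/
abbrev Om (P : Subgroup G) := orbitRel.Quotient (normalizer (P : Set G)) P

noncomputable instance (P : Subgroup G) : Fintype (Om P) := Fintype.ofFinite _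

/-- length of an orbit of the normalizer -/
noncomputable abbrev oo (P : Subgroup G) (u : G) : ℕ :=
  (centralizer {u}).relIndex (normalizer (P : Set G))

theorem coe_smul {P : Subgroup G} (n : normalizer (P : Set G)) (x : P) :
    ((n • x : P) : G) = n * x * (n : G)⁻¹ := rfl

theorem smul_eq_iff {P : Subgroup G} (n : normalizer (P : Set G)) (x : P) :
    n • x = x ↔ (n : G) ∈ centralizer {(x : G)} := by
  rw [Subtype.ext_iff, coe_smul, mem_centralizer_singleton_iff, mul_inv_eq_iff_eq_mul]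

theorem sum_om {P : Subgroup G} [Fintype P] (f : P → ℕ)
    (hf : ∀ (n : normalizer (P : Set G)) x, f (n • x) = f x) :
    ∑ x, f x = ∑ ω : Om P, oo P (ω.out : P) * f ω.out := by
  rw [sum_eq_sum_orbits f hf]
  refine Finset.sum_congr rfl fun ω _ => ?_
  rw [Nat.cast_id, show stabilizer (normalizer (P : Set G)) ω.out =
    (centralizer {((ω.out : P) : G)}).subgroupOf _ from Subgroup.ext fun n => smul_eq_iff n _]
  rfl

theorem card_eq_sum_om (P : Subgroup G) : Nat.card P = ∑ ω : Om P, oo P (ω.out : P) := by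
  have := Fintype.ofFinite P
  simpa using sum_om (P := P) (fun _ => 1) fun _ _ => rfl

theorem exists_out {P : Subgroup G} (x : P) : ∃ n ∈ normalizer (P : Set G),
    ((Quotient.out (s := orbitRel (normalizer (P : Set G)) P) ⟦x⟧ : P) : G) = n * x * n⁻¹ := by
  obtain ⟨n, hn⟩ := Quotient.mk_out (s := orbitRel (normalizer (P : Set G)) P) x
  exact ⟨n, n.2, congrArg Subtype.val hn.symm⟩

theorem card_fix (P : Subgroup G) : Nat.card {ω : Om P // eu P (ω.out : P) = ee P} =
    Nat.card (P ⊓ centralizer (normalizer (P : Set G) : Set G) : Subgroup G) := by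
  classical
  have := Fintype.ofFinite P
  have h0 : ∀ x : P, eu P x = ee P ↔ ∀ n : normalizer (P : Set G), n • x = x := fun x => by
    rw [eu_eq_iff x.2]
    exact ⟨fun h n => (smul_eq_iff n x).2 (h n.2), fun h n hn => (smul_eq_iff ⟨n, hn⟩ x).1 (h _)⟩
  have h1 := sum_om (P := P) (fun x => if eu P x = ee P then 1 else 0) fun n x => by
    simp only [h0]
    refine if_congr ⟨fun h m => ?_, fun h m => by rw [h n, h m]⟩ rfl rfl
    have h2 := h n⁻¹
    rw [inv_smul_smul] at h2
    rw [h2]; exact h m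
  replace h1 := h1.trans (Finset.sum_congr rfl
    (g := fun ω : Om P => if eu P (ω.out : P) = ee P then 1 else 0) fun ω _ => by
      split_ifs with h
      · rw [mul_one]; exact relIndex_eq_one.2 ((eu_eq_iff ω.out.2).1 h)
      · rfl)
  simp only [Finset.sum_boole, Nat.cast_id] at h1
  rw [Nat.subtype_card _ fun _ => (Finset.mem_filter_univ _), ← h1,
    ← Nat.subtype_card _ fun _ => (Finset.mem_filter_univ _)]
  refine Nat.card_congr ⟨fun x => ⟨x.1, x.1.2, fun g hg => ?_⟩,
    fun x => ⟨⟨x.1, x.2.1⟩, (eu_eq_iff x.2.1).2 fun g hg => ?_⟩, fun _ => rfl, fun _ => rfl⟩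
  · exact mem_centralizer_singleton_iff.1 ((eu_eq_iff x.1.2).1 x.2 hg)
  · exact mem_centralizer_singleton_iff.2 (x.2.2 g hg)

theorem le_cent {P : Subgroup G} (hc : IsMulCommutative P) {u : G} (hu : u ∈ P) :
    P ≤ centralizer {u} := fun x hx =>
  mem_centralizer_singleton_iff.2 (congrArg Subtype.val (hc.1.1 ⟨x, hx⟩ ⟨u, hu⟩))

theorem comm_sub {P : Subgroup G} (hc : IsMulCommutative P) (H : Subgroup G) :
    IsMulCommutative (P.subgroupOf H) := inferInstance

theorem ll_cent_iff (hM : IsPModular p M) (P : Sylow p G) (hc : IsMulCommutative (P : Subgroup G))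
    {u : G} (hu : u ∈ (P : Subgroup G)) : ll p M (centralizer {u}) = 1 ↔ eu P u = 1 := by
  rw [ll_eq_one_iff' hM (P.subtype (le_cent hc hu)) (comm_sub hc _), ← ee_cent (le_cent hc hu)]
  rfl

theorem kk_eq (hM : IsPModular p M) (P : Sylow p G) (hc : IsMulCommutative (P : Subgroup G)) :
    kk M G = ∑ ω : Om (P : Subgroup G), ll p M (centralizer {((ω.out : P) : G)}) := by
  classical
  have := Fintype.ofFinite G
  have hi : ∀ ω ω' : Om (P : Subgroup G), IsConj ((ω.out : P) : G) (ω'.out : P) → ω = ω' :=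
    fun ω ω' h => by
      obtain ⟨g, hg⟩ := isConj_iff.1 h
      obtain ⟨n, hn, e⟩ := P.conj_eq_normalizer_conj_of_mem (ω.out : P) g⁻¹ ω.out.2
        (by rw [inv_inv, hg]; exact ω'.out.2)
      rw [← Quotient.out_eq ω, ← Quotient.out_eq ω', eq_comm]
      refine Quotient.sound ⟨⟨n⁻¹, inv_mem hn⟩, Subtype.ext ?_⟩
      rw [← hg]
      exact (coe_smul _ _).trans (by simpa using e.symm)
  have hpe : ∀ ω : Om (P : Subgroup G), ∃ k, orderOf ((ω.out : P) : G) = p ^ k := fun ω =>
    L0Syl.pElt_of_mem P.isPGroup' ω.out.2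
  rw [kk, Cfsg.Agent.S4511.result p M hM _ isPBlock_principalBlock
    (Finset.univ.image fun ω : Om (P : Subgroup G) => ((ω.out : P) : G)) (by simpa using hpe),
    Finset.sum_image fun ω _ ω' _ h => hi ω ω' (by rw [show _ = _ from h])]
  · refine Finset.sum_congr rfl fun ω _ => ?_
    rw [show {b | IsInducedBlock M (centralizer {((ω.out : P) : G)}) b (principalBlock M G)} =
      {principalBlock M _} from Set.ext fun b => ⟨fun h =>
        (H11Prin.ind_principal_iff hM (hpe ω) rfl h.1).1 h,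
        fun h => h ▸ H11Prin.ind_principal hM (hpe ω) rfl⟩, finsum_mem_singleton]
  · intro g hg
    obtain ⟨R, hR⟩ := L0Syl.exists_sylow_mem hg
    obtain ⟨y, rfl⟩ := exists_smul_eq G P R
    have h1 : y⁻¹ * g * y ∈ (P : Subgroup G) := by
      simpa using mem_pointwise_smul_iff_inv_smul_mem.1 (show g ∈ MulAut.conj y • (P : Subgroup G) from hR)
    obtain ⟨n, -, e⟩ := exists_out ⟨_, h1⟩
    have h2 : IsConj g _ := isConj_iff.2 ⟨n * y⁻¹, (by group : _ = n * (y⁻¹ * g * y) * n⁻¹).trans e.symm⟩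
    refine ⟨_, ⟨Finset.mem_image_of_mem _ (Finset.mem_univ _), h2⟩, ?_⟩
    rintro _ ⟨hx, h3⟩
    obtain ⟨ω, -, rfl⟩ := Finset.mem_image.1 hx
    rw [hi _ _ (h3.symm.trans h2)]

theorem kk_of_ee_one (hM : IsPModular p M) (P : Sylow p G)
    (hc : IsMulCommutative (P : Subgroup G)) (h : ee (P : Subgroup G) = 1) :
    kk M G = Nat.card (P : Subgroup G) := by
  rw [kk_eq hM P hc, card_eq_sum_om]
  refine Finset.sum_congr rfl fun ω _ => ?_
  have h1 := eu_mul' ω.out.2
  rw [h] at h1
  exact ((ll_cent_iff hM P hc ω.out.2).2 (Nat.eq_one_of_mul_eq_one_right h1)).trans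
    (Nat.eq_one_of_mul_eq_one_left h1).symm

theorem kk_le (hM : IsPModular p M) (P : Sylow p G) (hc : IsMulCommutative (P : Subgroup G))
    {u : G} (hu : u ∈ (P : Subgroup G)) (h : eu P u = 1) : kk M G ≤ Nat.card (P : Subgroup G) := by
  have := Fintype.ofFinite G
  have h1 := Cfsg.Agent.S4539.result p M hM _ isPBlock_principalBlock P.1
    ((BlkDefect.isDefectGroup_principalBlock_iff hM).2 (SylIn.isSylowIn_of_le P le_top)) u hu
    (fun d hd => mem_centralizer_singleton_iff.1 (le_cent hc hu hd)) _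
    (H11Prin.ind_principal hM (L0Syl.pElt_of_mem P.isPGroup' hu) rfl)
    ((BlkDefect.isDefectGroup_principalBlock_iff hM).2
      (SylIn.isSylowIn_of_le (P.subtype (le_cent hc hu)) le_top))
    (((ll_cent_iff hM P hc hu).2 h).le.trans one_le_two)
  rwa [BlkPr.blockDefect_principal hM, ← P.card_eq_multiplicity] at h1

end loc

end CA.H10Ab3
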