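import Cfsg.Agent.Lib.Block.H10Ab3
import Cfsg.Agent.S4640

/-!
# Counting characters of principal blocks over normal subgroups
-/

set_option autoImplicit false
set_option linter.unusedSectionVars false

namespace CA.H10Ab4
open Cfsg CA.H10Ab2 CA.H10Ab3 CA.BlkCore CA.BlkReg CA.BlkQuo CA.H13Span CChar.CharFun
  CChar.CharOrth CChar.CharInt Subgroup CA.BlkDefect CA.SylIn CA.H12Cover CA.H11Amb CA.H11Def
  CA.H11Pair CA.H11Brg CA.H12Brg CA.BlkCov CA.Clif CA.BlkAlg CA.H12Fong CA.H12FR
open scoped ComplexConjugate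

variable {p : ℕ} [hp : Fact p.Prime] {M : Ideal AlgInt} {G : Type*} [Group G] [Finite G]

theorem over_mem (hM : IsPModular p M) (P : Sylow p G) {N : Subgroup G} [N.Normal]
    (hPN : (P : Subgroup G) ≤ N) (hC : centralizer ((P : Subgroup G) : Set G) ≤ N)
    {χ : IrrCharacter G} {θ : IrrCharacter N} (hθ : θ ∈ principalBlock M N) (h : Over N χ.1 θ.1) :
    χ ∈ principalBlock M G := by
  have := Fintype.ofFinite N
  have hp0 := p_eq_zero hM
  have hb : IsPBlock M (principalBlock M N) := isPBlock_principalBlock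
  have h1 : IsDef p N (ab M N (principalBlock M N)) P := by
    rw [← isDefectGroup_iff_subgroupOf hM hb hPN, isDefectGroup_principalBlock_iff hM]
    exact ⟨le_top, isPGroup_subgroupOf P.isPGroup' N, by
      rw [relIndex_top_right]; exact (isSylowIn_of_le P hPN).not_dvd⟩
  have h2 := blk_of_CC_le hp0 le_top (NN_top_of_normal N) (blk_ab hM hb)
    (mem_Z_iff_fixed.1 (emb_eB_mem_Z (cjS_principal hM))) h1.pg hPN h1.ne (inf_le_right.trans hC)
  have h3 : ∀ B, IsPBlock M B → Cov N B (principalBlock M N) →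
      eB M B = ab M N (principalBlock M N) := fun B hB h =>
    h2.eq_of_mul_ne_zero (blk_eB hM hB) ((cov_iff_ab hM hB hb).1 (cov_iff.1 h))
  rw [eB_inj hM isPBlock_principalBlock (isPBlock_blockOf χ) ((h3 _ isPBlock_principalBlock
    (cov_principal hM N)).trans (h3 _ (isPBlock_blockOf χ)
      ⟨χ, self_mem_blockOf hM χ, θ, hθ, h⟩).symm)]
  exact self_mem_blockOf hM χ

open Classical in
theorem sum_weight {G : Type*} [Group G] [Fintype G] {N : Subgroup G} [N.Normal] [Fintype N]
    (hr : N.index.Prime) (θ : IrrCharacter N) :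
    (N.index : ℂ) * ∑ χ : IrrCharacter G, classInner (fun n : N => χ.1 n) θ.1 * θ.1 1 / χ.1 1 =
      if inertia θ.1 = ⊤ then (N.index : ℂ) ^ 2 else 1 := by
  have : Fact (Nat.card (G ⧸ N)).Prime := ⟨hr⟩
  have hcy : IsCyclic (G ⧸ N) := isCyclic_of_prime_card rfl
  obtain ⟨e, C, he, hC, h1, h2, h3⟩ := Ind2.exists_ind_eq_smul_sum θ.2 fun x _ y _ => by
    rw [← QuotientGroup.eq_one_iff]
    simp only [QuotientGroup.mk_mul, QuotientGroup.mk_inv]
    rw [(hcy.isMulCommutative.1.1 (x : G ⧸ N) y :)]; group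
  have hθ := irr_apply_one_ne_zero θ.2
  have he' : (e : ℂ) ≠ 0 := by exact_mod_cast he.ne'
  have hi : ((inertia θ.1).index : ℂ) ≠ 0 := by exact_mod_cast index_ne_zero_of_finite
  have h4 : ∑ χ : IrrCharacter G, classInner (fun n : N => χ.1 n) θ.1 * θ.1 1 / χ.1 1 =
      C.card / (inertia θ.1).index := by
    rw [Finset.sum_congr rfl (g := fun χ : IrrCharacter G =>
      ∑ ψ ∈ C, e * classInner χ.1 ψ * θ.1 1 / χ.1 1) fun χ _ => by
        rw [← Ind.inner_ind_right N _ (irr_classFun χ.2), h2, CChar.CharFun.inner_smul_right,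
          CChar.CharFun.inner_sum_right, map_natCast, Finset.mul_sum, Finset.sum_mul,
          Finset.sum_div], Finset.sum_comm,
      Finset.sum_congr rfl (g := fun _ => ((inertia θ.1).index : ℂ)⁻¹) fun ψ hψ => ?_,
      Finset.sum_const, nsmul_eq_mul, div_eq_mul_inv]
    rw [Finset.sum_eq_single ⟨ψ, hC ψ hψ⟩ (fun χ _ h => by
      rw [inner_irr_of_ne χ.2 (hC ψ hψ) fun h' => h (Subtype.ext h')]; simp) (by simp),
      inner_irr_self (hC ψ hψ)]
    simp only [h3 ψ hψ]
    field_simp
  have h5 := relIndex_mul_index (le_inertia (irr_classFun θ.2))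
  rw [h4]
  split_ifs with h
  · rw [h, relIndex_top_right] at h1
    have : e = 1 := by
      rcases (Nat.dvd_prime hr).1 (Dvd.intro _ h1) with h | h
      · exact (Nat.pow_eq_one.1 h).resolve_right two_ne_zero
      · exact absurd (h ▸ hr) (Nat.Prime.not_prime_pow le_rfl)
    rw [this, one_pow, one_mul] at h1
    rw [h, index_top, h1]; simp [sq]
  · have h6 : (inertia θ.1).index = N.index :=
      ((Nat.dvd_prime hr).1 (Dvd.intro_left _ h5)).resolve_left (mt index_eq_one.1 h)
    rw [h6, mul_eq_right₀ hr.ne_zero] at h5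
    rw [h6, Nat.eq_one_of_mul_eq_one_left (h1.trans h5), Nat.cast_one, mul_one_div,
      div_self (h6 ▸ hi)]

theorem cnt (hM : IsPModular p M) (P : Sylow p G) {N : Subgroup G} [N.Normal]
    (hPN : (P : Subgroup G) ≤ N) (hC : centralizer ((P : Subgroup G) : Set G) ≤ N)
    (hr : N.index.Prime) : ∃ f, N.index * kk M G + f = N.index ^ 2 * f + kk M N := by
  classical
  have := Fintype.ofFinite G
  have := Fintype.ofFinite N
  have h1 : ∀ χ ∈ principalBlock M G, ∑ θ with θ ∈ principalBlock M N,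
      classInner (fun n : N => χ.1 n) θ.1 * θ.1 1 / χ.1 1 = 1 := fun χ hχ => by
    have h : InSpan (principalBlock M N) fun n : N => χ.1 n :=
      ⟨char_classFun (char_restrict (char_of_irr χ.2) N), fun ψ hψ => by_contra fun h =>
        hψ (under_mem_principal hM hχ (over_iff.2 h))⟩
    rw [← Finset.sum_div, ← h.apply_eq 1]
    exact div_self (irr_apply_one_ne_zero χ.2)
  have h2 : (kk M G : ℂ) = ∑ θ with θ ∈ principalBlock M N, ∑ χ : IrrCharacter G,
      classInner (fun n : N => χ.1 n) θ.1 * θ.1 1 / χ.1 1 := by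
    rw [Finset.sum_comm, ← Finset.sum_subset (Finset.filter_subset (· ∈ principalBlock M G) _)
      fun χ _ hχ => Finset.sum_eq_zero fun θ hθ => ?_,
      Finset.sum_congr rfl fun χ hχ => h1 χ (Finset.mem_filter.1 hχ).2, Finset.sum_const,
      nsmul_one, kk, Nat.subtype_card _ fun _ => Finset.mem_filter_univ _]
    rw [by_contra fun h => hχ ((Finset.mem_filter_univ _).2
      (over_mem hM P hPN hC (Finset.mem_filter.1 hθ).2 (over_iff.2 h))), zero_mul, zero_div]
  have h3 := Finset.card_filter_add_card_filter_not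
    (s := Finset.univ.filter (· ∈ principalBlock M N)) fun θ => inertia θ.1 = ⊤
  refine ⟨((Finset.univ.filter (· ∈ principalBlock M N)).filter fun θ => inertia θ.1 = ⊤).card, ?_⟩
  rw [show kk M N = _ from Nat.subtype_card _ fun _ => Finset.mem_filter_univ _, ← h3]
  refine Nat.cast_injective (R := ℂ) ?_
  push_cast
  rw [h2, Finset.mul_sum, Finset.sum_congr rfl fun θ _ => sum_weight hr θ, Finset.sum_ite]
  simp only [Finset.sum_const, nsmul_eq_mul]
  ring

theorem ll_eq_index (hM : IsPModular p M) (P : Subgroup G) [P.Normal] (hP : IsPGroup p P)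
    (hi : ¬ p ∣ P.index) (hC : centralizer (P : Set G) ≤ P) (hc : IsMulCommutative (G ⧸ P)) :
    ll p M G = P.index := by
  classical
  have := Fintype.ofFinite G
  have := Fintype.ofFinite (G ⧸ P)
  have h0 : ∀ f : G ⧸ P → ℂ, pRegularPart p f = f := fun f => funext fun y =>
    pReg_of_not_dvd _ fun h => hi (h.trans (orderOf_dvd_natCard y))
  have hk : IsPGroup p (QuotientGroup.mk' P).ker := by rwa [QuotientGroup.ker_mk']
  have h1 : ∀ f : G ⧸ P → ℂ, f ∈ Submodule.span ℂ
      ((fun ψ : IrrCharacter (G ⧸ P) => pRegularPart p ψ.1) '' Set.univ) := fun f => by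
    rw [classFun_eq_sum (ψ := f) fun x y => by rw [(hc.1.1 _ _ :), ← mul_assoc]; simp]
    exact Submodule.sum_mem _ fun ψ _ => Submodule.smul_mem _ _
      (Submodule.subset_span ⟨ψ, trivial, h0 _⟩)
  have hs := QuotientGroup.mk'_surjective P
  choose r hr hr' using fun y : G ⧸ P => exists_regular_preimage hs hp.out (y := y)
    fun h => hi (h.trans (orderOf_dvd_natCard y))
  rw [ll, H11Cy2.eq_univ hM isPBlock_principalBlock hP hC, BlkRk.blockRank_eq_of_map (a := Set.univ)
    ((regL p G).comp (LinearMap.funLeft ℂ ℂ (QuotientGroup.mk' P))) (fun f _ hf => funext fun y => ?_)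
    (fun ψ _ => Submodule.subset_span ⟨infl hs ψ, Set.mem_univ _, by rw [h0]; rfl⟩)
    fun χ _ => ⟨fun y => χ.1 (r y), h1 _, funext fun g => ?_⟩, blockRank,
    Submodule.eq_top_iff'.2 h1, finrank_top, Module.finrank_fintype_fun_eq_card,
    ← Nat.card_eq_fintype_card, index_eq_card]
  · have := congrFun hf (r y)
    rwa [LinearMap.comp_apply, regL_apply, pReg_of_not_dvd _ (hr y), LinearMap.funLeft_apply,
      hr'] at this
  · rw [LinearMap.comp_apply, regL_apply]
    by_cases hg : p ∣ orderOf g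
    · rw [pReg_of_dvd _ hg, pReg_of_dvd _ hg]
    · rw [pReg_of_not_dvd _ hg, pReg_of_not_dvd _ hg, LinearMap.funLeft_apply]
      obtain ⟨c, hc⟩ := isConj_iff.1 (H12Har.isConj_of_reg hk hg (hr _) (hr' _))
      rw [← hc, irr_classFun χ.2, hc]

theorem kl_pindex (hM : IsPModular p M) (P : Sylow p G) (hc : IsMulCommutative (P : Subgroup G))
    (N : Subgroup G) [N.Normal] (hi : ∃ k, N.index = p ^ k) :
    kk M G = N.index * kk M N ∧ ll p M G = ll p M N := by
  have := Fintype.ofFinite G
  have := Fintype.ofFinite N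
  exact (Cfsg.Agent.S4640.result p M hM N hi _ isPBlock_principalBlock (fun g =>
    (stabilizesBlock_iff hM isPBlock_principalBlock).2 ⟨NN_top_of_normal N trivial,
      mem_Z_iff_fixed.1 (emb_eB_mem_Z (cjS_principal hM)) g trivial⟩) _ isPBlock_principalBlock
    (cov_iff.1 (cov_principal hM N)) P.1
    ((isDefectGroup_principalBlock_iff hM).2 (isSylowIn_of_le P le_top))
    fun x hx y hy => congrArg Subtype.val (hc.1.1 ⟨x, hx⟩ ⟨y, hy⟩)).2.2.2.2

end CA.H10Ab4
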