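import Cfsg.Agent.Lib.Block.H12Dade
import Cfsg.Agent.Lib.Block.H11Nilp
import Cfsg.Agent.Lib.Block.BlkQuo
import Cfsg.Agent.Lib.Char.H12Gl2
import Cfsg.Agent.Lib.Char.Ext
import Cfsg.Agent.Lib.Char.GalC

/-! `p`-rational extensions in the principal block. -/

set_option autoImplicit false
set_option linter.unusedSectionVars false

namespace CA.H10PRat
open Cfsg CA.BlkCore CA.BlkReg CA.BlkGal CA.BlkHeight CA.BlkQuo CA.H12PPart CA.Clif CA.Ext CA.Gall
  CA.H11Nilp CChar.CharFun CChar.CharOrth CChar.CharGen Subgroup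
open scoped ComplexConjugate

section field
open Polynomial IntermediateField

/-- An algebraic number fixed by all automorphisms of `ℂ` over `F` lies in `F`. -/
theorem mem_of_fixed (F : IntermediateField ℚ ℂ) [Algebra.IsAlgebraic ℚ F] {x : ℂ}
    (hx : IsIntegral ℚ x) (h : ∀ σ : ℂ ≃+* ℂ, (∀ y ∈ F, σ y = y) → σ x = x) : x ∈ F := by
  classical
  have hF : IsIntegral F x := hx.tower_top
  have hsep : (minpoly F x).Separable := (minpoly.irreducible hF).separable
  have hcard := card_rootSet_eq_natDegree hsep (K := ℂ) (IsAlgClosed.splits _)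
  have h2 : ∀ a : (minpoly F x).rootSet ℂ, (a : ℂ) = x := by
    intro a
    let pb := IntermediateField.adjoin.powerBasis hF
    have hgen : minpoly F pb.gen = minpoly F x := IntermediateField.minpoly_gen F x
    have : FiniteDimensional F (IntermediateField.adjoin F {x}) :=
      IntermediateField.adjoin.finiteDimensional hF
    have : Algebra.IsAlgebraic ℚ (IntermediateField.adjoin F {x}) :=
      Algebra.IsAlgebraic.trans ℚ F _
    have hy : aeval (a : ℂ) (minpoly F pb.gen) = 0 := by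
      rw [hgen]; exact aeval_eq_zero_of_mem_rootSet a.2
    obtain ⟨σ, hσ⟩ := CA.GalC.exists_equiv_comp (K := IntermediateField.adjoin F {x})
      (algebraMap _ ℂ) (pb.lift (a : ℂ) hy).toRingHom
    have h3 : σ x = a := (hσ pb.gen).trans (pb.lift_gen (a : ℂ) hy)
    rw [← h3]
    refine h σ fun y hy' => (hσ (algebraMap F _ ⟨y, hy'⟩)).trans ?_
    exact (pb.lift (a : ℂ) hy).commutes ⟨y, hy'⟩
  have hsub : Fintype.card ((minpoly F x).rootSet ℂ) ≤ 1 := by
    rw [Fintype.card_le_one_iff]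
    exact fun a b => Subtype.ext ((h2 a).trans (h2 b).symm)
  have hdeg : (minpoly F x).natDegree = 1 :=
    le_antisymm (hcard ▸ hsub) (minpoly.natDegree_pos hF)
  obtain ⟨q, hq⟩ := (minpoly.natDegree_eq_one_iff.1 hdeg)
  rw [← hq]
  exact q.2

theorem fix_adjoin (σ : ℂ ≃+* ℂ) {ζ : ℂ} (h : σ ζ = ζ) {y : ℂ}
    (hy : y ∈ IntermediateField.adjoin ℚ ({ζ} : Set ℂ)) : σ y = y := by
  induction hy using IntermediateField.adjoin_induction with
  | mem x hx => rwa [Set.mem_singleton_iff.1 hx]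
  | algebraMap q => simp
  | add x y _ _ h1 h2 => rw [map_add, h1, h2]
  | inv x _ h1 => rw [map_inv₀, h1]
  | mul x y _ _ h1 h2 => rw [map_mul, h1, h2]

/-- The cyclotomic field. -/
noncomputable abbrev Cy (m : ℕ) : IntermediateField ℚ ℂ :=
  IntermediateField.adjoin ℚ ({Complex.exp (2 * Real.pi * Complex.I / m)} : Set ℂ)

theorem isAlgebraic_Cy {m : ℕ} (hm : m ≠ 0) : Algebra.IsAlgebraic ℚ (Cy m) := by
  have := IntermediateField.adjoin.finiteDimensional (K := ℚ)
    ((Complex.isPrimitiveRoot_exp m hm).isIntegral (Nat.pos_of_ne_zero hm)).tower_top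
  infer_instance

theorem mem_Cy {m : ℕ} (hm : m ≠ 0) {x : ℂ} (hx : IsIntegral ℚ x)
    (h : ∀ σ : ℂ ≃+* ℂ, (∀ y ∈ Cy m, σ y = y) → σ x = x) : x ∈ Cy m :=
  haveI := isAlgebraic_Cy hm
  mem_of_fixed _ hx h

/-- An automorphism over the `m`-th cyclotomic field with a given action on the `n`-th roots. -/
theorem exists_fix_pow {m n j : ℕ} (hm : m ≠ 0) (hn : n ≠ 0) (hc : m.Coprime n)
    (hj : j.Coprime n) :
    ∃ σ : ℂ ≃+* ℂ, (∀ y ∈ Cy m, σ y = y) ∧ ∀ z : ℂ, z ^ n = 1 → σ z = z ^ j := by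
  obtain ⟨k, h1, h2⟩ := Nat.chineseRemainder hc 1 j
  have hk : k.Coprime (m * n) := Nat.Coprime.mul_right
    (by rw [Nat.Coprime, h1.gcd_eq]; simp) (by rw [Nat.Coprime, h2.gcd_eq]; exact hj)
  obtain ⟨σ, hσ⟩ := CA.GalC.exists_equiv_pow (Nat.pos_of_ne_zero (mul_ne_zero hm hn)) hk
  have hζ := (Complex.isPrimitiveRoot_exp m hm).pow_eq_one
  refine ⟨σ, fun y hy => fix_adjoin σ ?_ hy, fun z hz => ?_⟩
  · rw [hσ _ (by rw [pow_mul, hζ, one_pow]), pow_eq_pow_of_modEq h1 hζ, pow_one]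
  · rw [hσ _ (by rw [mul_comm, pow_mul, hz, one_pow]), pow_eq_pow_of_modEq h2 hz]

end field

variable {p : ℕ} {M : Ideal AlgInt} {G : Type*} [Group G] [Fintype G] {N : Subgroup G}
  [hN : N.Normal] [Fintype N]

variable (p N) in
/-- Sum over the `p`-regular elements of a coset. -/
noncomputable def cs (f : G → ℂ) (c : G) : ℂ := ∑ n : N, pRegularPart p f (c * n)

theorem cs_mul (f : G → ℂ) (c : G) {n : G} (hn : n ∈ N) : cs p N f (c * n) = cs p N f c :=
  Fintype.sum_equiv (Equiv.mulLeft (⟨n, hn⟩ : N)) _ _ fun x => by simp [mul_assoc]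

theorem cs_conj {f : G → ℂ} (hf : IsClassFunction G f) (c g : G) :
    cs p N f (g * c * g⁻¹) = cs p N f c :=
  (Fintype.sum_equiv (MulAut.conjNormal g).toEquiv _ _ fun x => by
    rw [← classFun_pRegularPart hf (c * x) g]
    simp [mul_assoc]).symm

theorem cs_lin (lam : G →* ℂˣ) (h : ∀ n ∈ N, lam n = 1) (f : G → ℂ) (c : G) :
    cs p N (fun g => (lam g : ℂ) * f g) c = lam c * cs p N f c := by
  rw [cs, cs, Finset.mul_sum]
  refine Finset.sum_congr rfl fun n _ => ?_
  rw [pRegularPart_apply, pRegularPart_apply, map_mul, h n n.2]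
  split_ifs <;> simp

theorem cs_map (σ : ℂ →+* ℂ) (f : G → ℂ) (c : G) :
    cs p N (fun g => σ (f g)) c = σ (cs p N f c) := by
  rw [cs, cs, map_sum]
  refine Finset.sum_congr rfl fun n _ => ?_
  rw [pRegularPart_apply, pRegularPart_apply]
  split_ifs <;> simp

theorem cs_one {f : G → ℂ} {θ : N → ℂ} (h : ∀ n : N, f n = θ n) :
    cs p N f 1 = ∑ n, pRegularPart p θ n := by
  refine Finset.sum_congr rfl fun n _ => ?_
  rw [one_mul, pRegularPart_apply, pRegularPart_apply, h, Subgroup.orderOf_coe]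

theorem cs_res {U : Subgroup G} [Fintype U] (hU : N ≤ U) [Fintype (N.subgroupOf U)] (f : G → ℂ)
    (c : U) : cs p (N.subgroupOf U) (fun u : U => f u) c = cs p N f c :=
  Fintype.sum_equiv (subgroupOfEquivOfLe hU).toEquiv _ _ fun x =>
    (pRegularPart_comp (φ := U.subtype) U.subtype_injective f (c * x)).symm

theorem sum_cs (f : G → ℂ) : ∑ c, cs p N f c = Nat.card N * ∑ g, pRegularPart p f g := by
  unfold cs
  rw [Finset.sum_comm, Finset.sum_congr rfl fun (n : N) _ =>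
    Fintype.sum_equiv (Equiv.mulRight (n : G)) (fun x => pRegularPart p f (x * n))
      (pRegularPart p f) fun _ => rfl]
  simp

theorem mem_principal_iff (hM : IsPModular p M) {χ : IrrCharacter G} :
    χ ∈ principalBlock M G ↔ ∑ g, pRegularPart p χ.1 g ≠ 0 := by
  haveI : Fact p.Prime := ⟨hM.1⟩
  have e : classInner (pRegularPart p χ.1) (irrOne G).1 =
      (Nat.card G : ℂ)⁻¹ * ∑ g, pRegularPart p χ.1 g := by simp [classInner, irrOne]
  have h0 : (Nat.card G : ℂ)⁻¹ ≠ 0 := inv_ne_zero (Nat.cast_ne_zero.2 Nat.card_pos.ne')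
  rw [← mul_ne_zero_iff_left h0, ← e]
  constructor
  · intro h
    rw [inner_pReg_symm (char_of_irr χ.2) (char_of_irr (irrOne G).2)]
    exact inner_pReg_ne_zero_of_height_zero hM isPBlock_principalBlock
      (irrOne_mem_principalBlock hM) ((height_zero_principal_iff hM _).2 (by
        rw [CA.BlkZero.charDegree_irrOne]; exact hM.1.not_dvd_one)) h
  · intro h
    by_contra h'
    exact h (inner_pReg_eq_zero hM (isSat_of_isPBlock hM isPBlock_principalBlock).compl h'
      (not_not.2 (irrOne_mem_principalBlock hM)))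

theorem cs_const (hM : IsPModular p M) (h : ∀ μ : IrrCharacter (G ⧸ N),
      infl (QuotientGroup.mk'_surjective N) μ ∈ principalBlock M G → μ = irrOne _)
    {χ : IrrCharacter G} (hχ : χ ∈ principalBlock M G) (c : G) :
    cs p N χ.1 c = cs p N χ.1 1 := by
  classical
  haveI := Fintype.ofFinite (G ⧸ N)
  let f : G ⧸ N → ℂ := fun y => cs p N χ.1 y.out
  have h1 : ∀ c : G, f c = cs p N χ.1 c := fun c => by
    obtain ⟨n, hn⟩ := QuotientGroup.mk_out_eq_mul N c
    simp only [f, hn]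
    exact cs_mul _ _ n.2
  have h2 : IsClassFunction (G ⧸ N) f := fun x y => by
    obtain ⟨x, rfl⟩ := QuotientGroup.mk_surjective x
    obtain ⟨y, rfl⟩ := QuotientGroup.mk_surjective y
    rw [← QuotientGroup.mk_inv, ← QuotientGroup.mk_mul, ← QuotientGroup.mk_mul, h1, h1,
      cs_conj (irr_classFun χ.2)]
  have h3 : ∀ μ : IrrCharacter (G ⧸ N), μ ≠ irrOne _ → classInner f μ.1 = 0 := fun μ hμ => by
    have := inner_pReg_eq_zero hM (isSat_of_isPBlock hM isPBlock_principalBlock) hχ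
      fun h' => hμ (h μ h')
    rw [classInner, mul_eq_zero, inv_eq_zero, or_iff_right (Nat.cast_ne_zero.2 Nat.card_pos.ne'),
      CA.Ind.sum_eq_sum_quotient N] at this
    rw [classInner, ← mul_zero (Nat.card (G ⧸ N) : ℂ)⁻¹, ← this]
    congr 1
    refine Finset.sum_congr rfl fun y _ => ?_
    simp only [f, cs, Finset.sum_mul]
    refine Finset.sum_congr rfl fun n _ => ?_
    simp
  have h4 : ∀ y, f y = classInner f (irrOne _).1 := fun y => by
    rw [classFun_apply_eq_sum h2, Finset.sum_eq_single (irrOne _)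
      (fun μ _ hμ => by rw [h3 μ hμ, zero_mul]) (by simp)]
    simp [irrOne]
  rw [← h1, ← h1, h4, h4]

variable [hp : Fact p.Prime] {θ : IrrCharacter N} {Q : Subgroup G}

/-- The local extensions given by the Alperin–Dade isomorphism. -/
theorem exists_local (hM : IsPModular p M) (hθ : θ ∈ principalBlock M N) (hQ : Q ≤ N)
    (hQ' : ¬ p ∣ Q.relIndex N) {U : Subgroup G} (hU : N ≤ U) (hi : ¬ p ∣ N.relIndex U)
    (hC : U ≤ N ⊔ centralizer (Q : Set G)) [Fintype U] [Fintype (N.subgroupOf U)] :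
    ∃ χ : U → ℂ, IsIrrCharacter U χ ∧ (∀ n : N, χ ⟨n, hU n.2⟩ = θ.1 n) ∧
      ∀ c, cs p (N.subgroupOf U) χ c = ∑ n, pRegularPart p θ.1 n := by
  have h1 := CA.H12Dade.eq_one_of_sup hM (N := N.subgroupOf U) hi (P := Q.subgroupOf U)
    (by
      change ¬ p ∣ Q.relIndex U
      rw [← relIndex_mul_relIndex Q N U hQ hU]
      exact fun h => (hp.out.dvd_mul.1 h).elim hQ' hi)
    (by
      refine eq_top_iff.2 fun u _ => ?_
      have h2 : (u : G) ∈ ((N ⊔ centralizer (Q : Set G) : Subgroup G) : Set G) := hC u.2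
      rw [normal_mul] at h2
      obtain ⟨n, hn, c, hc, e⟩ := h2
      have hcU : c ∈ U := by
        have := U.mul_mem (U.inv_mem (hU hn)) u.2
        rwa [← e, inv_mul_cancel_left] at this
      have : u = ⟨n, hU hn⟩ * ⟨c, hcU⟩ := Subtype.ext e.symm
      rw [this]
      exact mul_mem (mem_sup_left hn) (mem_sup_right fun q hq => Subtype.ext (hc q hq)))
  have hs : Function.Surjective (subgroupOfEquivOfLe hU).toMonoidHom :=
    (subgroupOfEquivOfLe hU).surjective
  obtain ⟨χ, ⟨h2, h3⟩, -⟩ := (CA.H12Dade.dade hM h1).2 _ (infl_mem_principal hs hM hθ)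
  refine ⟨χ.1, χ.2, fun n => h3 ⟨⟨n, hU n.2⟩, n.2⟩, fun c => ?_⟩
  rw [cs_const hM h1 h2, cs_one h3]
  exact Fintype.sum_equiv (subgroupOfEquivOfLe hU).toEquiv _ _ fun x =>
    (pRegularPart_comp (φ := (subgroupOfEquivOfLe hU).toMonoidHom)
      (subgroupOfEquivOfLe hU).injective θ.1 x).symm

theorem le_sup_of_not_dvd {L U : Subgroup G} [L.Normal] (hL : ∃ a, L.index = p ^ a) (hNL : N ≤ L)
    (hi : ¬ p ∣ N.relIndex U) : U ≤ L := fun u hu => by
  rw [← pPart_mul_pReg p u]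
  refine L.mul_mem (hNL ?_) (regular_mem_of_index hp.out L hL (not_dvd_orderOf_pReg hp.out u))
  refine mem_of_pow_mem hp.out (isPPart_pPart hp.out u) hi ?_
  exact (N.subgroupOf U).pow_index_mem ⟨u, hu⟩

/-- An extension all of whose regular coset sums agree. -/
theorem exists_good (hM : IsPModular p M) (hθ : θ ∈ principalBlock M N) (hinv : inertia θ.1 = ⊤)
    (hd : ¬ p ∣ charDegree θ.1) (ho : ¬ p ∣ detOrder θ.1) (hQ : Q ≤ N) (hQ' : ¬ p ∣ Q.relIndex N)
    [(N ⊔ centralizer (Q : Set G)).Normal]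
    (hL : ∃ a, (N ⊔ centralizer (Q : Set G)).index = p ^ a) :
    ∃ χ : G → ℂ, IsIrrCharacter G χ ∧ (∀ n : N, χ n = θ.1 n) ∧
      ∀ c, ¬ p ∣ orderOf c → cs p N χ c = ∑ n, pRegularPart p θ.1 n := by
  classical
  set S := ∑ n, pRegularPart p θ.1 n with hS
  have hS0 : S ≠ 0 := (mem_principal_iff hM).1 hθ
  have loc := fun (U : Subgroup G) (hU : N ≤ U) (hi : ¬ p ∣ N.relIndex U) =>
    exists_local hM hθ hQ hQ' hU hi (le_sup_of_not_dvd hL le_sup_left hi)
  obtain ⟨η, h1, h2⟩ := exists_ext_of_det_pow θ.2 hinv (k := detOrder θ.1)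
    (CChar.CharInt.irr_apply_one_eq θ.2) 1
    (fun n => by
      have := congrFun (pow_orderOf_eq_one (detChar θ.1)) n
      exact this.symm)
    (fun r hr _ h => by
      haveI : Fact r.Prime := ⟨hr⟩
      obtain ⟨R⟩ : Nonempty (Sylow r G) := inferInstance
      have hi : ¬ p ∣ N.relIndex (N ⊔ R) := by
        rw [relIndex_sup_left]
        intro h'
        obtain ⟨n, hn⟩ := IsPGroup.iff_card.1 R.isPGroup'
        have := h'.trans (relIndex_dvd_card N (R : Subgroup G))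
        rw [hn] at this
        rw [← (Nat.prime_dvd_prime_iff_eq hp.out hr).1 (hp.out.dvd_of_dvd_pow this)] at h
        exact (hp.out.dvd_mul.1 h).elim hd ho
      obtain ⟨χ, h1, h2, -⟩ := loc _ le_sup_left hi
      exact ⟨_, le_sup_left, χ, fun h' => R.not_dvd_index (h'.trans (index_dvd_of_le le_sup_right)),
        char_of_irr h1, h2⟩)
  have key : ∀ E : Subgroup G, ¬ p ∣ Nat.card E → ∃ lam : E →* ℂˣ,
      (∀ e : E, (e : G) ∈ N → lam e = 1) ∧ ∀ e : E, cs p N η e = lam e * S := fun E hE => by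
    have hi : ¬ p ∣ N.relIndex (N ⊔ E) := by
      rw [relIndex_sup_left]
      exact fun h' => hE (h'.trans (relIndex_dvd_card N E))
    obtain ⟨χ, h3, h4, h5⟩ := loc _ le_sup_left hi
    obtain ⟨lam, h6, h7⟩ := exists_linear_of_ext (N := N.subgroupOf (N ⊔ E)) (char_of_irr h3)
      (by
        convert irr_comp_mulEquiv θ.2 (subgroupOfEquivOfLe (le_sup_left : N ≤ N ⊔ E)) using 2
        exact h4 ⟨_, _⟩)
      (char_comp (char_of_irr h1) (N ⊔ E).subtype)
      (fun n => (h2 ⟨n, n.2⟩).trans (h4 ⟨n, n.2⟩).symm)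
    refine ⟨lam.comp (inclusion le_sup_right), fun e he => h6 _ he, fun e => ?_⟩
    rw [hS, ← h5 (inclusion le_sup_right e), MonoidHom.comp_apply, ← cs_lin lam h6, ← h7]
    exact (cs_res le_sup_left η (inclusion le_sup_right e)).symm
  have key' : ∀ c, ¬ p ∣ orderOf c → ∃ lam : zpowers c →* ℂˣ, (c ∈ N → lam ⟨c, mem_zpowers c⟩ = 1) ∧
      cs p N η c / S = lam ⟨c, mem_zpowers c⟩ := fun c hc => by
    obtain ⟨lam, h3, h4⟩ := key (zpowers c) (by rwa [Nat.card_zpowers])
    exact ⟨lam, h3 ⟨c, _⟩, by rw [h4 ⟨c, mem_zpowers c⟩, mul_div_cancel_right₀ _ hS0]⟩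
  let ν : G → ℂ := fun g => cs p N η (pReg p g) / S
  have hN1 : ∀ n ∈ N, ν n = 1 := fun n hn => by
    obtain ⟨lam, h3, h4⟩ := key' _ (not_dvd_orderOf_pReg hp.out n)
    simp only [ν, h4, h3 (pReg_mem hp.out hn), Units.val_one]
  have hg : IsGeneralizedCharacter G ν := genChar_of_nilpotent
    (fun g x => by simp only [ν, pReg_conj hp.out, cs_conj (irr_classFun h1)]) fun E hE => by
      let f := E.subtype.comp (pRegHom (E := E) hp.out)
      obtain ⟨lam, -, h4⟩ := key f.range fun h => by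
        obtain ⟨⟨_, x, rfl⟩, hx⟩ := exists_prime_orderOf_dvd_card' p h
        rw [← Subgroup.orderOf_coe] at hx
        refine not_dvd_orderOf_pReg hp.out x ?_
        rw [← Subgroup.orderOf_coe]
        exact hx.symm.dvd
      convert gen_of_char (char_of_unitsHom (lam.comp f.rangeRestrict)) using 2 with e
      simp only [ν]
      rw [div_eq_iff hS0, MonoidHom.comp_apply, ← h4, ← coe_pReg hp.out]
      rfl
  have hn : classInner ν ν = 1 := by
    rw [classInner, Finset.sum_congr rfl fun g _ => show ν g * conj (ν g) = 1 by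
      obtain ⟨lam, -, h4⟩ := key' _ (not_dvd_orderOf_pReg hp.out g)
      simp only [ν, h4]
      rw [← char_apply_inv (char_of_unitsHom lam)]
      simp]
    simp
  have hν1 := hN1 1 N.one_mem
  obtain ⟨lam, hl⟩ := char_exists_unitsHom_of_apply_one
    (char_of_irr (irr_of_gen_norm_one hg hn (by simp [hν1]))) hν1
  have hl' : ∀ n ∈ N, lam⁻¹ n = 1 := fun n hn => by
    have := hN1 n hn
    rw [hl] at this
    simpa using this
  refine ⟨_, irr_unitsHom_mul h1 lam⁻¹, fun n => by rw [hl' n n.2, h2]; simp, fun c hc => ?_⟩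
  have := congrFun hl c
  simp only [ν, (pReg_eq_self_iff hp.out).2 hc] at this
  rw [cs_lin _ hl', (div_eq_iff hS0).1 this]
  simp

theorem mem_principal_of_cs (hM : IsPModular p M) {χ : IrrCharacter G} {S : ℂ} (hS : S ≠ 0)
    (h : ∀ c, ¬ p ∣ orderOf c → cs p N χ.1 c = S) : χ ∈ principalBlock M G := by
  classical
  rw [mem_principal_iff hM]
  intro h0
  have h1 := sum_cs (p := p) (N := N) χ.1
  have h3 : ∀ c, cs p N χ.1 c = if ∃ n : N, ¬ p ∣ orderOf (c * n) then S else 0 := fun c => by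
    split_ifs with h2
    · obtain ⟨n, hn⟩ := h2
      rw [← cs_mul _ _ n.2, h _ hn]
    · exact Finset.sum_eq_zero fun n _ => pReg_of_dvd _ (not_not.1 fun h3 => h2 ⟨n, h3⟩)
  simp only [h3] at h1
  rw [h0, mul_zero, ← Finset.sum_filter, Finset.sum_const, nsmul_eq_mul, mul_eq_zero, or_iff_left hS,
    Nat.cast_eq_zero, Finset.card_eq_zero] at h1
  refine Finset.filter_eq_empty_iff.1 h1 (Finset.mem_univ 1) ⟨1, ?_⟩
  simpa using hp.out.ne_one

theorem pow_apply (lam : G →* ℂˣ) {u : G} (hu : ∃ k : ℕ, orderOf u = p ^ k) :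
    lam u ^ p ^ (Nat.card G).factorization p = 1 := by
  obtain ⟨k, hk⟩ := hu
  rw [← map_pow, orderOf_dvd_iff_pow_eq_one.1, map_one]
  rw [hk]
  exact pow_dvd_pow _ ((hp.out.pow_dvd_iff_le_factorization Nat.card_pos.ne').1
    (hk ▸ orderOf_dvd_natCard u))

theorem unique_good {η η' : G → ℂ} (h : IsIrrCharacter G η) (h' : IsIrrCharacter G η')
    (hd : ¬ p ∣ charDegree θ.1) (h1 : ∀ n : N, η n = θ.1 n) (h1' : ∀ n : N, η' n = θ.1 n) {S : ℂ}
    (hS : S ≠ 0) (h2 : ∀ c, ¬ p ∣ orderOf c → cs p N η c = S)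
    (h2' : ∀ c, ¬ p ∣ orderOf c → cs p N η' c = S)
    (h3 : ∀ u, (∃ k : ℕ, orderOf u = p ^ k) → detChar η u = 1)
    (h3' : ∀ u, (∃ k : ℕ, orderOf u = p ^ k) → detChar η' u = 1) : η' = η := by
  obtain ⟨lam, h4, rfl⟩ := exists_linear_of_ext (N := N) (char_of_irr h)
    (by rw [funext h1]; exact θ.2) (char_of_irr h') fun n => (h1' n).trans (h1 n).symm
  have e : η 1 = charDegree θ.1 :=
    (h1 1).trans (CChar.CharInt.irr_apply_one_eq θ.2)
  funext g
  have h5 : lam (pReg p g) = 1 := by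
    have := h2' _ (not_dvd_orderOf_pReg hp.out g)
    rw [cs_lin lam h4, h2 _ (not_dvd_orderOf_pReg hp.out g), mul_eq_right₀ hS] at this
    exact Units.val_eq_one.1 this
  have h6 : lam (pPart p g) = 1 := by
    have := h3' _ (orderOf_pPart hp.out g)
    rw [detChar_mul_linear h lam e] at this
    simp only [h3 _ (orderOf_pPart hp.out g), mul_one, ← Units.val_pow_eq_pow_val,
      Units.val_eq_one] at this
    exact eq_one_of_coprime (Nat.Coprime.pow_left _ (hp.out.coprime_iff_not_dvd.2 hd))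
      (pow_apply lam (orderOf_pPart hp.out g)) this
  rw [← pPart_mul_pReg p g, map_mul, h5, h6]
  simp

/-- Adjusting the determinant. -/
theorem exists_det {η : G → ℂ} (h : IsIrrCharacter G η) (hd : ¬ p ∣ charDegree θ.1)
    (ho : ¬ p ∣ detOrder θ.1) (h1 : ∀ n : N, η n = θ.1 n) : ∃ κ : G →* ℂˣ, (∀ n ∈ N, κ n = 1) ∧
      (∀ c, ¬ p ∣ orderOf c → κ c = 1) ∧ ∀ u, (∃ k : ℕ, orderOf u = p ^ k) →
        detChar (fun g => (κ g : ℂ) * η g) u = 1 := by
  obtain ⟨δ, hδ⟩ := exists_detHom η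
  obtain ⟨e, he⟩ := exists_pPart_eq_pow hp.out G
  have hc := Nat.Coprime.pow_left ((Nat.card G).factorization p) (hp.out.coprime_iff_not_dvd.2 hd)
  obtain ⟨k, hk⟩ := exists_root_pow (pow_ne_zero _ hp.out.ne_zero) hc
  have e1 : η 1 = charDegree θ.1 :=
    (h1 1).trans (CChar.CharInt.irr_apply_one_eq θ.2)
  have e2 : ∀ g, (((δ ^ e) ^ k)⁻¹ : G →* ℂˣ) g = (δ (pPart p g) ^ k)⁻¹ := fun g => by simp [he]
  refine ⟨((δ ^ e) ^ k)⁻¹, fun n hn => ?_, fun c hc => ?_, fun u hu => ?_⟩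
  · rw [e2, eq_one_of_coprime (Nat.Coprime.pow_left _ (hp.out.coprime_iff_not_dvd.2 ho))
      (pow_apply δ (orderOf_pPart hp.out n)) ?_]
    · simp
    · have h2 := congrFun (pow_orderOf_eq_one (detChar θ.1)) ⟨_, pPart_mem hp.out hn⟩
      rw [Pi.pow_apply, ← detChar_ext (char_of_irr h) θ.2 h1, hδ] at h2
      exact Units.val_eq_one.1 (by rw [Units.val_pow_eq_pow_val]; exact h2)
  · rw [e2, (pPart_eq_one_iff hp.out).2 hc]
    simp
  · rw [detChar_mul_linear h _ e1, hδ]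
    simp only [e2, (pPart_eq_self_iff hp.out).2 hu, ← Units.val_pow_eq_pow_val, inv_pow,
      hk _ (pow_apply δ hu), ← Units.val_mul, inv_mul_cancel, Units.val_one]

theorem not_dvd_detOrder {K : Type*} [Group K] [Finite K] (hp2 : p ≠ 2) {θ : K → ℂ}
    (hθ : IsIrrCharacter K θ) {m : ℕ} (hm : ¬ p ∣ m) (h : ∀ n, θ n ∈ Cy m) :
    ¬ p ∣ detOrder θ := by
  intro hd
  obtain ⟨δ, hδ⟩ := exists_detHom θ
  have hm0 : m ≠ 0 := fun e => hm (e ▸ dvd_zero p)
  obtain ⟨σ, h1, h2⟩ := exists_fix_pow hm0 hp.out.ne_zero (hp.out.coprime_iff_not_dvd.2 hm).symm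
    ((Nat.coprime_primes Nat.prime_two hp.out).2 hp2.symm)
  have h3 := CA.H12Gl2.detChar_map σ.toRingHom hθ
  rw [show (fun g => σ.toRingHom (θ g)) = θ from funext fun g => h1 _ (h g), hδ] at h3
  rw [detOrder, hδ, CA.Ext.orderOf_coe] at hd
  have h0 : orderOf δ ≠ 0 := fun e => Nat.card_pos.ne' (zero_dvd_iff.1 (e ▸ orderOf_dvd_card δ))
  have h4 := orderOf_pow_orderOf_div h0 hd
  have h5 : δ ^ (orderOf δ / p) = 1 := by
    ext g
    have h6 : ((δ ^ (orderOf δ / p)) g : ℂ) ^ p = 1 := by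
      have := pow_orderOf_apply (δ ^ (orderOf δ / p)) g
      rw [h4] at this
      rw [← Units.val_pow_eq_pow_val, this, Units.val_one]
    have h7 := h2 _ h6
    have h8 : σ ((δ ^ (orderOf δ / p)) g : ℂ) = (δ ^ (orderOf δ / p)) g := by
      simp only [MonoidHom.pow_apply, Units.val_pow_eq_pow_val, map_pow]
      exact congrArg (· ^ _) (congrFun h3 g).symm
    rw [h8, sq] at h7
    simpa using (left_eq_mul₀ (Units.ne_zero _)).1 h7
  rw [h5, orderOf_one] at h4
  exact hp.out.ne_one h4.symm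

/-- The `p`-rational extension in the principal block. -/
theorem exists_rat (hp2 : p ≠ 2) (hM : IsPModular p M) (hθ : θ ∈ principalBlock M N)
    (hinv : inertia θ.1 = ⊤) (hd : ¬ p ∣ charDegree θ.1) {m : ℕ} (hm : ¬ p ∣ m)
    (hr : ∀ n, θ.1 n ∈ Cy m) (hQ : Q ≤ N) (hQ' : ¬ p ∣ Q.relIndex N)
    [(N ⊔ centralizer (Q : Set G)).Normal]
    (hL : ∃ a, (N ⊔ centralizer (Q : Set G)).index = p ^ a) :
    ∃ χ ∈ principalBlock M G, (∀ g, χ.1 g ∈ Cy m) ∧ ∀ n : N, χ.1 n = θ.1 n := by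
  have ho := not_dvd_detOrder hp2 θ.2 hm hr
  obtain ⟨η, h1, h2, h3⟩ := exists_good hM hθ hinv hd ho hQ hQ' hL
  obtain ⟨κ, h4, h5, h6⟩ := exists_det h1 hd ho h2
  have hS0 := (mem_principal_iff hM).1 hθ
  have h7 := irr_unitsHom_mul h1 κ
  have h8 : ∀ n : N, (κ n : ℂ) * η n = θ.1 n := fun n => by rw [h4 n n.2, h2]; simp
  have h9 : ∀ c, ¬ p ∣ orderOf c →
      cs p N (fun g => (κ g : ℂ) * η g) c = ∑ n, pRegularPart p θ.1 n := fun c hc => by
    rw [cs_lin κ h4, h5 c hc, h3 c hc]; simp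
  refine ⟨⟨_, h7⟩, mem_principal_of_cs hM hS0 h9, fun g => mem_Cy (m := m) (fun e => hm (e ▸ dvd_zero p))
    (gen_isIntegral (gen_of_irr h7) g).tower_top fun σ hσ => ?_, h8⟩
  refine congrFun (unique_good h7 (CA.Cons.irr_map σ.toRingHom h7) hd h8
    (fun n => by rw [h8]; exact hσ _ (hr n)) hS0 h9 (fun c hc => ?_) h6 fun u hu => ?_) g
  · rw [cs_map σ.toRingHom (fun g => (κ g : ℂ) * η g), h9 c hc]
    refine hσ _ (sum_mem fun n _ => ?_)
    rw [pRegularPart_apply]
    split_ifs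
    exacts [zero_mem _, hr n]
  · rw [CA.H12Gl2.detChar_map σ.toRingHom h7]
    simp only [h6 u hu, map_one]

theorem normal_sup_centralizer (Q : Sylow p N) :
    (N ⊔ centralizer (((Q : Subgroup N).map N.subtype : Subgroup G) : Set G)).Normal := by
  rw [← normalizer_eq_top_iff, eq_top_iff, ← Sylow.normalizer_sup_eq_top Q]
  refine sup_le (fun g hg => normalizer_inf_normalizer_le_normalizer_sup _ _
    ⟨by rw [normalizer_eq_top]; trivial, ?_⟩) (le_sup_left.trans le_normalizer)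
  exact mem_normalizer_iff.2 fun x => (CA.H11Amb.conj_mem_CC hg).symm

end CA.H10PRat
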