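import Cfsg.Agent.Lib.Block.BlkPr
import Cfsg.Agent.Lib.Block.BlkCov
import Cfsg.Agent.Lib.Block.H11Contrib
import Cfsg.Agent.Lib.Char.H12Deg
import Cfsg.Agent.Lib.Char.H12Gl2
import Cfsg.Agent.Lib.Char.Ext

/-! Characters fixed by `p`-groups of conjugations and Galois automorphisms. -/

set_option autoImplicit false
set_option linter.unusedSectionVars false

namespace CA.H10Sig
open Cfsg CA.BlkCore CA.BlkGal CA.BlkHeight CA.BlkPr CA.BlkCov CA.H12Cover CA.H12PPart CA.Clif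
  CA.Ext CA.H11Contrib CChar.CharFun CChar.CharOrth CChar.CharInt Subgroup

variable {p : ℕ} [hp : Fact p.Prime] {M : Ideal AlgInt} {G : Type*} [Group G] [Finite G]
  {N : Subgroup G} [hN : N.Normal] {k : ℕ}

theorem card_inv_modEq {P : Subgroup G} (hP : IsPGroup p P) (R : IrrCharacter N → Prop)
    (hR : ∀ x ∈ P, ∀ θ, R θ → R (cjI x θ)) :
    Nat.card {θ // R θ ∧ ∀ x ∈ P, cjI x θ = θ} ≡ Nat.card {θ // R θ} [MOD p] := by
  letI : MulAction P {θ // R θ} :=
    { smul := fun x θ => ⟨cjI (x⁻¹ : G) θ.1, hR _ (P.inv_mem x.2) _ θ.2⟩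
      one_smul := fun θ => Subtype.ext (by
        change cjI (((1 : P) : G)⁻¹) θ.1 = θ.1
        simp [cjI_one])
      mul_smul := fun x y θ => Subtype.ext (by
        change cjI (((x * y : P) : G)⁻¹) θ.1 = cjI (x⁻¹ : G) (cjI (y⁻¹ : G) θ.1)
        simp [cjI_cjI]) }
  refine (Nat.card_congr ?_ ▸ (hP.card_modEq_card_fixedPoints {θ // R θ}).symm)
  exact
    { toFun := fun θ => ⟨θ.1.1, θ.1.2, fun x hx => by
        have := congrArg Subtype.val (θ.2 ⟨x⁻¹, P.inv_mem hx⟩)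
        change cjI x⁻¹⁻¹ θ.1.1 = θ.1.1 at this
        rwa [inv_inv] at this⟩
      invFun := fun θ => ⟨⟨θ.1, θ.2.1⟩, fun x => Subtype.ext (θ.2.2 _ (P.inv_mem x.2))⟩
      left_inv := fun _ => rfl
      right_inv := fun _ => rfl }

theorem charDegree_cjI (x : G) (θ : IrrCharacter N) :
    charDegree (cjI x θ).1 = charDegree θ.1 := 
  charDegree_eq_of_apply (congrArg θ.1 (Subtype.ext (by simp)))

theorem pw_cjI (hk : k.Coprime (Nat.card N)) (x : G) (θ : IrrCharacter N) :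
    pw hk (cjI x θ) = cjI x (pw hk θ) := Subtype.ext (funext fun n => by
  simp only [pw_apply, coe_cjI, cj]
  exact congrArg θ.1 (Subtype.ext (by simp [conj_pow])))

theorem coprime_of_sig (h1 : ∀ g : G, (∃ j : ℕ, orderOf g = p ^ j) → g ^ k = g ^ (1 + p))
    (h2 : ∀ g : G, ¬ p ∣ orderOf g → g ^ k = g) : k.Coprime (Nat.card G) := by
  refine Nat.coprime_of_dvd fun r hr hk hG => ?_
  haveI : Fact r.Prime := ⟨hr⟩
  obtain ⟨g, hg⟩ := exists_prime_orderOf_dvd_card' r hG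
  have h3 : g ^ k = 1 := orderOf_dvd_iff_pow_eq_one.1 (hg ▸ hk)
  have h4 : g = 1 := by
    by_cases h : r = p
    · subst h
      rw [h1 g ⟨1, by simpa using hg⟩, pow_add, ← hg, pow_orderOf_eq_one] at h3
      simpa using h3
    · rw [h2 g (by rw [hg]; exact fun h' => h ((Nat.prime_dvd_prime_iff_eq hp.out hr).1 h').symm)]
        at h3
      exact h3
  rw [h4, orderOf_one] at hg
  exact hr.ne_one hg.symm

theorem pow_pow_of_sig (h1 : ∀ g : G, (∃ j : ℕ, orderOf g = p ^ j) → g ^ k = g ^ (1 + p))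
    (h2 : ∀ g : G, ¬ p ∣ orderOf g → g ^ k = g) : ∃ n : ℕ, ∀ g : G, g ^ k ^ p ^ n = g := by
  refine ⟨(Nat.card G).factorization p, fun g => ?_⟩
  have e1 : ∀ j : ℕ, pReg p g ^ k ^ j = pReg p g := fun j => by
    induction j with
    | zero => simp
    | succ j ih => rw [pow_succ, pow_mul, ih, h2 _ (not_dvd_orderOf_pReg hp.out g)]
  obtain ⟨a, ha⟩ := orderOf_pPart hp.out g
  have e2 : ∀ j : ℕ, pPart p g ^ k ^ j = pPart p g ^ (1 + p) ^ j := fun j => by
    induction j with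
    | zero => simp
    | succ j ih =>
      rw [pow_succ, pow_mul, ih, h1, ← pow_mul, ← pow_succ]
      exact (Nat.dvd_prime_pow hp.out).1 (ha ▸ orderOf_pow_dvd _) |>.imp fun _ h => h.2
  have e3 : (1 + p) ^ p ^ (Nat.card G).factorization p ≡ 1 [MOD orderOf (pPart p g)] := by
    have h3 := dvd_sub_pow_of_dvd_sub (R := ℤ) (p := p) (a := 1 + p) (b := 1) (by simp)
      ((Nat.card G).factorization p)
    refine (Nat.modEq_iff_dvd.2 ?_).symm
    rw [ha]
    push_cast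
    rw [one_pow] at h3
    refine (pow_dvd_pow _ ?_).trans h3
    exact ((hp.out.pow_dvd_iff_le_factorization Nat.card_pos.ne').1
      (ha ▸ orderOf_dvd_natCard _)).trans (Nat.le_succ _)
  conv_lhs => rw [← pPart_mul_pReg p g]
  rw [(commute_pPart_pReg hp.out g).mul_pow, e1, e2, pow_eq_pow_iff_modEq.2 e3, pow_one,
    pPart_mul_pReg]

theorem card_pw_modEq (hk : k.Coprime (Nat.card G)) {n : ℕ} (h : ∀ g : G, g ^ k ^ p ^ n = g)
    (R : IrrCharacter G → Prop) (hR : ∀ θ, R θ → R (pw hk θ)) :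
    Nat.card {θ // R θ ∧ pw hk θ = θ} ≡ Nat.card {θ // R θ} [MOD p] :=
  card_fixed_modEq hp.out (pwEquiv hk) (n := n) (Equiv.ext fun χ => Subtype.ext (funext fun g => by
    rw [pwEquiv_pow, h]; rfl)) R hR

theorem card_bar_modEq (R : IrrCharacter G → Prop) (hR : ∀ θ, R θ → R (bar θ)) :
    Nat.card {θ // R θ ∧ bar θ = θ} ≡ Nat.card {θ // R θ} [MOD 2] :=
  card_fixed_modEq Nat.prime_two (pwEquiv coprime_pred) (n := 1) (Equiv.ext fun χ => by
    rw [pow_one, sq]; exact bar_bar χ) R hR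

/-- The canonical extension is fixed by the Galois automorphisms fixing the character. -/
theorem exists_can (hi : ∃ a, N.index = p ^ a) {θ : IrrCharacter N} (hinv : inertia θ.1 = ⊤)
    (hd : ¬ p ∣ charDegree θ.1) (ho : ¬ p ∣ detOrder θ.1) : ∃ χ : IrrCharacter G,
      (∀ n : N, χ.1 n = θ.1 n) ∧ ∀ k : ℕ, k.Coprime (Nat.card G) →
        (∀ n : N, θ.1 (n ^ k) = θ.1 n) → ∀ g, χ.1 (g ^ k) = χ.1 g := by
  obtain ⟨a, ha⟩ := hi
  obtain ⟨χ, ⟨h1, h2, h3⟩, h4⟩ := exists_canonical_ext θ.2 hinv (irr_apply_one_eq θ.2) (by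
    rw [ha]
    exact Nat.Coprime.pow_left _ (hp.out.coprime_iff_not_dvd.2 fun h =>
      (hp.out.dvd_mul.1 h).elim ho hd))
  refine ⟨⟨χ, h1⟩, h2, fun k hk h => congrFun (h4 _ (irr_pw hk h1) (fun n => ?_) ?_)⟩
  · rw [← h, ← h2]; rfl
  · obtain ⟨σ, hσ⟩ := exists_gal hk
    rw [← funext (hσ (char_of_irr h1)), ha]
    have := CA.H12Gl2.detOrder_map σ.toRingHom h1
    exact Nat.Coprime.pow_left _ (hp.out.coprime_iff_not_dvd.2 (by
      rw [← h3, ← this] at ho; exact ho))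

theorem inertia_eq_top_of {P : Subgroup G} (h : N ⊔ P = ⊤) {θ : IrrCharacter N}
    (hθ : ∀ x ∈ P, cjI x θ = θ) : inertia θ.1 = ⊤ :=
  eq_top_iff.2 (h ▸ sup_le (le_inertia (irr_classFun θ.2)) fun x hx =>
    congrArg Subtype.val (hθ x hx))

theorem two_dvd_card_principal (hM : IsPModular 2 M) (h : 2 ∣ Nat.card G) :
    2 ∣ Nat.card {χ : IrrCharacter G // χ ∈ principalBlock M G ∧ ¬ 2 ∣ charDegree χ.1} := by
  classical
  haveI := Fintype.ofFinite G
  have h1 := factorization_sum_degree_sq hM (isPBlock_principalBlock (G := G))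
  rw [blockDefect_principal hM] at h1
  have h2 := Nat.prime_two.factorization_pos_of_dvd Nat.card_pos.ne' h
  have h3 := Nat.dvd_of_factorization_pos (p := 2)
    (n := ∑ χ with χ ∈ principalBlock M G, charDegree χ.1 ^ 2) (by omega)
  rw [← ZMod.natCast_eq_zero_iff] at h3 ⊢
  rw [Nat.card_eq_fintype_card, Fintype.card_subtype, ← h3, Finset.card_eq_sum_ones,
    Finset.sum_filter, Finset.sum_filter]
  push_cast
  refine Finset.sum_congr rfl fun χ _ => ?_
  by_cases h4 : χ ∈ principalBlock M G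
  · by_cases h5 : 2 ∣ charDegree χ.1
    · simp [h4, h5, (ZMod.natCast_eq_zero_iff _ 2).2 h5]
    · rw [if_pos ⟨h4, h5⟩, if_pos h4,
        (ZMod.natCast_eq_one_iff_odd).2 (Nat.odd_iff.2 (by omega)), one_pow]
  · simp [h4]

end CA.H10Sig
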