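import Cfsg.Agent.Lib.Block.H11Uni
import Cfsg.Agent.Lib.Block.BlkDom
import Cfsg.Agent.Lib.Block.BlkRk

/-!
# Bounds for the number of characters from major subsections with cyclic quotient
-/

set_option autoImplicit false
set_option linter.unusedSectionVars false

namespace CA.H11Bf

open Cfsg CA.BlkVal CA.BlkHeight CA.H11Contrib CA.H11Cyclo CA.H11Sec CA.H11Av CA.H13Span CA.BlkReg
  CA.H12PPart CA.BlkQuo CA.H11Fb CA.H11Exc CA.H11Orb CA.H11Brg CA.H11Max CA.H11Amb CA.H11Pair
  CA.H11Star CA.H11NilB CChar.CharFun CChar.CharOrth CChar.CharGen Subgroup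
open CA.BlkCore hiding lam lam_mul lam_one
open CA.BlkBas (self_mem_of_eq tr)
open scoped ComplexConjugate

theorem card_le_av {n : ℕ} [NeZero n] {J : Type*} [Fintype J] {r : J → ℕ → ℂ}
    (hr : ∀ j, r j ∈ cyc n) {i : J} (hi : r i 1 ≠ 0) : (Fintype.card J : ℝ) ≤
      av n fun k => (Fintype.card J + 1) * ∑ j, ‖r j k‖ ^ 2 - ‖∑ j, r j k‖ ^ 2 := by
  classical
  have h1 : ∀ k, ∑ j, (‖r j k‖ ^ 2 + ‖r i k - r j k‖ ^ 2) ≤
      (Fintype.card J + 1) * ∑ j, ‖r j k‖ ^ 2 - ‖∑ j, r j k‖ ^ 2 := fun k => by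
    have h2 : ∀ x : J → ℝ, ∑ j, (x i - x j) ^ 2 ≤
        Fintype.card J * ∑ j, x j ^ 2 - (∑ j, x j) ^ 2 := fun x => by
      have h3 : ∑ a, ∑ b, (x a - x b) ^ 2 =
          2 * (Fintype.card J * ∑ j, x j ^ 2 - (∑ j, x j) ^ 2) := by
        simp only [sub_sq, Finset.sum_add_distrib, Finset.sum_sub_distrib, Finset.sum_const,
          Finset.card_univ, nsmul_eq_mul, mul_assoc, ← Finset.mul_sum, ← Finset.sum_mul]
        ring
      have h4 : ∑ b, (x i - x b) ^ 2 + ∑ a ∈ Finset.univ.erase i, (x a - x i) ^ 2 ≤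
          ∑ a, ∑ b, (x a - x b) ^ 2 := by
        rw [← Finset.add_sum_erase _ (fun a => ∑ b, (x a - x b) ^ 2) (Finset.mem_univ i)]
        exact add_le_add le_rfl (Finset.sum_le_sum fun a _ => Finset.single_le_sum
          (f := fun b => (x a - x b) ^ 2) (fun _ _ => sq_nonneg _) (Finset.mem_univ i))
      rw [Finset.sum_erase _ (by simp), Finset.sum_congr rfl fun a _ => sub_sq_comm (x a) (x i)] at h4
      linarith
    have h5 := h2 fun j => (r j k).re
    have h6 := h2 fun j => (r j k).im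
    simp only [Complex.sq_norm, Complex.normSq_apply, Complex.sub_re, Complex.sub_im,
      Complex.re_sum, Complex.im_sum, Finset.sum_add_distrib, ← sq] at *
    linarith
  refine le_trans ?_ (av_mono (F := fun k => ∑ j, (‖r j k‖ ^ 2 + ‖r i k - r j k‖ ^ 2)) fun w => h1 _)
  rw [av_sum, Fintype.card, Finset.card_eq_sum_ones, Nat.cast_sum]
  refine Finset.sum_le_sum fun j _ => ?_
  rw [av_add, Nat.cast_one]
  by_cases h : r j 1 = 0
  · exact le_add_of_nonneg_of_le (le_av fun _ => by positivity)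
      (one_le_av_sq (sub_mem' (hr i) (hr j)) (by simpa [h] using hi))
  · exact le_add_of_le_of_nonneg (one_le_av_sq (hr j) h) (le_av fun _ => by positivity)

variable {p : ℕ} {M : Ideal AlgInt} {G : Type*} [Group G] [Fintype G] {B : Set (IrrCharacter G)}

section sub
variable {H : Subgroup G} [Fintype H] {b : Set (IrrCharacter H)} {u : G}

theorem card_le_of_proj (hM : IsPModular p M) (hu : ∃ n : ℕ, orderOf u = p ^ n)
    (hH : H = centralizer {u}) (hind : IsInducedBlock M H b B)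
    (hd : blockDefect p b = blockDefect p B) {J : Type*} [Fintype J] [DecidableEq J]
    {Φ : J → H → ℂ} (h1 : ∀ j, IsGeneralizedCharacter H (Φ j)) (h2 : ∀ j, InSpan b (Φ j))
    (h3 : ∀ j g, p ∣ orderOf g → Φ j g = 0) (hJ : Fintype.card J = blockRank p b) {q m : ℕ}
    (hq : q ≠ 0) (hC : ∀ i j, classInner (Φ i) (Φ j) = q * (m + if i = j then 1 else 0)) :
    Nat.card B ≤ q * (Fintype.card J + m) := by
  classical
  haveI : NeZero (orderOf u) := ⟨(orderOf_pos u).ne'⟩
  obtain ⟨S⟩ := CA.BlkIBr.nonempty_bset hM (isSat_of_isPBlock hM hind.1)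
  have hu' := self_mem_of_eq hH
  have h4 := fun j => S.eq_sum_Φ (h2 j).1 (h2 j).2 (h3 j)
  have hli : LinearIndependent ℂ Φ := Fintype.linearIndependent_iff.2 fun c hc => by
    have h5 : ∀ i, c i + m * ∑ j, c j = 0 := fun i => by
      have := congrArg (classInner · (Φ i)) hc
      simp only [inner_sum_left, CChar.CharFun.inner_smul_left, hC, CChar.CharFun.inner_zero_left, mul_add,
        Finset.sum_add_distrib, mul_ite, mul_one, mul_zero, Finset.sum_ite_eq', Finset.mem_univ,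
        if_true, ← Finset.sum_mul] at this
      exact mul_left_cancel₀ (Nat.cast_ne_zero.2 hq) (by linear_combination this)
    have h6 : (1 + Fintype.card J * m : ℂ) * ∑ j, c j = 0 := by
      have := Finset.sum_eq_zero (s := Finset.univ) fun i _ => h5 i
      rw [Finset.sum_add_distrib, Finset.sum_const, Finset.card_univ, nsmul_eq_mul] at this
      linear_combination this
    intro i
    simpa [(mul_eq_zero.1 h6).resolve_left (by norm_cast; omega)] using h5 i
  have hW : Submodule.span ℂ (Set.range Φ) = Submodule.span ℂ (Set.range S.Φ) :=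
    Submodule.eq_of_le_of_finrank_eq (Submodule.span_le.2 (by
      rintro _ ⟨j, rfl⟩
      rw [h4]
      exact Submodule.sum_mem _ fun i _ => Submodule.smul_mem _ _ (Submodule.subset_span ⟨i, rfl⟩)))
      (by rw [finrank_span_eq_card hli, finrank_span_eq_card S.li_Φ, hJ, S.card_eq])
  let r : IrrCharacter G → J → ℕ → ℂ := fun χ j k => classInner (tr H (u ^ k) χ.1) (Φ j)
  have h7 : ∀ χ j, r χ j ∈ cyc (orderOf u) := fun χ j => by
    choose n hn using S.exists_int_inner_φ (h1 j) (h3 j)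
    have : r χ j = fun k => ∑ i, n i * S.gd (u ^ k) χ.1 i := funext fun k => by
      show classInner _ (Φ j) = _
      rw [h4 j, inner_sum_right]
      exact Finset.sum_congr rfl fun i _ => by
        rw [CChar.CharFun.inner_smul_right, hn, map_intCast, S.gd_def]
    rw [this]
    exact sum_mem' fun i _ => mul_mem' (int_mem _ _) (gd_mem_cyc S hH.le hu' dvd_rfl (gen_of_irr χ.2) i)
  have h8 : ∀ χ ∈ B, ∃ j, r χ j 1 ≠ 0 := fun χ hχ => by
    by_contra! h
    refine sp_ne_zero_of_major hM hu hH hind hd hχ ?_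
    rw [sp_eq_sum S]
    refine Finset.sum_eq_zero fun i _ => smul_eq_zero_of_left ?_ _
    have h9 : S.Φ i ∈ Submodule.span ℂ (Set.range Φ) := hW ▸ Submodule.subset_span ⟨i, rfl⟩
    obtain ⟨c, hc⟩ := (Submodule.mem_span_range_iff_exists_fun ℂ).1 h9
    rw [S.gd_def, ← hc, inner_sum_right]
    exact Finset.sum_eq_zero fun j _ => by
      rw [CChar.CharFun.inner_smul_right, ← pow_one u]; exact mul_eq_zero_of_right _ (h j)
  have h9 : ∀ (w : (ZMod (orderOf u))ˣ) i j, ∑ χ with χ ∈ B, r χ i (ex w) * conj (r χ j (ex w)) =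
      q * (m + if i = j then 1 else 0) := fun w i j => by
    have hw := eq_centralizer_pow_ex dvd_rfl hH w
    have hu2 := pel_pow hM.1 hu (ex w)
    have e : ∀ (χ : IrrCharacter G) j, r χ j (ex w) = conj (classInner (up p H (u ^ ex w) (Φ j)) χ.1) :=
      fun χ j => by
        rw [CChar.CharFun.inner_conj_symm, inner_up (H.pow_mem hu' _) (irr_classFun χ.2),
          CA.BlkBas.pReg_eq_self (h3 j)]
    simp only [e, ← map_mul, ← map_sum]
    rw [← inner_eq_sum_of_inSpan (inSpan_up hM hu2 hw hind (h2 i)),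
      inner_up_up hM.1 hu2 hw (h2 i).1, CA.BlkBas.pReg_eq_self (h3 i), hC]
    split_ifs <;> simp
  have h10 : ∀ w : (ZMod (orderOf u))ˣ, ∑ χ with χ ∈ B, ((Fintype.card J + 1) *
      ∑ j, ‖r χ j (ex w)‖ ^ 2 - ‖∑ j, r χ j (ex w)‖ ^ 2) =
        (Fintype.card J : ℝ) * (q * (Fintype.card J + m) : ℕ) := fun w => by
    apply Complex.ofReal_injective
    simp only [Complex.sq_norm, Complex.ofReal_sum, Complex.ofReal_sub, Complex.ofReal_mul,
      ← Complex.mul_conj, map_sum, Finset.sum_mul_sum, Finset.sum_sub_distrib]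
    rw [← Finset.mul_sum]
    simp only [Finset.sum_comm (s := Finset.filter (· ∈ B) _), h9]
    simp [Finset.sum_add_distrib, mul_add]
    ring
  have h11 := Finset.sum_le_sum fun χ (hχ : χ ∈ Finset.univ.filter (· ∈ B)) =>
    (h8 χ (Finset.mem_filter.1 hχ).2).elim fun j hj => card_le_av (h7 χ) hj
  rw [← av_sum, av_eq h10, Finset.sum_const, nsmul_eq_mul, mul_comm, ← card_set_eq] at h11
  exact_mod_cast le_of_mul_le_mul_left h11 (Nat.cast_pos.2
    (hJ ▸ CA.BlkIBr.blockRank_pos hM hind.1))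

theorem card_le_mul_rank (hM : IsPModular p M) (hu : ∃ n : ℕ, orderOf u = p ^ n)
    (hH : H = centralizer {u}) (hind : IsInducedBlock M H b B)
    (hd : blockDefect p b = blockDefect p B) :
    Nat.card B ≤ p ^ blockDefect p B * blockRank p b := by
  classical
  haveI : NeZero (orderOf u) := ⟨(orderOf_pos u).ne'⟩
  have h1 := cm_spec hM hu hH dvd_rfl hind
  obtain ⟨χ, h3, h4⟩ := exists_height_zero (p := p) (block_nonempty hM hind.2.1)
  have := h1.card_mul_le hM.1.ne_zero subset_rfl fun i hi => one_le_av (h1.mem i i)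
    (h1.maj_self_ne_zero hM (cm_maj hM hu hH dvd_rfl hind hd) hi (j := χ) (by simpa using h3) h4)
  rw [mul_one, ← card_set_eq, hd] at this
  exact_mod_cast this

theorem sq_card_le (hM : IsPModular p M) (hu : ∃ n : ℕ, orderOf u = p ^ n)
    (hH : H = centralizer {u}) (hind : IsInducedBlock M H b B)
    (hd : blockDefect p b = blockDefect p B) (h0 : ∀ χ ∈ B, blockHeight p B χ.1 = 0) :
    Nat.card B ^ 2 ≤ p ^ (2 * blockDefect p B) * blockRank p b := by
  classical
  haveI : NeZero (orderOf u) := ⟨(orderOf_pos u).ne'⟩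
  have h1 := cm_spec hM hu hH dvd_rfl hind
  have h2 := Finset.sum_le_sum fun i (hi : i ∈ Finset.univ.filter (· ∈ B)) =>
    h1.sum_pow_le hM (cm_maj hM hu hH dvd_rfl hind hd) hi (h0 i (Finset.mem_filter.1 hi).2)
  rw [← Finset.mul_sum, h1.sum_av hM.1.ne_zero, Finset.sum_const, Finset.sum_congr rfl fun i hi => by
    rw [h0 i (Finset.mem_filter.1 hi).2], Finset.sum_const, ← card_set_eq, hd, ← mul_assoc,
    ← pow_add, ← two_mul] at h2
  simp only [mul_zero, pow_zero, nsmul_eq_mul, mul_one, ← sq] at h2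
  exact_mod_cast h2

end sub

section quo
variable {Q : Type*} [Group Q] [Fintype Q] {φ : G →* Q} (hφ : Function.Surjective φ)
  (hp : p.Prime) (hN : IsPGroup p φ.ker) (hz : φ.ker ≤ center G)
include hφ hp hN hz

theorem cent_of_center (g : G) (_ : ¬ p ∣ orderOf g) : g ∈ centralizer (φ.ker : Set G) :=
  fun _ h => (mem_center_iff.1 (hz h) g).symm

theorem exists_defl {θ : G → ℂ} (hθ : IsGeneralizedCharacter G θ) :
    ∃ η : Q → ℂ, IsGeneralizedCharacter Q η ∧ ∀ g, ¬ p ∣ orderOf g → η (φ g) = θ g := by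
  choose s hs using hφ
  have h1 : ∀ g, pReg p (s (φ g)) = pReg p g := fun g =>
    eq_of_regular hp hN (not_dvd_orderOf_pReg hp _)
      (fun _ h => (mem_center_iff.1 (hz h) _).symm) (not_dvd_orderOf_pReg hp _)
      (by rw [map_pReg hp, map_pReg hp, hs])
  refine ⟨fun y => θ (pReg p (s y)), CA.H11Nilp.genChar_of_nilpotent (fun y x => ?_) fun E _ => ?_,
    fun g hg => by simp only [h1, (pReg_eq_self_iff hp).2 hg]⟩
  · rw [← hs y, ← hs x, ← map_inv, ← map_mul, ← map_mul, h1, h1, pReg_conj hp, gen_classFun hθ]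
  · haveI : Group.IsNilpotent (E.comap φ) := Subgroup.isNilpotent_of_ker_le_center
      (φ.subgroupComap E) (fun x hx => mem_center_iff.2 fun y => Subtype.ext
        (mem_center_iff.1 (hz (congrArg Subtype.val hx)) _))
    have h2 : ∀ x : E, s x ∈ E.comap φ := fun x => by rw [mem_comap, hs]; exact x.2
    exact gen_comp hθ (MonoidHom.mk' (fun x : E => pReg p (s x)) fun x y => by
      have := congrArg Subtype.val (CA.H11Nilp.pReg_mul_of_nilpotent hp (⟨_, h2 x⟩ : E.comap φ) ⟨_, h2 y⟩)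
      rw [coe_mul, coe_pReg hp, coe_pReg hp, coe_pReg hp] at this
      rw [← this, ← h1 (_ * _ : E.comap φ), coe_mul, coe_mul, map_mul, hs, hs])

theorem inner_defl {θ : G → ℂ} {η Ψ : Q → ℂ} (h : ∀ g, ¬ p ∣ orderOf g → η (φ g) = θ g)
    (hΨ : ∀ y, p ∣ orderOf y → Ψ y = 0) :
    Nat.card φ.ker * classInner θ (pRegularPart p fun g => Ψ (φ g)) = classInner η Ψ := by
  classical
  have h1 : ∑ g, θ g * conj (pRegularPart p (fun g => Ψ (φ g)) g) = ∑ y, η y * conj (Ψ y) := by
    refine Finset.sum_bij_ne_zero (fun g _ _ => φ g) (fun _ _ _ => Finset.mem_univ _)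
      (fun a _ ha b _ hb e => ?_) (fun y _ hy => ?_) fun g _ hg => ?_
    · have h3 : ∀ {g}, θ g * conj (pRegularPart p (fun g => Ψ (φ g)) g) ≠ 0 → ¬ p ∣ orderOf g :=
        fun h1 h2 => h1 (by rw [pReg_of_dvd _ h2]; simp)
      exact eq_of_regular hp hN (h3 hb) (cent_of_center hφ hp hN hz _ (h3 hb)) (h3 ha) e
    · obtain ⟨g, hg, rfl⟩ := exists_regular_preimage hφ hp (y := y) fun h2 => hy (by simp [hΨ y h2])
      exact ⟨g, Finset.mem_univ _, by rwa [pReg_of_not_dvd _ hg, ← h g hg], rfl⟩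
    · have h2 : ¬ p ∣ orderOf g := fun h2 => hg (by rw [pReg_of_dvd _ h2]; simp)
      rw [pReg_of_not_dvd _ h2, h g h2]
  have h2 : (Nat.card G : ℂ) = Nat.card φ.ker * Nat.card Q := by
    rw [← Nat.cast_mul, ← Nat.card_congr (QuotientGroup.quotientKerEquivOfSurjective φ hφ).toEquiv,
      mul_comm, ← card_eq_card_quotient_mul_card_subgroup]
  have h3 : (Nat.card φ.ker : ℂ) ≠ 0 := Nat.cast_ne_zero.2 Nat.card_pos.ne'
  rw [ci_def, ci_def, h1, h2, mul_inv, ← mul_assoc, mul_inv_cancel_left₀ h3]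

theorem gen_lift {Ψ : Q → ℂ} (h : IsGeneralizedCharacter Q Ψ) (hΨ : ∀ y, p ∣ orderOf y → Ψ y = 0) :
    IsGeneralizedCharacter G ((Nat.card φ.ker : ℂ) • pRegularPart p fun g => Ψ (φ g)) := by
  refine gen_of_inner_int (classFun_smul _ (classFun_pRegularPart (gen_classFun (gen_comp h φ))))
    fun χ hχ => ?_
  obtain ⟨η, h1, h2⟩ := exists_defl hφ hp hN hz (gen_of_irr hχ)
  obtain ⟨n, hn⟩ := inner_gen_gen h1 h
  refine ⟨n, ?_⟩
  rw [← CChar.CharFun.inner_conj_symm, CChar.CharFun.inner_smul_right, map_natCast,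
    inner_defl hφ hp hN hz h2 hΨ, hn, map_intCast]

omit hp hN hz in
theorem inSpan_comp {Ψ : Q → ℂ} (h : InSpan (infl hφ ⁻¹' B) Ψ) : InSpan B fun g => Ψ (φ g) := by
  classical
  have : (fun g => Ψ (φ g)) = ∑ ψ with ψ ∈ infl hφ ⁻¹' B, classInner Ψ ψ.1 • (infl hφ ψ).1 := by
    funext g; rw [h.apply_eq, Finset.sum_apply]; rfl
  rw [this]
  exact inSpan_sum _ fun ψ hψ => (inSpan_irr (χ := infl hφ ψ) (Finset.mem_filter.1 hψ).2).smul _

end quo

variable [Fact p.Prime] {D : Subgroup G}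

theorem exists_proj (hM : IsPModular p M) (hB : IsPBlock M B) (hD : IsDefectGroup p M B D)
    (hc : IsCyclic D) [Nontrivial D] : ∃ (m : ℕ) (Ψ : Fin (blockRank p B) → G → ℂ),
      (∀ j, IsGeneralizedCharacter G (Ψ j)) ∧ (∀ j, InSpan B (Ψ j)) ∧
      (∀ j g, p ∣ orderOf g → Ψ j g = 0) ∧ blockRank p B + m ≤ Nat.card D ∧
      ∀ i j, classInner (Ψ i) (Ψ j) = m + if i = j then 1 else 0 := by
  classical
  haveI := Fintype.ofFinite D
  obtain ⟨e, h⟩ := exists_mx (p_eq hM) (blk_eB hM hB) ((isDefectGroup_iff_top hM hB).1 hD)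
  obtain ⟨E, F⟩ : ∃ E, Fb p e B E (MulEquiv.refl D) := ⟨_, fb_of_cyclic hM hB h hc _⟩
  obtain ⟨h1, C, δ, μ, ε, T, S⟩ := CA.H11Uni.exists_std F hc
  obtain ⟨σ⟩ : Nonempty (Fin (blockRank p B) ≃ (B \ Set.range μ : Set _)) :=
    Finite.card_eq.1 (by rw [S.card, ← h1, Nat.card_fin])
  have h2 := F.fr.card_eq
  have h3 : 0 < Fintype.card (Ix E) := @Fintype.card_pos _ _ F.fr.nonempty
  refine ⟨Fintype.card (Ix E), fun j => (ε (σ j) : ℂ) • (σ j).1.1 + ∑ i, (δ : ℂ) • (μ i).1, fun j => gen_add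
    (gen_intCast_smul _ (gen_of_irr (σ j).1.2))
    (gen_sum _ fun i _ => gen_intCast_smul _ (gen_of_irr (μ i).2)),
    fun j => ((inSpan_irr (σ j).2.1).smul _).add
    (inSpan_sum _ fun i _ => (inSpan_irr (S.mem i)).smul _), fun j g hg => ?_, ?_, fun i j => ?_⟩
  rotate_left
  · rw [h2, h1]
    have := Nat.card_pos (α := E)
    nlinarith
  · have h4 : ∀ a b, (μ a : IrrCharacter G) ≠ σ b := fun a b e => (σ b).2.2 ⟨a, e⟩
    have h5 : (ε (σ j) : ℂ) * ε (σ j) = 1 := by exact_mod_cast (S.non _ (σ j).2).1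
    have h6 : (δ : ℂ) * δ = 1 := by exact_mod_cast S.sq
    simp only [CChar.CharFun.inner_add_left, CChar.CharFun.inner_add_right, inner_sum_left,
      inner_sum_right,       CChar.CharFun.inner_smul_left, CChar.CharFun.inner_smul_right, map_intCast, inner_irr_irr',
      h4, fun a b => (h4 a b).symm, if_false, S.inj.eq_iff, Subtype.val_inj, σ.injective.eq_iff]
    split_ifs with e <;> simp [e, h5, h6, add_comm]
  · haveI := Fintype.ofFinite B
    obtain ⟨W, -, hW⟩ := T.val hg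
    simp only [Pi.add_apply, Finset.sum_apply, Pi.smul_apply, smul_eq_mul, hW _ (σ j).2.1,
      hW _ (S.mem _), Finset.mul_sum]
    rw [Finset.sum_comm, ← Finset.sum_add_distrib]
    refine Finset.sum_eq_zero fun a _ => ?_
    have h5 : (ε (σ j) : ℂ) * ε (σ j) = 1 := by exact_mod_cast (S.non _ (σ j).2).1
    have h6 : (δ : ℂ) * δ = 1 := by exact_mod_cast S.sq
    simp only [(S.non _ (σ j).2).2 _ a.2, S.exc _ _ a.2, ← mul_assoc, h5, h6, one_mul,
      ← Finset.sum_mul, F.fr.sum_eta a.2]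
    simp

universe w in
/-- The major subsection at a central element of the defect group and its quotient. -/
theorem exists_quot {G : Type w} [Group G] [Fintype G] {B : Set (IrrCharacter G)} {D : Subgroup G}
    (hM : IsPModular p M) (hB : IsPBlock M B) (hD : IsDefectGroup p M B D) {u : G} (hu : u ∈ D)
    (hu' : u ∈ CC D) : ∃ (H : Subgroup G) (b : Set (IrrCharacter H)) (Q : Type w) (_ : Group Q)
      (_ : Fintype Q) (φ : H →* Q) (hφ : Function.Surjective φ), H = centralizer {u} ∧ D ≤ H ∧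
      IsInducedBlock M H b B ∧ blockDefect p b = blockDefect p B ∧ IsPGroup p φ.ker ∧
      φ.ker ≤ center H ∧ Nat.card φ.ker = orderOf u ∧ (∀ x : H, φ x = 1 ↔ (x : G) ∈ zpowers u) ∧
      IsPBlock M (infl hφ ⁻¹' b) ∧ IsDefectGroup p M (infl hφ ⁻¹' b) ((D.subgroupOf H).map φ) ∧
      blockRank p (infl hφ ⁻¹' b) = blockRank p b ∧
      Nat.card ((D.subgroupOf H).map φ) * orderOf u = Nat.card D := by
  obtain ⟨e, h⟩ := exists_mx (p_eq hM) (blk_eB hM hB) ((isDefectGroup_iff_top hM hB).1 hD)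
  obtain ⟨b, h1, h2, h3⟩ := CA.BlkSubs.exists_major hM hB h hu hu'
  have hC : ⊤ ⊓ CC (zpowers u) = centralizer ({u} : Set G) := by rw [top_inf_eq, CC_zpowers]
  have hD' : D ≤ centralizer ({u} : Set G) := mem_CC_iff_le.mp hu'
  have h4 := (h.local (p_eq hM) h1 (le_inf le_top (h1.le.trans (hD'.trans (CC_zpowers u).ge))) le_rfl
    (h1.pr h.pr).C_le_St (le_inf le_top (hD'.trans (CC_zpowers u).ge))).isDef
  rw [hC, ← isDefectGroup_iff_subgroupOf hM h2.1 hD'] at h4
  haveI := Fintype.ofFinite (centralizer ({u} : Set G))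
  let z : centralizer ({u} : Set G) := ⟨u, hD' hu⟩
  haveI := Fintype.ofFinite (centralizer ({u} : Set G) ⧸ zpowers z)
  have hz : zpowers z ≤ center _ := zpowers_le.2 (CA.BlkBas.mem_center_of_le le_rfl _)
  haveI : (zpowers z).Normal := ⟨fun x hx g => by
    rwa [mem_center_iff.1 (hz hx) g, mul_inv_cancel_right]⟩
  have hφ := QuotientGroup.mk'_surjective (zpowers z)
  have hk := QuotientGroup.ker_mk' (zpowers z)
  have hle : zpowers z ≤ D.subgroupOf _ := zpowers_le.2 hu
  have hp : IsPGroup p (QuotientGroup.mk' (zpowers z)).ker :=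
    hk.symm ▸ (h.pr.pg.comap_subtype).to_le hle
  have hc := cent_of_center hφ hM.1 hp (hk.trans_le hz)
  have ho : Nat.card (zpowers z) = orderOf u := by rw [Nat.card_zpowers, ← orderOf_coe]
  refine ⟨_, b, _, inferInstance, inferInstance, _, hφ, rfl, hD', h2, h3, hp, hk.trans_le hz,
    by rw [hk, ho], fun x => ?_, isPBlock_preimage_of_regular hφ hM hp hc h2.1,
    CA.BlkDom.isDefectGroup_preimage hφ hM hp hc h2.1 h4,
    (CA.BlkRk.blockRank_preimage hφ hM hp hc (isSat_of_isPBlock hM h2.1)).symm, ?_⟩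
  · rw [← MonoidHom.mem_ker, hk]
    exact ⟨fun ⟨n, e⟩ => ⟨n, congrArg Subtype.val e⟩, fun ⟨n, e⟩ => ⟨n, Subtype.ext e⟩⟩
  · rw [← relIndex_ker, hk, ← ho, ← Nat.card_congr (subgroupOfEquivOfLe hD').toEquiv,
      ← Nat.card_congr (subgroupOfEquivOfLe hle).toEquiv, relIndex, index_mul_card]

theorem card_le_of_two (hM : IsPModular p M) (hB : IsPBlock M B) (hD : IsDefectGroup p M B D)
    {u v : G} (hu : u ∈ D) (hu' : u ∈ CC D) (hv : v ∈ D)
    (h : ∀ x ∈ D, ∃ j : ℤ, x * (v ^ j)⁻¹ ∈ zpowers u) : Nat.card B ≤ Nat.card D := by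
  obtain ⟨H, b, Q, _, _, φ, hφ, hH, hDH, h1, h2, h3, h4, h5, h6, h7, h8, h9, h10⟩ :=
    exists_quot hM hB hD hu hu'
  haveI := Fintype.ofFinite H
  have hu2 := pel_of_mem hM.1 (CA.BlkDefect.isPGroup_of_isDefectGroup hD) hu
  rcases subsingleton_or_nontrivial ((D.subgroupOf H).map φ) with _ | _
  · have h11 := card_defectGroup hM h7 h8
    rw [Nat.card_unique, eq_comm, Nat.pow_eq_one, or_iff_right hM.1.one_lt.ne'] at h11
    have := card_le_mul_rank hM hu2 hH h1 h2
    rw [← h9, ← card_defectGroup hM hB hD] at this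
    exact this.trans (mul_le_of_le_one_right' ((blockRank_le_card _).trans
      (card_eq_one_of_defect_zero hM h7 h11).le))
  · have hc : IsCyclic ((D.subgroupOf H).map φ) := by
      suffices zpowers (φ ⟨v, hDH hv⟩) = (D.subgroupOf H).map φ from this ▸ inferInstance
      refine le_antisymm (zpowers_le.2 ⟨_, hv, rfl⟩) ?_
      rintro _ ⟨x, hx, rfl⟩
      obtain ⟨j, hj⟩ := h x hx
      refine ⟨j, ?_⟩
      have := (h6 (x * (⟨v, hDH hv⟩ ^ j)⁻¹)).2 hj
      rw [map_mul, map_inv, mul_inv_eq_one, map_zpow] at this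
      exact this.symm
    obtain ⟨m, Ψ, g1, g2, g3, g4, g5⟩ := exists_proj hM h7 h8 hc
    refine (card_le_of_proj hM hu2 hH h1 h2 (fun j => gen_lift hφ hM.1 h3 h4 (g1 j) (g3 j))
      (fun j => (inSpan_pReg hM (isSat_of_isPBlock hM h1.1) (inSpan_comp hφ (g2 j))).smul _)
      (fun j g hg => mul_eq_zero_of_right _ (pReg_of_dvd _ hg)) (by rw [Fintype.card_fin, h9])
      (q := Nat.card φ.ker) (m := m) Nat.card_pos.ne' fun i j => ?_).trans ?_
    · rw [CChar.CharFun.inner_smul_left, CChar.CharFun.inner_smul_right, map_natCast,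
        inner_defl hφ hM.1 h3 h4 (fun g hg => (pReg_of_not_dvd (fun g => Ψ i (φ g)) hg).symm) (g3 j),
        g5]
    · rw [← h10, h5, mul_comm, Fintype.card_fin]
      exact Nat.mul_le_mul_right _ g4

theorem card_le_of_rank (hM : IsPModular p M) (hB : IsPBlock M B) (hD : IsDefectGroup p M B D)
    (hab : IsMulCommutative D) (h : Group.rank D ≤ 2) : Nat.card B ≤ Nat.card D := by
  classical
  obtain ⟨S, h1, h2⟩ := Group.rank_spec D
  obtain ⟨u, v, h3⟩ : ∃ u v, (S : Set D) ⊆ {u, v} := by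
    rcases (h1.trans_le h).eq_or_lt with e | e
    · obtain ⟨u, v, -, rfl⟩ := Finset.card_eq_two.1 e
      exact ⟨u, v, by simp⟩
    · obtain ⟨u, e⟩ := Finset.card_le_one_iff_subset_singleton.1 (Nat.le_of_lt_succ e)
      exact ⟨u, u, fun x hx => Or.inl (Finset.mem_singleton.1 (e hx))⟩
  refine card_le_of_two hM hB hD u.2 (fun x hx => congrArg Subtype.val (mul_comm' ⟨x, hx⟩ u)) v.2
    fun x hx => ?_
  letI : CommGroup D := { (inferInstance : Group D) with mul_comm := mul_comm' }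
  obtain ⟨i, j, e⟩ := mem_closure_pair.1 (closure_mono h3 (h2.ge (mem_top (⟨x, hx⟩ : D))))
  exact ⟨j, i, eq_mul_inv_of_mul_eq (congrArg Subtype.val e)⟩

theorem cube_le (hM : IsPModular p M) (hB : IsPBlock M B) (hD : IsDefectGroup p M B D)
    (hab : IsMulCommutative D) (h : Group.rank D = 3) : Nat.card B ^ 3 ≤ Nat.card D ^ 5 := by
  classical
  obtain ⟨S, h1, h2⟩ := Group.rank_spec D
  obtain ⟨u, hu, h3⟩ := S.exists_max_image orderOf (Finset.card_pos.1 (by omega))
  have hP := CA.BlkDefect.isPGroup_of_isDefectGroup hD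
  obtain ⟨H, b, Q, _, _, φ, hφ, hH, hDH, g1, g2, -, -, -, g6, g7, g8, g9, g10⟩ :=
    exists_quot hM hB hD u.2 fun x hx => congrArg Subtype.val (mul_comm' ⟨x, hx⟩ u)
  haveI := Fintype.ofFinite H
  let f : D →* (D.subgroupOf H).map φ :=
    (φ.subgroupMap _).comp (subgroupOfEquivOfLe hDH).symm.toMonoidHom
  have hf : Function.Surjective f :=
    (φ.subgroupMap_surjective _).comp (subgroupOfEquivOfLe hDH).symm.surjective
  have h4 : Group.rank ((D.subgroupOf H).map φ) ≤ 2 := by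
    refine (Group.rank_le (S := (S.erase u).image f) ?_).trans
      (Finset.card_image_le.trans (by rw [Finset.card_erase_of_mem hu]; omega))
    rw [eq_top_iff, ← map_top_of_surjective f hf, ← h2, MonoidHom.map_closure, closure_le]
    rintro _ ⟨x, hx, rfl⟩
    by_cases e : x = u
    · rw [e, show f u = 1 from Subtype.ext ((g6 _).2 (mem_zpowers _))]; exact one_mem _
    · exact subset_closure (Finset.mem_image_of_mem f (Finset.mem_erase.2 ⟨e, hx⟩))
  have h5 := card_le_of_rank hM g7 g8 ⟨⟨fun x y => by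
    obtain ⟨x, rfl⟩ := hf x; obtain ⟨y, rfl⟩ := hf y; rw [← map_mul, mul_comm', map_mul]⟩⟩ h4
  have h6 := card_le_mul_rank hM (pel_of_mem hM.1 hP u.2) hH g1 g2
  rw [← g9, ← card_defectGroup hM hB hD] at h6
  have h7 : Nat.card D ≤ orderOf (u : G) ^ 3 := by
    letI : CommGroup D := { (inferInstance : Group D) with mul_comm := mul_comm' }
    refine Nat.le_of_dvd (pow_pos (orderOf_pos _) _) ((card_dvd_exponent_pow_rank D).trans ?_)
    rw [h, orderOf_coe]
    refine pow_dvd_pow_of_dvd (Monoid.exponent_dvd_of_forall_pow_eq_one fun x => ?_) 3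
    have : closure (S : Set D) ≤ (powMonoidHom (orderOf u) : D →* D).ker := (closure_le _).2 fun y hy => by
      obtain ⟨i, hi⟩ := IsPGroup.iff_orderOf.1 hP y
      obtain ⟨j, hj⟩ := IsPGroup.iff_orderOf.1 hP u
      have := h3 y hy
      rw [hi, hj, Nat.pow_le_pow_iff_right hM.1.one_lt] at this
      exact orderOf_dvd_iff_pow_eq_one.1 (hi ▸ hj ▸ pow_dvd_pow p this)
    exact this (h2.ge (mem_top x))
  have h8 := h6.trans (Nat.mul_le_mul_left _ ((blockRank_le_card _).trans h5))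
  refine Nat.le_of_mul_le_mul_right ?_ (Nat.card_pos (α := D))
  calc _ ≤ (Nat.card D * Nat.card ((D.subgroupOf H).map φ)) ^ 3 * orderOf (u : G) ^ 3 := by gcongr
    _ = _ := by rw [← mul_pow, mul_assoc, g10]; ring

theorem card_le_of_defect_le (hM : IsPModular p M) (hB : IsPBlock M B) (h : blockDefect p B ≤ 2) :
    Nat.card B ≤ p ^ blockDefect p B := by
  obtain ⟨D, hD⟩ := CA.H12Second.exists_isDefectGroup hM hB
  have h1 := card_defectGroup hM hB hD
  obtain ⟨u, h2, h3⟩ : ∃ u : D, u ∈ center D ∧ (zpowers u).index ∣ p := by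
    rcases h.eq_or_lt with e | e
    · rw [e] at h1
      haveI := IsPGroup.isMulCommutative_of_card_eq_prime_sq h1
      obtain ⟨u, hu⟩ := exists_prime_orderOf_dvd_card' (G := D) p (h1 ▸ dvd_pow_self p two_ne_zero)
      have := (zpowers u).index_mul_card
      rw [Nat.card_zpowers, hu, h1, sq, mul_left_inj' hM.1.ne_zero] at this
      exact ⟨u, mem_center_iff.2 fun x => mul_comm' x u, this.dvd⟩
    · exact ⟨1, one_mem _, (Subgroup.index_dvd_card _).trans (h1 ▸ (pow_dvd_pow p (Nat.le_of_lt_succ e)).trans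
        (pow_one p).dvd)⟩
  haveI : (zpowers u).Normal := ⟨fun x hx g => by
    rwa [mem_center_iff.1 (zpowers_le.2 h2 hx) g, mul_inv_cancel_right]⟩
  obtain ⟨v, hv⟩ := (isCyclic_of_card_dvd_prime (α := D ⧸ zpowers u) h3).exists_generator
  obtain ⟨v, rfl⟩ := QuotientGroup.mk_surjective v
  refine h1 ▸ card_le_of_two hM hB hD u.2
    (fun x hx => congrArg Subtype.val (mem_center_iff.1 h2 ⟨x, hx⟩)) v.2 fun x hx => ?_
  obtain ⟨j, e⟩ := hv (⟨x, hx⟩ : D)
  obtain ⟨i, e'⟩ := (QuotientGroup.eq_iff_div_mem (x := ⟨x, hx⟩) (y := v ^ j)).1 e.symm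
  exact ⟨j, i, by simpa [div_eq_mul_inv] using congrArg Subtype.val e'⟩

universe w in
theorem card_le_of_defect (hM : IsPModular p M) (d : ℕ) : ∀ {G : Type w} [Group G] [Fintype G]
    {B : Set (IrrCharacter G)}, IsPBlock M B → blockDefect p B = d + 2 →
      Nat.card B ≤ p ^ (2 * d + 2) := by
  induction d with
  | zero => exact fun hB h => h ▸ card_le_of_defect_le hM hB h.le
  | succ d ih =>
    intro G _ _ B hB h
    by_cases h0 : ∀ χ ∈ B, blockHeight p B χ.1 = 0
    · obtain ⟨D, hD⟩ := CA.H12Second.exists_isDefectGroup hM hB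
      have h1 := card_defectGroup hM hB hD
      have hP := CA.BlkDefect.isPGroup_of_isDefectGroup hD
      haveI : Nontrivial D := Finite.one_lt_card_iff_nontrivial.1
        (h1 ▸ Nat.one_lt_pow (by omega) hM.1.one_lt)
      haveI := hP.center_nontrivial
      obtain ⟨n, hn, h2⟩ := (hP.to_subgroup (center D)).nontrivial_iff_card.1 inferInstance
      obtain ⟨u, hu⟩ := exists_prime_orderOf_dvd_card' (G := center D) p (h2 ▸ dvd_pow_self p hn.ne')
      obtain ⟨H, b, Q, _, _, φ, hφ, hH, hDH, g1, g2, -, -, -, -, g7, g8, g9, g10⟩ :=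
        exists_quot hM hB hD u.1.2 fun x hx => congrArg Subtype.val (mem_center_iff.1 u.2 ⟨x, hx⟩)
      haveI := Fintype.ofFinite H
      rw [orderOf_coe, orderOf_coe, hu, card_defectGroup hM g7 g8, h1, h, ← pow_succ,
        Nat.pow_right_inj hM.1.one_lt] at g10
      have h3 := sq_card_le hM (pel_of_mem hM.1 hP u.1.2) hH g1 g2 h0
      rw [← g9, h] at h3
      refine (Nat.pow_le_pow_iff_left two_ne_zero).1 ((h3.trans (Nat.mul_le_mul_left _
        ((blockRank_le_card _).trans (ih g7 (by omega))))).trans_eq (by ring))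
    · push Not at h0
      obtain ⟨χ, hχ, h0⟩ := h0
      have := two_mul_card_le hM hB hχ (Nat.pos_of_ne_zero h0)
      rw [h, show 2 * (d + 1 + 2) - 2 = 2 * (d + 1) + 2 by omega] at this
      omega

end CA.H11Bf
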