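import Cfsg.Agent.Lib.Block.H11Orb

/-!
# Gluing of signs for generalized characters of abelian `p`-groups
-/

set_option autoImplicit false
set_option linter.unusedSectionVars false

namespace CA.H11Glue

open Cfsg CA.H11PS CA.BlkVal CA.H11Cyclo CA.H11Orb CChar.CharFun CChar.CharOrth CChar.CharGen
  CChar.CharInt Subgroup
open scoped ComplexConjugate

variable {p : ℕ} {M : Ideal AlgInt} {A : Type*} [Group A] [Fintype A] {f y D : A → ℂ}

theorem exists_inv_int (hy : IsGeneralizedCharacter A y) {n : A → ℤ} (h : ∀ a, y a = n a) :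
    ∃ z, IsGeneralizedCharacter A z ∧ ∀ a, y a * z a = (∏ b, n b : ℤ) := by
  classical
  have key : ∀ s : Finset A, ∃ z, IsGeneralizedCharacter A z ∧
      ∀ a, ∏ b ∈ s, ((n b : ℂ) - y a) = (∏ b ∈ s, n b : ℤ) - y a * z a := fun s => by
    induction s using Finset.induction_on with
    | empty => exact ⟨0, gen_zero, by simp⟩
    | insert c s hc ih =>
      obtain ⟨z, h1, h2⟩ := ih
      refine ⟨_, gen_sub (gen_add (gen_intCast_smul (n c) h1)
        (gen_intCast_smul (∏ b ∈ s, n b) gen_one')) (gen_mul hy h1), fun a => ?_⟩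
      rw [Finset.prod_insert hc, Finset.prod_insert hc, h2]
      simp only [Pi.sub_apply, Pi.add_apply, Pi.smul_apply, Pi.mul_apply, Pi.one_apply, smul_eq_mul]
      push_cast; ring
  obtain ⟨z, h1, h2⟩ := key Finset.univ
  refine ⟨z, h1, fun a => ?_⟩
  have := h2 a
  rw [Finset.prod_eq_zero (Finset.mem_univ a) (by rw [h, sub_self])] at this
  exact (sub_eq_zero.1 this.symm).symm

theorem res_gen (hM : IsPModular p M) (hP : IsPGroup p A) (h : IsGeneralizedCharacter A D) (a : A) :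
    res M (D a) = res M (D 1) := by
  haveI := Fact.mk hM.1
  obtain ⟨n, hn⟩ := IsPGroup.iff_orderOf.1 hP a
  have := res_eq hM (hn ▸ CA.H11Eta.gen_mem_cyc h a) 1
  rwa [pow_one, pow_zero] at this

theorem coprime_card (hp : p.Prime) (hP : IsPGroup p A) {N : ℤ} (h : ¬ (p : ℤ) ∣ N) :
    IsCoprime N (Nat.card A) := by
  haveI := Fact.mk hp
  obtain ⟨k, hk⟩ := IsPGroup.iff_card.1 hP
  rw [hk, Nat.cast_pow]
  exact ((Nat.prime_iff_prime_int.1 hp).irreducible.coprime_iff_not_dvd.2 h).symm.pow_right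

variable (hA : ∀ a b : A, a * b = b * a)
include hA

theorem exists_inv (hM : IsPModular p M) (hD : IsGeneralizedCharacter A D)
    (h : ∀ a, v M (D a) = 1) : ∃ (N : ℤ) (z : A → ℂ), ¬ (p : ℤ) ∣ N ∧ IsGeneralizedCharacter A z ∧
      ∀ a, D a * z a = N := by
  classical
  haveI : NeZero (Nat.card A) := ⟨Nat.card_pos.ne'⟩
  have h1 : ∀ k : ℕ, IsGeneralizedCharacter A fun a => D (a ^ k) := fun k =>
    gen_comp hD (MonoidHom.mk' (· ^ k) fun a b => Commute.mul_pow (hA a b) k)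
  have h2 := fun s => gen_prod s fun (w : (ZMod (Nat.card A))ˣ) _ => h1 (ex w)
  choose n hn using fun a => exists_int_prod
    (mono (orderOf_dvd_natCard a) (CA.H11Eta.gen_mem_cyc hD a))
  obtain ⟨z, h3, h4⟩ := exists_inv_int (h2 Finset.univ) (n := n) fun a => by
    rw [Finset.prod_apply, hn]
  refine ⟨_, _, ?_, gen_mul (h2 (Finset.univ.erase 1)) h3, fun a => (?_ : _ = _).trans (h4 a)⟩
  · rw [← v_intCast_eq_one_iff hM, Int.cast_prod, map_prod]
    exact Finset.prod_eq_one fun a _ => by rw [← hn, map_prod]; exact Finset.prod_eq_one fun _ _ => h _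
  · rw [← Finset.mul_prod_erase _ _ (Finset.mem_univ 1), Pi.mul_apply, Pi.mul_apply, mul_assoc,
      apply_ex_one (mono (orderOf_dvd_natCard a) (CA.H11Eta.gen_mem_cyc hD a)), pow_one]

theorem int_off {N : ℤ} (hN : IsCoprime N (Nat.card A)) (h3 : N ≠ 0)
    (hf : IsGeneralizedCharacter A ((N : ℂ) • f))
    (h : ∀ a ≠ 1, IsIntegral ℤ (f a)) : ∃ D, IsGeneralizedCharacter A D ∧ (∀ a ≠ 1, D a = f a) ∧
      ∃ c : ℤ, N * f 1 = N * D 1 + c * Nat.card A := by
  have h0 : ∀ ψ : A →* ℂˣ, ∃ n : ℤ, N * classInner f (hc ψ) = n := fun ψ => by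
    rw [← CChar.CharFun.inner_smul_left]; exact inner_gen_gen hf (hc_gen ψ)
  have h1 : ∀ ψ : A →* ℂˣ, ∃ n : ℤ, classInner f (hc ψ) - classInner f (hc 1) = n := fun ψ => by
    obtain ⟨a, ha⟩ := h0 ψ
    obtain ⟨b, hb⟩ := h0 1
    obtain ⟨u, w, e⟩ := hN
    have h2 : IsIntegral ℤ (Nat.card A * (classInner f (hc ψ) - classInner f (hc 1))) := by
      rw [mul_sub, card_mul_inner, card_mul_inner, ← Finset.sum_sub_distrib]
      refine IsIntegral.sum _ fun x _ => ?_
      by_cases e : x = 1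
      · simp [e, hc_apply_one, isIntegral_zero]
      · exact ((h x e).mul (gen_isIntegral (gen_conj (hc_gen ψ)) x)).sub
          ((h x e).mul (gen_isIntegral (gen_conj (hc_gen 1)) x))
    have h3 : (N : ℂ) ≠ 0 := Int.cast_ne_zero.2 h3
    have h4 : classInner f (hc ψ) - classInner f (hc 1) = (((a - b : ℤ) / N : ℚ) : ℂ) := by
      push_cast; field_simp; linear_combination ha - hb
    rw [h4]
    refine exists_int_of_rat_isIntegral ?_
    rw [← h4]
    have : (u * N + w * Nat.card A : ℂ) = 1 := by exact_mod_cast e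
    have h5 : classInner f (hc ψ) - classInner f (hc 1) = (u * (a - b) : ℤ) +
        w * (Nat.card A * (classInner f (hc ψ) - classInner f (hc 1))) := by
      push_cast
      linear_combination u * (ha - hb) - (classInner f (hc ψ) - classInner f (hc 1)) * this
    rw [h5]
    exact (isIntegral_algebraMap (x := u * (a - b))).add ((isIntegral_algebraMap (x := w)).mul h2)
  choose n hn using h1
  obtain ⟨c, hc'⟩ := h0 1
  refine ⟨∑ ψ, (n ψ : ℂ) • hc ψ, gen_sum _ fun ψ _ => gen_intCast_smul _ (hc_gen ψ), fun a ha => ?_,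
    c, ?_⟩
  · simp only [eq_neg_sum hA f ha (classInner f (hc 1)), hn, Finset.sum_apply, Pi.smul_apply,
      smul_eq_mul]
  · simp only [eq_sum_hc hA f 1, ← hn, ← hc', Finset.sum_apply, Pi.smul_apply, smul_eq_mul,
      hc_apply_one, mul_one, Finset.sum_sub_distrib, Finset.sum_const, Finset.card_univ, nsmul_eq_mul,
      ← Nat.card_eq_fintype_card, card_hom hA]
    ring

theorem exists_sign [Nontrivial A] (hD : IsGeneralizedCharacter A D) (h : ∀ a ≠ 1, ‖D a‖ = 1) :
    ∃ s c : ℤ, s * s = 1 ∧ D 1 = s + c * (Nat.card A : ℤ) := by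
  classical
  choose n hn using fun ψ : A →* ℂˣ => inner_gen_gen hD (hc_gen ψ)
  have h1 : D 1 = (∑ ψ, n ψ : ℤ) := by simp [eq_sum_hc hA D 1, hn, hc_apply_one]
  have h2 : (Nat.card A : ℤ) * ∑ ψ, n ψ ^ 2 = (∑ ψ, n ψ) ^ 2 + Nat.card A - 1 := by
    have h3 : classInner D D = (∑ ψ, n ψ ^ 2 : ℤ) := by
      conv_lhs => enter [1]; rw [funext (eq_sum_hc hA D)]
      rw [← Finset.sum_fn, CChar.CharFun.inner_sum_left, Int.cast_sum]
      refine Finset.sum_congr rfl fun ψ _ => ?_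
      rw [show (fun a => classInner D (hc ψ) * hc ψ a) = classInner D (hc ψ) • hc ψ from rfl,
        CChar.CharFun.inner_smul_left, ← CChar.CharFun.inner_conj_symm D, hn]
      simp [sq]
    have h4 := card_mul_inner D D
    rw [h3, ← Finset.add_sum_erase _ _ (Finset.mem_univ (1 : A)), Finset.sum_congr
      (s₁ := Finset.univ.erase 1) rfl (g := fun _ => 1) fun a ha => by rw [Complex.mul_conj, Complex.normSq_eq_norm_sq, h a (Finset.mem_erase.1 ha).1]; simp,
      h1, map_intCast, Finset.sum_const, Finset.card_erase_of_mem (Finset.mem_univ _),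
      Finset.card_univ, ← Nat.card_eq_fintype_card, nsmul_eq_mul,
      Nat.cast_sub Nat.card_pos] at h4
    have h5 : (Nat.card A : ℤ) * ∑ ψ, n ψ ^ 2 = (∑ ψ, n ψ) * (∑ ψ, n ψ) + (Nat.card A - 1) * 1 := by
      exact_mod_cast h4
    linarith
  have hq : (1 : ℤ) < Nat.card A := by exact_mod_cast Finite.one_lt_card
  generalize ht : ∑ ψ, n ψ = t at h1 h2
  have h3 : ∀ r : ℤ, t - r * Nat.card A ≤ ∑ ψ, n ψ ^ 2 - 2 * r * t + r ^ 2 * Nat.card A := fun r => by
    have := Finset.sum_le_sum fun ψ (_ : ψ ∈ Finset.univ) => Int.le_self_sq (n ψ - r)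
    simp only [sub_sq, Finset.sum_add_distrib, Finset.sum_sub_distrib, Finset.sum_const,
      Finset.card_univ, nsmul_eq_mul, ← Nat.card_eq_fintype_card, card_hom hA, ← Finset.sum_mul,
      ← Finset.mul_sum, ht] at this
    linarith
  generalize (Nat.card A : ℤ) = q at *
  generalize ∑ ψ, n ψ ^ 2 = Q at *
  have h4 := h3 (t / q)
  have h5 := Int.emod_nonneg t (by omega : q ≠ 0)
  have h6 := Int.emod_lt_of_pos t (by omega : 0 < q)
  have h7 := Int.emod_add_mul_ediv t q
  generalize t / q = r at *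
  generalize t % q = u at *
  have h8 : q * (Q - 2 * r * t + r ^ 2 * q) = u ^ 2 + q - 1 := by rw [← h7] at h2 ⊢; linarith
  generalize Q - 2 * r * t + r ^ 2 * q = w at *
  have h9 : u ≠ 0 := by
    rintro rfl
    have := Int.le_of_dvd (by omega) (Dvd.intro _ h8)
    omega
  by_cases h10 : u = 1
  · exact ⟨1, r, rfl, by rw [h1, ← h7, h10]; push_cast; ring⟩
  · have h11 : u = q - 1 := by
      by_contra h12
      have : q * u ≤ q * w := mul_le_mul_of_nonneg_left (by linarith) (by omega)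
      nlinarith [mul_pos (show 0 < u - 1 by omega) (show 0 < q - 1 - u by omega)]
    exact ⟨-1, r + 1, rfl, by rw [h1, ← h7, h11]; push_cast; ring⟩

/-- The congruence needed to extend the choice of signs to one more subgroup. -/
theorem exists_step {S : Subgroup A} (hS : S ≠ ⊤) (hp : p.Prime) (hP : IsPGroup p A) {g : A → ℂ}
    (hg : IsGeneralizedCharacter A g) (hy : IsGeneralizedCharacter A y) {n : A → ℤ}
    (h1 : ∀ a, y a = n a) (h2 : ∀ a, ¬ (p : ℤ) ∣ n a) (h3 : ∀ a, ∀ s ∈ S, g (a * s) = g a)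
    (h4 : ∀ a, ∀ s ∈ S, y (a * s) = y a) {m : ℤ} (h5 : g 1 = m)
    (h6 : ∀ a ∉ S, ∃ w, IsIntegral ℤ w ∧ ‖w‖ = 1 ∧ g a = w * y a) :
    ∃ s c : ℤ, s * s = 1 ∧ n 1 + c * S.index = s * m := by
  haveI := Fact.mk hp
  haveI : S.Normal := ⟨fun x hx a => by rwa [hA a, mul_inv_cancel_right]⟩
  haveI := Fintype.ofFinite (A ⧸ S)
  haveI : Nontrivial (A ⧸ S) := QuotientGroup.nontrivial_iff.2 hS
  have hB : ∀ a b : A ⧸ S, a * b = b * a := fun a b => by
    obtain ⟨a, rfl⟩ := QuotientGroup.mk_surjective a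
    obtain ⟨b, rfl⟩ := QuotientGroup.mk_surjective b
    rw [← QuotientGroup.mk_mul, hA, QuotientGroup.mk_mul]
  obtain ⟨z, h7, h8⟩ := exists_inv_int hy h1
  have hy0 : ∀ a, y a ≠ 0 := fun a e => h2 a (by rw [h1, Int.cast_eq_zero] at e; simp [e])
  have hN : ¬ (p : ℤ) ∣ ∏ b, n b := fun h =>
    ((Nat.prime_iff_prime_int.1 hp).dvd_finset_prod_iff _).1 h |>.elim fun a ha => h2 a ha.2
  have hc := coprime_card hp (hP.to_quotient S) hN
  have h9 : ∀ a : A, g (a : A ⧸ S).out / y (a : A ⧸ S).out = g a / y a := fun a => by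
    obtain ⟨s, e⟩ := QuotientGroup.mk_out_eq_mul S a
    rw [e, h3 a s s.2, h4 a s s.2]
  obtain ⟨D, g1, g2, c, g3⟩ := int_off hB (f := fun b => g b.out / y b.out) hc (fun e => hN (by simp [e]))
    (gen_of_inner_int (classFun_of_comm hB _) fun χ hχ => by
      rw [← inner_comp_of_surjective _ (QuotientGroup.mk'_surjective S)]
      refine inner_gen_gen ?_ (gen_comp (gen_of_irr hχ) _)
      convert gen_mul hg h7 using 2 with a
      rw [Pi.smul_apply, QuotientGroup.mk'_apply, h9, ← h8 a, smul_eq_mul, Pi.mul_apply]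
      field_simp [hy0 a]) fun b hb => by
    obtain ⟨w, e1, -, e2⟩ := h6 b.out fun h => hb (by rwa [← QuotientGroup.eq_one_iff, QuotientGroup.out_eq'] at h)
    rwa [e2, mul_div_cancel_right₀ _ (hy0 _)]
  obtain ⟨s, d, g4, g5⟩ := exists_sign hB g1 fun b hb => by
    obtain ⟨w, -, e1, e2⟩ := h6 b.out fun h => hb (by rwa [← QuotientGroup.eq_one_iff, QuotientGroup.out_eq'] at h)
    rwa [g2 b hb, e2, mul_div_cancel_right₀ _ (hy0 _)]
  rw [← QuotientGroup.mk_one, h9, QuotientGroup.mk_one, g5, h5, h1] at g3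
  have g6 : (∏ b, n b) * (s * m - n 1) = Nat.card (A ⧸ S) * (s * n 1 * (c + (∏ b, n b) * d)) := by
    apply Int.cast_injective (α := ℂ)
    have e1 : (s : ℂ) * s = 1 := by exact_mod_cast g4
    have e2 : (n 1 : ℂ) ≠ 0 := h1 1 ▸ hy0 1
    field_simp at g3
    push_cast at g3 ⊢
    linear_combination s * g3 + (∏ b, (n b : ℂ)) * n 1 * e1
  obtain ⟨c', e⟩ := hc.symm.dvd_of_dvd_mul_left (Dvd.intro _ g6.symm)
  exact ⟨s, c', g4, by rw [index_eq_card]; linarith⟩

omit hA
open Classical in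
/-- Values of virtual permutation characters. -/
noncomputable def pm (c : Subgroup A → ℤ) (U : Subgroup A → Prop) (a : A) : ℤ :=
  ∑ᶠ T, if U T ∧ a ∈ T then c T * T.index else 0

theorem pm_congr {c c' : Subgroup A → ℤ} {U U' : Subgroup A → Prop} {a a' : A}
    (h : ∀ T, U T ∧ a ∈ T ↔ U' T ∧ a' ∈ T) (h' : ∀ T, U T → a ∈ T → c T = c' T) :
    pm c U a = pm c' U' a' := finsum_congr fun T => by
  by_cases e : U T ∧ a ∈ T
  · rw [if_pos e, if_pos ((h T).1 e), h' T e.1 e.2]
  · rw [if_neg e, if_neg ((h T).not.1 e)]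

theorem dvd_pm_sub (hp : p.Prime) (hP : IsPGroup p A) (c : Subgroup A → ℤ) {U : Subgroup A → Prop}
    (h : U ⊤) (a : A) : (p : ℤ) ∣ pm c U a - c ⊤ := by
  classical
  haveI := Fact.mk hp
  haveI := Fintype.ofFinite (Subgroup A)
  rw [pm, finsum_eq_sum_of_fintype, ← Finset.add_sum_erase _ _ (Finset.mem_univ ⊤),
    if_pos ⟨h, mem_top a⟩, index_top, Nat.cast_one, mul_one, add_sub_cancel_left]
  refine Finset.dvd_sum fun T hT => ?_
  split_ifs
  · obtain ⟨k, hk⟩ := hP.index T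
    refine Dvd.dvd.mul_left (Int.natCast_dvd_natCast.2 (hk ▸ dvd_pow_self p ?_)) _
    rintro rfl
    exact (Finset.mem_erase.1 hT).1 (index_eq_one.1 hk)
  · exact dvd_zero _

theorem pm_le (c : Subgroup A → ℤ) (S : Subgroup A) :
    pm c (S ≤ ·) 1 = pm c (S < ·) 1 + c S * S.index := by
  classical
  haveI := Fintype.ofFinite (Subgroup A)
  rw [pm, pm, finsum_eq_sum_of_fintype, finsum_eq_sum_of_fintype,
    ← Finset.add_sum_erase _ _ (Finset.mem_univ S), ← Finset.add_sum_erase _ _ (Finset.mem_univ S),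
    if_pos ⟨le_rfl, one_mem _⟩, if_neg fun h => lt_irrefl _ h.1, zero_add, add_comm]
  exact congrArg (· + _) (Finset.sum_congr rfl fun T hT => by
    simp only [lt_iff_le_and_ne, and_iff_left (Finset.mem_erase.1 hT).1.symm])

include hA

theorem gen_pm (c : Subgroup A → ℤ) (U : Subgroup A → Prop) :
    IsGeneralizedCharacter A fun a => pm c U a := by
  classical
  haveI := Fintype.ofFinite (Subgroup A)
  convert gen_sum (Finset.univ.filter U) fun T _ => gen_intCast_smul (c T) (gen_of_char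
    (@CA.H11Nilp.isCharacter_indicator _ _ _ T ⟨fun x hx a => by rwa [hA a, mul_inv_cancel_right]⟩))
    using 2 with a
  rw [pm, finsum_eq_sum_of_fintype, Finset.sum_apply, Finset.sum_filter, Int.cast_sum]
  refine Finset.sum_congr rfl fun T _ => ?_
  by_cases e : U T <;> by_cases e' : a ∈ T <;> simp [e, e']

theorem exists_glue (hp : p.Prime) (hP : IsPGroup p A) {m : Subgroup A → ℤ} (h0 : ¬ (p : ℤ) ∣ m ⊤)
    (h : ∀ S ≠ ⊥, ∃ g, IsGeneralizedCharacter A g ∧ (∀ a, ∀ s ∈ S, g (a * s) = g a) ∧ g 1 = m S ∧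
      ∀ a, ∃ w, IsIntegral ℤ w ∧ ‖w‖ = 1 ∧ g a = w * m (S ⊔ zpowers a)) :
    ∃ n : A → ℤ, IsGeneralizedCharacter A (fun a => n a) ∧ (∀ a, ¬ (p : ℤ) ∣ n a) ∧
      ∀ a ≠ 1, ∃ s : ℤ, s * s = 1 ∧ n a = s * m (zpowers a) := by
  classical
  have key : ∀ i : ℕ, ∃ c : Subgroup A → ℤ, c ⊤ = m ⊤ ∧ ∀ S ≠ ⊥, S.index ≤ i + 1 →
      ∃ s : ℤ, s * s = 1 ∧ pm c (S ≤ ·) 1 = s * m S := fun i => by
    induction i with
    | zero =>
      refine ⟨m, rfl, fun S _ hS => ⟨1, rfl, ?_⟩⟩
      obtain rfl := index_eq_one.1 (le_antisymm hS (Nat.pos_of_ne_zero S.index_ne_zero_of_finite))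
      rw [pm_le]; simp [pm]
    | succ i ih =>
      obtain ⟨c, h1, h2⟩ := ih
      have h3 : ∀ S : Subgroup A, ∃ s d : ℤ, S ≠ ⊥ → S.index = i + 2 → s * s = 1 ∧
          pm c (S < ·) 1 + d * S.index = s * m S := fun S => by
        by_cases hS : S ≠ ⊥ ∧ S.index = i + 2
        swap
        · exact ⟨0, 0, fun a b => (hS ⟨a, b⟩).elim⟩
        obtain ⟨g, g1, g2, g3, g4⟩ := h S hS.1
        have hT : S ≠ ⊤ := fun e => by simp [e] at hS
        obtain ⟨s, d, e⟩ := exists_step hA hT hp hP g1 (gen_pm hA c (S < ·)) (fun _ => rfl)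
          (fun a ha => h0 (h1 ▸ (dvd_sub_right ha).1 (dvd_pm_sub hp hP c hT.lt_top a))) g2
          (fun a s hs => congrArg _ (pm_congr (fun T => and_congr_right fun hT =>
            mul_mem_cancel_right (hT.le hs)) fun _ _ _ => rfl)) g3 fun a ha => by
          obtain ⟨w, e1, e2, e3⟩ := g4 a
          have h4 : S < S ⊔ zpowers a := left_lt_sup.2 fun h => ha (h (mem_zpowers a))
          obtain ⟨s, e4, e5⟩ := h2 _ (ne_bot_of_gt h4) (Nat.le_of_lt_succ ((index_strictAnti h4).trans_eq hS.2))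
          refine ⟨w * s, e1.mul isIntegral_algebraMap, ?_, ?_⟩
          · rcases mul_self_eq_one_iff.1 e4 with rfl | rfl <;> simp [e2]
          · rw [pm_congr (c' := c) (U' := (S ⊔ zpowers a ≤ ·)) (a' := 1) (fun T => ⟨fun h =>
              ⟨sup_le h.1.le (zpowers_le.2 h.2), one_mem _⟩, fun h => ⟨h4.trans_le h.1,
                h.1 (mem_sup_right (mem_zpowers a))⟩⟩) fun _ _ _ => rfl, e5, e3, Int.cast_mul,
              mul_assoc, ← mul_assoc (s : ℂ), ← Int.cast_mul, e4, Int.cast_one, one_mul]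
        exact ⟨s, d, fun _ _ => e⟩
      choose s d h3 using h3
      refine ⟨fun S => if S.index = i + 2 then d S else c S, by simp [h1], fun S hS hi => ?_⟩
      rcases hi.eq_or_lt with e | e
      · refine ⟨s S, (h3 S hS e).1, ?_⟩
        rw [pm_le, if_pos e, ← (h3 S hS e).2, pm_congr (fun _ => Iff.rfl) fun T hT _ =>
          if_neg (e ▸ index_strictAnti hT).ne]
      · rw [pm_congr (fun _ => Iff.rfl) fun T hT _ => if_neg ((index_antitone hT).trans_lt e).ne]
        exact h2 S hS (Nat.le_of_lt_succ e)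
  obtain ⟨c, h1, h2⟩ := key (Nat.card A)
  refine ⟨pm c fun _ => True, gen_pm hA _ _,
    fun a ha => h0 (h1 ▸ (dvd_sub_right ha).1 (dvd_pm_sub hp hP c trivial a)), fun a ha => ?_⟩
  rw [pm_congr (c' := c) (U' := (zpowers a ≤ ·)) (a' := 1) (fun T => by simp) fun _ _ _ => rfl]
  exact h2 _ (by simpa using ha) ((Nat.le_of_dvd Nat.card_pos (index_dvd_card _)).trans (Nat.le_succ _))

/-- The signs can be chosen invariant under a `p'`-group of automorphisms. -/
theorem exists_stable [Nontrivial A] (hM : IsPModular p M) (hP : IsPGroup p A)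
    {E : Subgroup (MulAut A)} (hE : ¬ p ∣ Nat.card E) {I : Type*} {g : I → A → ℂ} {s : A → ℤ}
    (hs : ∀ a ≠ 1, s a * s a = 1) (hg : ∀ i, ∀ α ∈ E, ∀ a ≠ 1, g i (α a) = g i a)
    (hi : ∀ i, ∀ a ≠ 1, IsIntegral ℤ (g i a))
    (hD : ∀ i, ∃ D, IsGeneralizedCharacter A D ∧ ∀ a ≠ 1, D a = s a * g i a) {j : I}
    (h0 : ∀ a ≠ 1, v M (g j a) = 1) : ∃ t : A → ℤ, (∀ a ≠ 1, t a * t a = 1) ∧
      ∀ i, ∃ D, IsGeneralizedCharacter A D ∧ Sb E D ∧ ∀ a ≠ 1, D a = t a * g i a := by
  classical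
  haveI := Fintype.ofFinite E
  choose D h1 h2 using hD
  have hne : ∀ (α : MulAut A) {a : A}, a ≠ 1 → α a ≠ 1 := fun α a ha => by simpa using ha
  have hs' : ∀ a ≠ 1, (s a : ℂ) * s a = 1 := fun a ha => by exact_mod_cast hs a ha
  have h3 : ∀ a, res M (D j a) ≠ 0 := fun a => by
    obtain ⟨b, hb⟩ := exists_ne (1 : A)
    rw [res_gen hM hP (h1 j), ← res_gen hM hP (h1 j) b,
      res_ne_zero_iff (isIntegral_mem (gen_isIntegral (h1 j) b)), h2 j b hb, map_mul, h0 b hb,
      v_eq_one_of_pow_eq_one two_ne_zero ((sq _).trans (hs' b hb)), one_mul]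
  obtain ⟨N, z, h4, h5, h6⟩ := exists_inv hA hM (h1 j) fun a => v_eq_one_of_res_ne_zero (h3 a)
  have h7 : ∀ α ∈ E, ∀ a ≠ 1, D j (α a) = (s (α a) * s a : ℤ) * D j a := fun α hα a ha => by
    rw [h2 j _ (hne α ha), h2 j a ha, hg j α hα a ha]
    push_cast
    linear_combination (-s (α a) * g j a) * hs' a ha
  let t : A → ℤ := fun a => s a * ∏ α : E, s (α.1 a) * s a
  have h8 : ∀ β ∈ E, ∀ a ≠ 1, t (β a) = t a := fun β hβ a ha => by
    rcases hM.1.eq_two_or_odd' with rfl | h2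
    · obtain ⟨k, hk⟩ : Odd (Nat.card E) := Nat.not_even_iff_odd.1 (by rwa [even_iff_two_dvd])
      have h9 : ∀ a ≠ 1, t a = ∏ α : E, s (α.1 a) := fun a ha => by
        simp only [t, Finset.prod_mul_distrib, Finset.prod_const, Finset.card_univ,
          ← Nat.card_eq_fintype_card, hk]
        rw [pow_succ, pow_mul, sq, hs a ha, one_pow, one_mul, mul_left_comm, hs a ha, mul_one]
      rw [h9 _ (hne β ha), h9 a ha]
      exact Fintype.prod_equiv (Equiv.mulRight ⟨β, hβ⟩) _ _ fun _ => rfl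
    · have h9 : ∀ α ∈ E, ∀ a ≠ 1, s (α a) = s a := fun α hα a ha => by
        have e := congrArg (res M) (h7 α hα a ha)
        rw [res_mul (intCast_mem_O _) (isIntegral_mem (gen_isIntegral (h1 j) a)), res_gen hM hP (h1 j),
          ← res_gen hM hP (h1 j) a, eq_comm, mul_eq_right₀ (h3 a), res_intCast] at e
        have e2 : ¬ (((-1 : ℤ) : k M) = 1) := fun e => by
          have : ((2 : ℕ) : k M) = 0 := by push_cast at e ⊢; linear_combination -e
          exact h2.not_two_dvd_nat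
            ((Nat.prime_dvd_prime_iff_eq hM.1 Nat.prime_two).1 ((natCast_k_eq_zero_iff hM 2).1 this) ▸ dvd_rfl)
        rcases mul_self_eq_one_iff.1 (hs a ha) with e3 | e3 <;>
          rcases mul_self_eq_one_iff.1 (hs _ (hne α ha)) with e4 | e4 <;> simp_all
      simp only [t, fun α : E => h9 α.1 α.2 _ (hne β ha), fun α : E => h9 α.1 α.2 _ ha, h9 β hβ a ha]
  refine ⟨t, fun a ha => ?_, fun i => ?_⟩
  · rw [mul_mul_mul_comm, hs a ha, ← Finset.prod_mul_distrib, one_mul]
    exact Finset.prod_eq_one fun α _ => by rw [mul_mul_mul_comm, hs a ha, hs _ (hne _ ha), one_mul]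
  have hN : (N : ℂ) ≠ 0 := Int.cast_ne_zero.2 fun e => h4 (by simp [e])
  obtain ⟨C, g1, g2, -⟩ := int_off hA (f := fun a => D i a * ∏ α : E, D j (α.1 a) * z a / N)
    (N := N ^ Fintype.card E) (coprime_card hM.1 hP h4).pow_left (pow_ne_zero _ (by simpa using hN))
    (by
      convert gen_mul (h1 i) (gen_prod Finset.univ fun (α : E) _ =>
        gen_mul (gen_comp (h1 j) α.1.toMonoidHom) h5) using 1
      funext a
      simp only [Pi.smul_apply, Pi.mul_apply, Finset.prod_apply, Finset.prod_div_distrib,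
        Finset.prod_const, Finset.card_univ, smul_eq_mul, Int.cast_pow]
      rw [← mul_div_assoc, mul_div_cancel₀ _ (pow_ne_zero _ hN)]
      rfl) fun a ha => by
    simp only [h2 i a ha, fun α : E => h7 α.1 α.2 a ha, mul_assoc, h6, mul_div_cancel_right₀ _ hN]
    exact isIntegral_algebraMap.mul ((hi i a ha).mul (IsIntegral.prod _ fun _ _ => isIntegral_algebraMap))
  have g3 : ∀ a ≠ 1, C a = t a * g i a := fun a ha => by
    simp only [g2 a ha, h2 i a ha, fun α : E => h7 α.1 α.2 a ha, mul_assoc, h6,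
      mul_div_cancel_right₀ _ hN, t]
    push_cast; ring
  refine ⟨C, g1, fun α hα a => ?_, g3⟩
  rcases eq_or_ne a 1 with rfl | ha
  · rw [map_one]
  · rw [g3 a ha, g3 _ (hne α ha), h8 α hα a ha, hg i α hα a ha]

end CA.H11Glue
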