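import Cfsg.Agent.Lib.Block.H11Src

/-!
# Small inertial quotients acting freely
-/

set_option autoImplicit false
set_option linter.unusedSectionVars false

namespace CA.H11Sm

open Cfsg MonoidAlgebra CA.BlkAlg CA.BlkVal CA.H11Amb CA.H11Pair CA.H11Max CA.H11Sec CA.H11Star
  CA.H13Span CA.H11Eta CA.H11NilB CA.H11Orb CA.H11Fb CA.H11Exc CChar.CharOrth CChar.CharGen Subgroup
open CA.BlkCore hiding lam lam_mul lam_one
open scoped ComplexConjugate

section int
variable {J : Type*} [Fintype J] [DecidableEq J] {r : J → ℤ}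

theorem var_ge {i j : J} (h : r j ≠ r i) :
    (Fintype.card J : ℤ) - 1 ≤ Fintype.card J * ∑ j, r j * r j - (∑ j, r j) ^ 2 := by
  have h1 := (form_ge (r := fun j : {j // j ≠ i} => r j - r i) fun h0 =>
    h (sub_eq_zero.1 (congrFun h0 ⟨j, fun e => h (e ▸ rfl)⟩))).1
  have h2 : ∀ f : J → ℤ, f i = 0 → ∑ j : {j // j ≠ i}, f j = ∑ j, f j := fun f hf => by
    rw [Fintype.sum_eq_add_sum_subtype_ne f i, hf, zero_add]
  have h3 : (Fintype.card {j // j ≠ i} : ℤ) = Fintype.card J - 1 := by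
    have := h2 (fun j => if j = i then 0 else 1) (by simp)
    rw [Finset.sum_congr rfl (g := fun _ => 1) fun j _ => if_neg j.2] at this
    simpa [Finset.sum_ite, Finset.filter_ne', Finset.card_erase_of_mem,
      Nat.cast_pred (Fintype.card_pos_iff.2 ⟨i⟩)] using this
  rw [h2 (fun j => (r j - r i) * (r j - r i)) (by simp), h2 (fun j => r j - r i) (by simp), h3]
    at h1
  simp only [sub_mul, mul_sub, Finset.sum_sub_distrib, ← Finset.sum_mul, ← Finset.mul_sum,
    Finset.sum_const, Finset.card_univ, nsmul_eq_mul] at h1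
  linarith

theorem row_le (h0 : r ≠ 0) {e : ℕ} (he : e ≤ 3)
    (h : ∑ j, r j * r j + e * (Fintype.card J * ∑ j, r j * r j - (∑ j, r j) ^ 2) ≤
      e * Fintype.card J) (h1 : ¬ (Fintype.card J = 3 ∧ 2 ≤ e)) (h2 : ¬ (Fintype.card J = 4 ∧ e = 3)) :
    (Fintype.card J + 1) * ∑ j, r j * r j - (∑ j, r j) ^ 2 ≤ (Fintype.card J : ℤ) := by
  obtain ⟨i, hi⟩ := Function.ne_iff.1 h0
  have hm : (0 : ℤ) < Fintype.card J := by exact_mod_cast Fintype.card_pos_iff.2 ⟨i⟩
  have he' : (e : ℤ) ≤ 3 := by exact_mod_cast he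
  by_cases hc : ∀ j, r j = r i
  · simp only [hc, Finset.sum_const, Finset.card_univ, nsmul_eq_mul] at h ⊢
    have h3 : r i * r i ≤ 3 := by nlinarith
    have h4 : r i * r i ≤ 1 := by
      rcases le_or_gt 2 |r i| with h | h
      · nlinarith [abs_mul_abs_self (r i)]
      · nlinarith [abs_mul_abs_self (r i), abs_nonneg (r i)]
    nlinarith
  push Not at hc
  obtain ⟨j, hj⟩ := hc
  have h3 := var_ge hj
  have h4 : |∑ j, r j| ≤ ∑ j, r j * r j := (Finset.abs_sum_le_sum_abs _ _).trans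
    (Finset.sum_le_sum fun j _ => by nlinarith [abs_mul_abs_self (r j), Int.le_self_sq |r j|])
  have h5 : 1 ≤ ∑ j, r j * r j := (show 1 ≤ r i * r i from mul_self_pos.2 hi).trans
    (Finset.single_le_sum (fun j _ => mul_self_nonneg (r j)) (Finset.mem_univ i))
  have h6 : 2 ≤ Fintype.card J := Fintype.one_lt_card_iff.2 ⟨j, i, fun e => hj (e ▸ rfl)⟩
  generalize ∑ j, r j * r j = N at *
  generalize ∑ j, r j = S at *
  generalize Fintype.card J = m at *
  have h7 : m * N - S ^ 2 = m - 1 := by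
    refine le_antisymm ?_ h3
    by_contra h7
    nlinarith [Int.natCast_nonneg e]
  rw [h7] at h
  have h8 : N ≤ e := by linarith
  obtain ⟨h9, h10⟩ := abs_le.1 h4
  have : N ≤ 3 := h8.trans he'
  interval_cases N
  · linarith
  · interval_cases S <;> omega
  · interval_cases S <;> omega

end int

section two
variable {A : Type*} [Group A] [Finite A] {α : MulAut A}

theorem eq_of_pow {p : ℕ} (hp : p.Prime) (h : ¬ p ∣ orderOf α) {a : A} (h1 : (α ^ p) a = a) :
    α a = a :=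
  zpowers_le (H := MulAction.stabilizer (MulAut A) a).2 h1 (mem_zpowers_pow_iff.2
    ((hp.coprime_iff_not_dvd).2 h))

theorem eq_one_of_omega {p : ℕ} [hp : Fact p.Prime] (hA : ∀ a b : A, a * b = b * a)
    (hP : IsPGroup p A) (h : ¬ p ∣ orderOf α) (h1 : ∀ a, a ^ p = 1 → α a = a) : α = 1 := by
  have h2 : ∀ n a, a ^ p ^ n = 1 → α a = a := fun n => by
    induction n with
    | zero => exact fun a ha => by rw [pow_zero, pow_one] at ha; rw [ha, map_one]
    | succ n ih =>
      refine fun a ha => eq_of_pow hp.out h ?_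
      have h3 : (a⁻¹ * α a) ^ p = 1 := by
        rw [Commute.mul_pow (hA _ _), ← map_pow, ih _ (by rwa [← pow_mul, ← pow_succ']), inv_pow,
          inv_mul_cancel]
      have h4 : ∀ k : ℕ, (α ^ k) a = a * (a⁻¹ * α a) ^ k := fun k => by
        induction k with
        | zero => simp
        | succ k ih =>
          rw [pow_succ', MulAut.mul_apply, ih, map_mul, map_pow, h1 _ h3, pow_succ', ← mul_assoc,
            mul_inv_cancel_left]
      rw [h4, h3, mul_one]
  exact MulEquiv.ext fun a => (hP a).elim fun n => h2 n a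

theorem fr_two (hA : ∀ a b : A, a * b = b * a) (hP : IsPGroup 2 A) [Nontrivial A]
    (h4 : Nat.card {a : A // a ^ 2 = 1} ≤ 4) {E : Subgroup (MulAut A)} (hE : ¬ 2 ∣ Nat.card E) :
    Fr E ∧ Nat.card E ≤ 3 := by
  classical
  have h0 : ∀ {a : A}, a ≠ 1 → ∃ z ∈ zpowers a, z ≠ 1 ∧ z ^ 2 = 1 := fun {a} ha => by
    obtain ⟨n, hn⟩ := IsPGroup.iff_orderOf.1 hP a
    obtain ⟨z, hz⟩ := exists_prime_orderOf_dvd_card' (G := zpowers a) 2 (by
      rw [Nat.card_zpowers, hn]
      exact dvd_pow_self 2 fun h => ha (orderOf_eq_one_iff.1 (by rw [hn, h, pow_zero])))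
    rw [← orderOf_coe] at hz
    exact ⟨z, z.2, fun h => by simp [h] at hz, hz ▸ pow_orderOf_eq_one _⟩
  have h1 : ∀ s : Finset A, (∀ a ∈ s, a ^ 2 = 1) → s.card ≤ 4 := fun s hs => by
    rw [← Nat.card_eq_finsetCard]
    exact (Nat.card_le_card_of_injective (fun a : s => (⟨a.1, hs a a.2⟩ : {a : A // a ^ 2 = 1}))
      fun a b h => Subtype.ext (congrArg (·.1) h)).trans h4
  have F : Fr E := ⟨hA, fun α hα a ha h => by
    have h2 : ¬ 2 ∣ orderOf α := fun h => hE (h.trans (orderOf_dvd_natCard _ hα))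
    obtain ⟨z, h3, hz, hz'⟩ := h0 ha
    replace h3 : α z = z := h3.elim fun k hk => by simp only [← hk, map_zpow, h]
    refine eq_one_of_omega hA hP h2 fun y hy => by_contra fun h5 => ?_
    have h6 : α (α y) ≠ y := fun h => h5 (eq_of_pow Nat.prime_two h2 (by rwa [sq]))
    have h7 : ∀ w, α w = w → y ≠ w ∧ α y ≠ w ∧ α (α y) ≠ w := fun w hw =>
      have : y ≠ w := fun h => h5 (h ▸ hw)
      have : α y ≠ w := fun h => this (α.injective (h.trans hw.symm))
      ⟨‹_›, this, fun h => this (α.injective (h.trans hw.symm))⟩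
    have := h1 {α (α y), α y, y, z, 1} (by simp [← map_pow, hy, hz'])
    rw [Finset.card_insert_of_notMem (by simp [h5, h6, h7 z h3, h7 1 (map_one α)]),
      Finset.card_insert_of_notMem (by simp [h5, h7 z h3, h7 1 (map_one α)]),
      Finset.card_insert_of_notMem (by simp [h7 z h3, h7 1 (map_one α)]), Finset.card_pair hz] at this
    omega⟩
  obtain ⟨a, ha⟩ := exists_ne (1 : A)
  obtain ⟨z, -, hz, hz'⟩ := h0 ha
  haveI := Fintype.ofFinite E
  have := h1 (insert 1 (Finset.univ.image fun α : E => α.1 z)) (by simp [← map_pow, hz'])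
  rw [Finset.card_insert_of_notMem (by simp [hz]), Finset.card_image_of_injective _ fun α β h => by
    have := F.free _ (β⁻¹ * α).2 z hz (by simp [h])
    exact (inv_mul_eq_one.1 (Subtype.ext this)).symm, Finset.card_univ,
    ← Nat.card_eq_fintype_card] at this
  exact ⟨F, by omega⟩

end two

variable {p : ℕ} {M : Ideal AlgInt} {G : Type*} [Group G] [Fintype G] {P : Subgroup G}
  {e : (k M)[G]} {B : Set (IrrCharacter G)} {A : Type*} [Group A] [Fintype A]
  {E : Subgroup (MulAut A)} {ι : A ≃* P}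

theorem fb_two {M : Ideal AlgInt} {e : (k M)[G]} (hM : IsPModular 2 M) (hB : IsPBlock M B)
    (h : Mx 2 ⊤ (eB M B) P e) (hA : ∀ a b : A, a * b = b * a) [Nontrivial A]
    (h4 : Nat.card {a : A // a ^ 2 = 1} ≤ 4) (ι : A ≃* P) :
    ∃ E, Fb 2 e B E ι ∧ Nat.card E ≤ 3 := by
  have h1 := h.not_dvd (p_eq hM)
  rw [top_inf_eq, sup_eq_right.2 fun x hx => mem_CC.2 fun y hy => by
    simpa using congrArg (fun a => (ι a : G)) (hA (ι.symm ⟨y, hy⟩) (ι.symm ⟨x, hx⟩)),
    ← card_range_act ι St_le_NN] at h1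
  have := fr_two hA (h.pr.pg.of_equiv ι.symm) h4 h1
  exact ⟨_, ⟨hM, hB, h, this.1, fun _ => mem_range_act _ _⟩, this.2⟩

variable [Fact p.Prime]

theorem ct_self_ne_zero (hM : IsPModular p M) (hB : IsPBlock M B) (h : Mx p ⊤ (eB M B) P e)
    {χ : IrrCharacter G} (hχ : χ ∈ B) {v : P} (hv : (v : G) ∈ CC P) : ct p e χ.1 χ.1 v ≠ 0 := by
  haveI := Fintype.ofFinite (centralizer ({(v : G)} : Set G))
  obtain ⟨b, h1, h2, h3⟩ := exists_lB_major hM hB h hv
  rw [ct_eq hM rfl h1.1 h2]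
  exact div_ne_zero (mt cb_self_eq_zero.1 (sp_ne_zero_of_major hM (pel h.pr v) rfl h1 h3 hχ))
    (nF_ne v)

theorem row_bound {D : IrrCharacter G → A → ℂ} (T : TA p e B E ι D) {χ : IrrCharacter G}
    (hχ : χ ∈ B) {r : Ix E → ℤ} (hr : ∀ a ≠ 1, D χ a = ∑ i, r i * eta i a) :
    ∑ j, r j * r j + Nat.card E * (Fintype.card (Ix E) * ∑ j, r j * r j - (∑ j, r j) ^ 2) ≤
      (Nat.card E * Fintype.card (Ix E) : ℤ) := by
  classical
  haveI := Fintype.ofFinite P
  have h1 := inner_eq_sum_ct T.hM T.hB T.mx (inSpan_irr hχ) (CChar.CharFun.irr_classFun χ.2)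
  have h2 : classInner (∑ i, (r i : ℂ) • eta i) (∑ i, (r i : ℂ) • eta i) =
      Nat.card E * (∑ j, r j * r j : ℤ) := by
    simp [CChar.CharFun.inner_sum_left, CChar.CharFun.inner_sum_right,
      CChar.CharFun.inner_smul_left, CChar.CharFun.inner_smul_right, T.fr.inner_eta, Finset.mul_sum,
      mul_comm, mul_left_comm, mul_assoc]
  rw [CChar.CharFun.inner_irr_self χ.2, ← ι.toEquiv.sum_comp, ← Finset.add_sum_erase _ _ (Finset.mem_univ 1),
    Finset.sum_congr rfl (f := fun a => ct p e χ.1 χ.1 (ι.toEquiv a))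
      fun a ha => T.ct_eq' hχ hχ (Finset.ne_of_mem_erase ha), ← Finset.sum_div] at h1
  rw [CChar.CharFun.inner_def, ← Finset.add_sum_erase _ _ (Finset.mem_univ 1), Finset.sum_congr rfl
    (g := fun a => D χ a * conj (D χ a)) fun a ha => by simp [hr a (Finset.ne_of_mem_erase ha)],
    inv_mul_eq_iff_eq_mul₀ (CA.Ind.card_ne_zero A)] at h2
  have h3 : (∑ i, (r i : ℂ) • eta i) 1 = (Nat.card E * ∑ j, r j : ℤ) := by
    simp [T.fr.eta_one, Finset.mul_sum, mul_comm]
  have h4 := norm_pos_iff.2 (ct_self_ne_zero T.hM T.hB T.mx hχ (T.comm (ι 1).2))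
  rw [h3, map_intCast] at h2
  rw [show ι.toEquiv 1 = ι 1 from rfl, ct_self_eq_norm T.hM T.mx.pr, eq_sub_of_add_eq' h2] at h1
  have h5 : (1 : ℝ) = ‖ct p e χ.1 χ.1 (ι 1)‖ + (Nat.card A * (Nat.card E * (∑ j, r j * r j : ℤ)) -
      (Nat.card E * ∑ j, r j : ℤ) * (Nat.card E * ∑ j, r j : ℤ)) / (Nat.card A * Nat.card E) := by
    exact_mod_cast h1
  have h6 : (0 : ℝ) < Nat.card A * Nat.card E := by
    exact_mod_cast Nat.mul_pos Nat.card_pos Nat.card_pos
  have h7 := (div_lt_one h6).1 ((lt_add_of_pos_left _ h4).trans_eq h5.symm)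
  have h8 : Nat.card A * (Nat.card E * ∑ j, r j * r j) - (Nat.card E * ∑ j, r j) *
      (Nat.card E * ∑ j, r j) < (Nat.card A * Nat.card E : ℤ) := by exact_mod_cast h7
  have h9 : (0 : ℤ) < Nat.card E := by exact_mod_cast Nat.card_pos
  rw [T.fr.card_eq] at h8
  push_cast at h8
  refine Int.lt_add_one_iff.1 (lt_of_mul_lt_mul_left ?_ h9.le)
  linarith

theorem le_rank (F : Fb p e B E ι) [Nontrivial A] (he : Nat.card E ≤ 3) :
    Nat.card E ≤ blockRank p B := by
  by_cases hc : IsCyclic P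
  · exact (H11Uni.exists_std F hc).1.ge
  have h0 : ∀ q, q.Prime → Nat.card A ≠ q := fun q hq h =>
    haveI := Fact.mk hq
    hc (isCyclic_of_prime_card ((Nat.card_congr ι.toEquiv).symm.trans h))
  have h1 := F.fr.card_eq
  have h2 : Nat.card A ≠ 10 := fun h => by
    have := F.card_A
    rw [h] at this
    have h2 := (Nat.prime_dvd_prime_iff_eq Nat.prime_two F.hM.1).1
      (Nat.prime_two.dvd_of_dvd_pow (this ▸ (by norm_num : 2 ∣ 10)))
    have h3 := (Nat.prime_dvd_prime_iff_eq Nat.prime_five F.hM.1).1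
      (Nat.prime_five.dvd_of_dvd_pow (this ▸ (by norm_num : 5 ∣ 10)))
    omega
  have h3 := h0 7 (by norm_num)
  have h4 := h0 13 (by norm_num)
  obtain ⟨D, T⟩ := H11Src.exists_ta F
  haveI := Fintype.ofFinite B
  obtain ⟨c, h5, h6, h7⟩ := T.exists_gram
  have h8 := Finset.sum_le_sum fun (χ : B) (_ : χ ∈ Finset.univ) =>
    row_le (h6 χ) he (row_bound T χ.2 (h5 χ)) (fun h => by
      rw [h.1] at h1; omega) fun h => by rw [h.1] at h1; omega
  rw [sum_form h7, Finset.sum_const, Finset.card_univ, nsmul_eq_mul, ← Nat.card_eq_fintype_card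
    (α := B), F.card_eq] at h8
  have h9 : (0 : ℤ) < Fintype.card (Ix E) := by
    exact_mod_cast Fintype.card_pos_iff.2 F.fr.nonempty
  have := le_of_mul_le_mul_right h8 h9
  omega

theorem exists_std (F : Fb p e B E ι) [Nontrivial A] (he : Nat.card E ≤ 3) :
    blockRank p B = Nat.card E ∧ ∃ D δ μ ε, TA p e B E ι D ∧ Std p B E D δ μ ε :=
  (H11Src.exists_ta F).elim fun D T => ⟨T.rank_le.antisymm (le_rank F he), D,
    (T.exists_std (le_rank F he)).imp fun _ => .imp fun _ => .imp fun _ S => ⟨T, S⟩⟩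

end CA.H11Sm
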