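import Cfsg.Agent.Lib.Block.H11Cy2
import Cfsg.Agent.Lib.Block.H11Uni
import Cfsg.Agent.Lib.Block.H11Glue
import Cfsg.Agent.Lib.Block.BlkQuo

/-!
# Blocks whose inertial quotient acts freely on an abelian defect group
-/

set_option autoImplicit false
set_option linter.unusedSectionVars false

namespace CA.H11Src

open Cfsg MonoidAlgebra CA.BlkAlg CA.BlkVal CA.BlkOmega CA.BlkRed CA.H11Loc CA.H11Amb CA.H11Pair
  CA.H11Max CA.H11Tau CA.H11Brg CA.H11Sec CA.H11Contrib CA.SylIn CA.H12PPart CA.H11Star CA.H13Span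
  CA.H11Def CA.H11Eta CA.H11NilB CA.H11Orb CA.BlkHeight CA.H11Fb CA.H11Exc CA.H11Map CA.H11Tr
  CA.H11CycD CA.H11Glue CA.BlkReg CA.BlkIBr CChar.CharFun CChar.CharOrth CChar.CharGen
  CChar.CharInt Subgroup
open CA.BlkCore hiding lam lam_mul lam_one
open CA.BlkBas (BSet tr)
open scoped ComplexConjugate

variable {p : ℕ} {M : Ideal AlgInt} {G L : Type*} [Group G] [Fintype G] [Group L] [Fintype L]

theorem chiL_pReg (hM : IsPModular p M) {E : ℂ[G]} (h1 : E ∈ OG M G) (h2 : E * E = E) {α : G → ℂ}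
    (hα : IsClassFunction G α) : chiL (pRegularPart p α) E = chiL α E := by
  obtain ⟨m, hm⟩ := exists_mult h1 h2
  rw [hm _ hα, hm _ (classFun_pRegularPart hα)]
  exact Finset.sum_congr rfl fun i _ => by
    rw [← inner_Phi hα, ← inner_Phi (classFun_pRegularPart hα),
      CA.BlkBas.inner_pReg_left_of_vanish _ fun _ => Phi_of_dvd hM i]

theorem chiL_blockPart (b : Set (IrrCharacter G)) {α : G → ℂ} (hα : IsClassFunction G α)
    (a : ℂ[G]) : chiL (blockPart b α) a = chiL α (fB b * a) := by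
  classical
  rw [chiL_eq_sum hα, chiL_eq_sum (classFun_blockPart b α)]
  exact Finset.sum_congr rfl fun χ _ => by
    rw [CA.H12Orth.inner_blockPart, chiL_fB_mul]; split_ifs <;> simp

theorem tau_mp {φ : L →* G} (hφ : Function.Injective φ) {h : L} {ε : (k M)[L]}
    (hε : Id (zpowers h) ε) {χ : G → ℂ} (hχ : IsClassFunction G χ) :
    tau M (φ h) (mp φ ε) χ = tau M h ε fun x => χ (φ x) := by
  have hE := hε.isLf (M := M)
  rw [tau_eq hχ ⟨mp_mem_OG hφ hE.mem, MonoidHom.map_zpowers φ h ▸ (mp_mem_fixed_iff hφ).2 hE.fix,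
    by rw [← map_mul, hE.idem], by rw [H11Brg.red_mp hφ, hE.red]⟩, ← mp_single, ← map_mul, chiL_mp]
  rfl

theorem id_one_of {R : Type*} [CommRing R] {ε : R[G]} (h : ε * ε = ε) : Id (zpowers 1) ε :=
  ⟨fun u hu => by rw [show u = 1 by simpa using hu, cjA_one], h⟩

theorem isLf_fB (hM : IsPModular p M) {b : Set (IrrCharacter G)} (hb : IsPBlock M b)
    (H : Subgroup G) : IsLf M H (fB b) (eB M b) :=
  ⟨fB_mem_OG hM hb, mem_fixed_of_mem_Z (fB_mem_Z b) _, fB_mul_self _, rfl⟩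

theorem tau_eB (hM : IsPModular p M) {b : Set (IrrCharacter G)} (hb : IsPBlock M b)
    {θ : IrrCharacter G} (hθ : θ ∈ b) : tau M 1 (eB M b) θ.1 = θ.1 1 := by
  classical
  rw [tau_eq (irr_classFun θ.2) (isLf_fB hM hb _), ← one_def, one_mul, ← mul_one (fB b), chiL_fB_mul,
    if_pos hθ, chiL_one]

theorem exists_nat_tau {ε : (k M)[G]} (h : ε * ε = ε) {θ : G → ℂ} (hθ : IsCharacter G θ) :
    ∃ n : ℕ, tau M 1 ε θ = n := by
  have hE := (id_one_of h).isLf (M := M)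
  rw [tau_eq (char_classFun hθ) hE, ← one_def, one_mul]
  exact exists_nat_chiL hθ hE.idem

variable (p) in
/-- All members of `b` are multiples of `θ` on the `p`-regular elements. -/
def Rk (b : Set (IrrCharacter G)) (θ : IrrCharacter G) : Prop :=
  θ ∈ b ∧ ∀ ψ ∈ b, ∃ d : ℕ, ∀ s, ¬ p ∣ orderOf s → ψ.1 s = d * θ.1 s

theorem Rk.exists_bset (hp : p.Prime) {b : Set (IrrCharacter G)} {θ : IrrCharacter G}
    (h : Rk p b θ) : ∃ S : BSet p b Unit, S.φ () = pRegularPart p θ.1 := by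
  classical
  choose! d hd using h.2
  refine ⟨⟨fun _ => pRegularPart p θ.1, fun ψ _ => if ψ ∈ b then d ψ else 0,
    fun _ ψ => if ψ = θ then 1 else 0, fun _ h _ => if_neg h, 
    fun _ ψ e => if_neg fun e' : ψ = θ => e (e' ▸ h.1),
    fun ψ hψ => ?_, fun _ => by simp, ?_⟩, rfl⟩
  · funext g
    by_cases e : p ∣ orderOf g
    · simp [pReg_of_dvd _ e, hψ]
    · simp [pReg_of_not_dvd _ e, hψ, hd ψ hψ g e]
  · exact linearIndependent_unique_iff.2 fun e => irr_apply_one_ne_zero θ.2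
      ((pReg_one hp θ.1).symm.trans (congrFun e 1))

theorem Rk.exists_col (hM : IsPModular p M) {u : G} {H : Subgroup G} [Fintype H]
    (hH : H = centralizer {u}) {b : Set (IrrCharacter H)} (hb : IsPBlock M b) {ξ : IrrCharacter H}
    (h : Rk p b ξ) : ∃ g : (G → ℂ) → ℂ, (∀ θ, IsGeneralizedCharacter G θ → IsIntegral ℤ (g θ)) ∧
      (∀ θ η, (p : ℂ) ^ blockDefect p b * cb p b u θ η = g θ * conj (g η)) ∧
      ∀ ε, ε * ε = ε → eB M b * ε = ε → ∀ θ, IsClassFunction G θ →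
        tau M u (mp H.subtype ε) θ = g θ * tau M 1 ε ξ.1 := by
  classical
  have hs := isSat_of_isPBlock hM hb
  obtain ⟨S, hS⟩ := h.exists_bset hM.1
  have h1 : (S.C () () : ℂ) = p ^ blockDefect p b := by simp [S.C_eq_of_subsingleton hM hb]
  have h2 : (p : ℂ) ^ blockDefect p b * S.Γ () () = 1 := by
    simpa [Matrix.mul_apply, h1] using congrFun (congrFun (S.C_mul_Γ hM hs) ()) ()
  have hu := CA.BlkBas.self_mem_of_eq hH
  refine ⟨fun θ => S.gd u θ (), fun θ hθ => S.isIntegral_gd hH.le hu hθ _, fun θ η => ?_,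
    fun ε e1 e2 θ hθ => ?_⟩
  · simp only [cb_eq_sum S, Fintype.sum_unique]
    linear_combination S.gd u θ () * conj (S.gd u η ()) * h2
  · obtain ⟨E, hE, h3, -⟩ := (isLf_fB hM hb _).exists_le (id_one_of e1) e2
      (by rw [← (commute_of_mem_Z (eB_mem_Z b) ε).eq, e2])
    have h4 := CA.BlkBas.tr_classFun hH.le hθ
    rw [tau_eq (irr_classFun ξ.2) hE, ← one_def, one_mul, ← chiL_pReg hM hE.mem hE.idem
      (irr_classFun ξ.2), ← hS, ← chiL_smul_left, ← Fintype.sum_unique fun i => S.gd u θ i • S.φ i,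
      ← S.pReg_blockPart_tr, chiL_pReg hM hE.mem hE.idem (classFun_blockPart _ _),
      chiL_blockPart _ h4, h3, ← emb_eq_mp, tau_eq hθ ⟨emb_mem_OG _ hE.mem, mem_fixed_of_support
        fun x hx => coeff_emb_of_not_mem _ _ (by rwa [hH, ← CC_zpowers]),
        by rw [← map_mul, hE.idem], by rw [red_emb, hE.red]⟩, CA.H12Second.chiL_single_mul_emb]
    rfl

theorem Rk.exists_col' (hM : IsPModular p M) {u : G} {φ : L →* G} (hφ : Function.Injective φ)
    [Fintype (centralizer ({u} : Set G))] (hH : φ.range = centralizer {u})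
    {b : Set (IrrCharacter (centralizer ({u} : Set G)))} (hb : IsPBlock M b)
    {c : Set (IrrCharacter L)} (hc : IsPBlock M c) (e : ab M _ b = mp φ (eB M c))
    {ξ : IrrCharacter L} (h : Rk p c ξ) :
    ∃ g : (G → ℂ) → ℂ, (∀ θ, IsGeneralizedCharacter G θ → IsIntegral ℤ (g θ)) ∧
      (∀ θ η, (p : ℂ) ^ blockDefect p b * cb p b u θ η = g θ * conj (g η)) ∧
      ∀ ε, ε * ε = ε → eB M c * ε = ε → ∀ θ, IsClassFunction G θ →
        tau M u (mp φ ε) θ = g θ * tau M 1 ε ξ.1 := by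
  let σ := (MonoidHom.ofInjective hφ).trans (MulEquiv.subgroupCongr hH)
  obtain ⟨h1, h2⟩ := block_pre σ hM hc
  obtain rfl : b = irrE σ ⁻¹' c := ab_inj hM hb h1 (by rw [e, ab_eq_mp, h2, mp_mp]; rfl)
  obtain ⟨ξ, rfl⟩ := (irrE σ).surjective ξ
  obtain ⟨g, g1, g2, g3⟩ := Rk.exists_col hM rfl hb (ξ := ξ) ⟨h.1, fun ψ hψ =>
    (h.2 _ hψ).imp fun d hd s hs => by
      obtain ⟨s, rfl⟩ := σ.surjective s
      exact hd s (by rwa [MulEquiv.orderOf_eq] at hs)⟩
  refine ⟨g, g1, g2, fun ε e1 e2 θ hθ => ?_⟩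
  have := g3 (mp σ.toMonoidHom ε) (by rw [← map_mul, e1]) (by rw [h2, ← map_mul, e2]) θ hθ
  rw [mp_mp, ← map_one σ.toMonoidHom, tau_mp σ.injective (id_one_of e1) (irr_classFun ξ.2)] at this
  exact this

variable {P Q R : Subgroup G} {e j : (k M)[G]} {B : Set (IrrCharacter G)} [Fact p.Prime]
  {A : Type*} [Group A] [Fintype A] {E : Subgroup (MulAut A)} {ι : A ≃* P}
  {c : Set (IrrCharacter (CC Q))} {e' : (k M)[CC Q]} [Fintype (CC Q)] {θ : IrrCharacter (CC Q)}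

theorem lc_rk (F : Fb p e B E ι) (L : Lc p P e Q c e') (hθ : θ ∈ c) :
    blockHeight p c θ.1 = 0 ∧ Rk p c θ := by
  obtain ⟨ξ, h1, h2⟩ := exists_height_zero (p := p) ⟨θ, hθ⟩
  obtain ⟨l, h3⟩ := L.exists_lin F h1 h2 hθ
  obtain ⟨ζ, -, h4, h5⟩ := L.exists_st F h1 h2 l
  rw [h5, ← h3] at h4
  exact ⟨h4, hθ, fun ψ => exists_reg_of_nil F.hM L.blk L.nil hθ h4⟩

theorem lc_ker (hM : IsPModular p M) (L : Lc p P e Q c e') (hQ : IsPGroup p Q) : ∃ θ ∈ c,
    ∀ s : CC Q, (s : G) ∈ Q → ∀ x y, θ.1 (x * s * y) = θ.1 (x * y) := by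
  haveI : (Q.subgroupOf (CC Q)).Normal := ⟨fun s hs x => by
    rwa [show x * s = s * x from Subtype.ext (x.2 s hs).symm, mul_inv_cancel_right]⟩
  have hφ := QuotientGroup.mk'_surjective (Q.subgroupOf (CC Q))
  obtain ⟨ψ, h⟩ := CA.BlkQuo.exists_infl_mem hφ hM
    (by rw [QuotientGroup.ker_mk']; exact hQ.comap_subtype) L.blk
  refine ⟨_, h, fun s hs x y => ?_⟩
  have : QuotientGroup.mk' (Q.subgroupOf (CC Q)) s = 1 := (QuotientGroup.eq_one_iff s).2 hs
  rw [CA.BlkQuo.infl_apply, CA.BlkQuo.infl_apply, map_mul, map_mul, map_mul, this, mul_one]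

theorem mp_trunc (Q : Subgroup G) (j : (k M)[G]) : mp (CC Q).subtype (trunc (CC Q) j) = br Q j :=
  emb_trunc _ j

theorem id_trunc (hM : IsPModular p M) (hP : IsPGroup p P) (h : Q ≤ P) (h' : P ≤ CC Q)
    (hj : Id P j) : Id (P.subgroupOf (CC Q)) (trunc (CC Q) j) :=
  ⟨(mp_mem_fixed_iff (CC Q).subtype_injective).1 (by
    rw [mp_trunc, map_subgroupOf_eq_of_le h']
    exact br_mem_fixed hj.fix (h'.trans (CC_le_NN _))), by
    rw [← trunc_mul_of_fixed (p_eq hM) (hP.to_le h) (hj.anti h).fix (hj.anti h).fix, hj.idem]⟩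

variable (p P e) in
/-- The Brauer images of `j` belong to the pairs below `(P, e)`. -/
def Src (j : (k M)[G]) : Prop := Id P j ∧ ∀ R f, Sub p ⊤ R f P e → br R j * f = br R j

theorem Src.mul (L : Lc p P e Q c e') (hj : Src p P e j) :
    eB M c * trunc (CC Q) j = trunc (CC Q) j := by
  apply mp_injective (CC Q).subtype_injective
  rw [(commute_of_mem_Z (eB_mem_Z c) _).eq, map_mul, mp_trunc]
  exact hj.2 _ _ L.sub

theorem exists_src (F : Fb p e B E ι) {c : Set (IrrCharacter (CC P))} {e' : (k M)[CC P]}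
    [Fintype (CC P)] (L : Lc p P e P c e') {θ : IrrCharacter (CC P)} (hθ : θ ∈ c) :
    ∃ j, Src p P e j ∧ res M (tau M 1 (trunc (CC P) j) θ.1) ≠ 0 := by
  have hM := F.hM
  have hp := p_eq hM
  have hP := F.mx.pr.pg
  have hs := isSat_of_isPBlock hM L.blk
  obtain ⟨i, h1, -⟩ := exists_blk_eq hM L.blk hθ
  obtain ⟨χ, h2, h3⟩ := (ibr hM hs).exists_d_not_dvd (q := p)
    (Nat.prime_iff_prime_int.1 hM.1).not_unit ⟨i, h1.le⟩
  obtain ⟨d, hd⟩ := (lc_rk F L hθ).2.2 χ h2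
  have h4 : (dn χ.1 i : ℂ) = d * dn θ.1 i := by
    rw [cast_dn_irr, cast_dn_irr, ← chiL_pReg hM (eh_mem i) (eh_idem i) (irr_classFun χ.2),
      CA.BlkBas.pReg_congr (θ' := (d : ℂ) • θ.1) hd, chiL_pReg hM (eh_mem i) (eh_idem i)
      (classFun_smul _ (irr_classFun θ.2)), chiL_smul_left]
  have hi : red M (eh i) * red M (eh i) = red M (eh i) := by
    rw [← red_mul (eh_mem i) (eh_mem i), eh_idem]
  have he : ab M (CC P) c = e := L.sub.eq_of_eq
  have bm := fun a b => br_mul (a := a) (b := b) hp hP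
  have tm := fun a b => trunc_mul_of_fixed (a := a) (b := b) hp hP
  refine H11Pt.loc_induction (B := Fixed (k M) P) (motive := fun x => br P x * e = br P x →
    res M (tau M 1 (trunc (CC P) x) θ.1) ≠ 0 → ∃ j, Src p P e j ∧
      res M (tau M 1 (trunc (CC P) j) θ.1) ≠ 0) (j := emb (CC P) (red M (eh i)))
    (fun _ h => (h (by rw [map_zero, tau_zero (irr_classFun θ.2), res_zero])).elim)
    (fun x hx y hy e1 e2 e3 e4 ih1 ih2 h5 h6 => ?_) (fun x hx e1 _ hl h5 h6 => ?_)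
    (emb_centralizer_mem_fixed _ _) (by rw [← map_mul, hi]) ?_ ?_
  · have g1 : trunc (CC P) x * trunc (CC P) x = trunc (CC P) x := by rw [← tm _ _ hx hx, e1]
    have g2 : trunc (CC P) y * trunc (CC P) y = trunc (CC P) y := by rw [← tm _ _ hy hy, e2]
    obtain ⟨m, hm⟩ := exists_nat_tau g1 (char_of_irr θ.2)
    obtain ⟨n, hn⟩ := exists_nat_tau g2 (char_of_irr θ.2)
    rw [map_add, tau_add (irr_classFun θ.2) (id_one_of g1) (id_one_of g2)
      (by rw [← tm _ _ hx hy, e3, map_zero]) (by rw [← tm _ _ hy hx, e4, map_zero]),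
      res_add (hm ▸ natCast_mem_O m) (hn ▸ natCast_mem_O n)] at h6
    by_cases h : res M (tau M 1 (trunc (CC P) x) θ.1) = 0
    · refine ih2 ?_ (by rwa [h, zero_add] at h6)
      have := congrArg (br P y * ·) h5
      simp only [← mul_assoc, ← bm _ _ hy (add_mem hx hy), mul_add, e4, e2, zero_add] at this
      exact this
    · refine ih1 ?_ h
      have := congrArg (br P x * ·) h5
      simp only [← mul_assoc, ← bm _ _ hx (add_mem hx hy), mul_add, e3, e1, add_zero] at this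
      exact this
  · have h0 : br P x ≠ 0 := fun h => h6 (by
      rw [← trunc_cut, show cut (CC P) x = 0 from h, map_zero, tau_zero (irr_classFun θ.2), res_zero])
    obtain ⟨g, g1, g2⟩ := H11Pt.exists_pair (S := ⊥) hp hP (by simp) bot_le
      (by rw [sup_bot_eq]; exact ⟨hx, e1⟩) (by rwa [sup_bot_eq]) h0
    obtain rfl : g = e := F.mx.pr.blk.eq_of_mul_ne_zero g1.blk fun h => h0 (by
      rw [← h5, ← g2 _ _ (Sub.refl p _ _ _), mul_assoc, h, mul_zero])
    exact ⟨x, ⟨⟨hx, e1⟩, g2⟩, h6⟩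
  · rw [show br P (emb (CC P) (red M (eh i))) = _ from cut_emb _ _, ← he, ab_eq_mp, emb_eq_mp,
      ← map_mul, ← (commute_of_mem_Z (eB_mem_Z c) _).eq, eB, ← red_mul (fB_mem_OG hM L.blk) (eh_mem i),
      ← h1, fB_blk_mul_eh hM]
  · rw [trunc_emb, tau_eq (irr_classFun θ.2) ⟨eh_mem i, (id_one_of (eh_idem i)).fix, eh_idem i, rfl⟩,
      ← one_def, one_mul, ← cast_dn_irr, res_natCast, Ne, natCast_k_eq_zero_iff hM]
    exact fun h => h3 (Int.natCast_dvd_natCast.2 (Nat.cast_injective (R := ℂ)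
      (h4.trans (Nat.cast_mul _ _).symm) ▸ h.mul_left d))

theorem lc_step (F : Fb p e B E ι) (L : Lc p P e Q c e') (hθ : θ ∈ c) {c' : Set (IrrCharacter (CC R))}
    {e'' : (k M)[CC R]} [Fintype (CC R)] (L' : Lc p P e R c' e'') {ξ : IrrCharacter (CC R)}
    (hξ : ξ ∈ c') {a : A} (hR : R = Q ⊔ zpowers (ι a : G)) (hj : Src p P e j) :
    ∃ w, IsIntegral ℤ w ∧ ‖w‖ = 1 ∧
      tau M (L.io ι a : CC Q) (trunc (CC Q) j) θ.1 = w * tau M 1 (trunc (CC R) j) ξ.1 := by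
  classical
  have hM := F.hM
  have hp := p_eq hM
  have hP := F.mx.pr.pg
  have hle : CC R ≤ CC Q := CC_anti (hR ▸ le_sup_left)
  have hC : CC Q ⊓ CC (zpowers (ι a : G)) = CC R := by rw [hR, CC_sup]
  have hz : (zpowers (L.io ι a : CC Q)).map (CC Q).subtype = zpowers (ι a : G) :=
    MonoidHom.map_zpowers _ _
  have hi := (CC Q).subtype_injective
  obtain ⟨b, h1, h2, h3⟩ := exists_lB_major hM L.blk L.mx (v := L.io ι a)
    fun x hx => congrArg Subtype.val (L.comm F ⟨x, hx⟩ _)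
  have ha := zpowers_le.2 (ι a).2
  have h8 : Sub p (CC Q) (zpowers (ι a : G)) (ab M (CC R) c') P e :=
    (nsub_of_ne hp ⟨ha.trans L.le, hP.to_le ha, by rw [hC]; exact blk_ab hM L'.blk⟩
      (F.mx_local L.sub).pr ha (F.comm.trans ((CC_anti ha).trans (CC_le_NN _)))
      (fixed_anti L'.le (blk_ab hM L'.blk).fixed)
      ((L'.sub.nsub hp F.mx.pr (L'.le.trans (CC_le_NN _))).br.trans_ne F.mx.pr.blk.ne)).sub
  have h4 : ab M _ b = mp (inclusion hle) (eB M c') := by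
    rw [h2, eq_comm]
    refine eq_lb hp L.mx.pr ((sub_mp_iff hi).1 ?_)
    rw [map_top_subtype, hz, mp_mp, map_subgroupOf_eq_of_le L.le, L.eq]
    exact h8
  obtain ⟨g, g1, g2, g3⟩ := Rk.exists_col' hM (inclusion_injective hle) (by
    apply map_injective hi
    rw [← CC_zpowers, ← top_inf_eq (CC (zpowers _)), map_inf_CC hi, map_top_subtype, hz, hC,
      MonoidHom.map_range]
    exact range_subtype _) h1.1 L'.blk h4 (lc_rk F L' hξ).2
  have h5 := (id_trunc hM hP L.sub.le L.le hj.1).anti (zpowers_le.2 (L.io ι a).2)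
  have h6 : mp (inclusion hle) (trunc (CC R) j) = br (zpowers (L.io ι a : CC Q)) (trunc (CC Q) j) :=
    mp_injective hi (by rw [← br_mp hi, hz, mp_trunc, br_br, sup_comm, ← hR, mp_mp, ← mp_trunc]; rfl)
  have h7 := (id_trunc hM hP L'.sub.le L'.le hj.1).idem
  refine ⟨g θ.1, g1 _ (gen_of_irr θ.2), ?_, ?_⟩
  · have := g2 θ.1 θ.1
    rw [← card_mul_ct hM L.mx L.nil rfl h1.1 h2, card_mul_ct_eq_one hM L.blk L.mx L.nil hθ
      (lc_rk F L hθ).1, Complex.mul_conj, Complex.normSq_eq_norm_sq] at this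
    exact (sq_eq_sq₀ (norm_nonneg _) zero_le_one).1 (by rw [one_pow]; exact_mod_cast this.symm)
  · rw [← g3 _ h7 (hj.mul L') _ (irr_classFun θ.2), h6]
    exact tau_congr hM (irr_classFun θ.2) h5 ⟨mem_fixed_of_supp_CC (br_mem_supp _ _), by
      rw [← h6, ← map_mul, h7]⟩ (isPPart_self hM.1 (pel L.mx.pr _)) (br_br_of_le le_rfl _).symm

theorem gen_tau {ε : (k M)[G]} (hε : Id P ε) (ι : A ≃* P) {χ : G → ℂ} (hχ : IsCharacter G χ) :
    ∃ F : ℂ[G], (∀ a, tau M (ι a : G) ε χ = chiL χ (single (ι a : G) 1 * F)) ∧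
      IsGeneralizedCharacter A fun a => tau M (ι a : G) ε χ := by
  obtain ⟨F, hF⟩ := hε.exists_lf
  have h := fun a => tau_eq (char_classFun hχ) (hF.anti (zpowers_le.2 (ι a).2))
  refine ⟨F, h, ?_⟩
  simp only [h]
  exact gen_comp (gen_of_char (char_idem hχ ⟨hF.fix, hF.idem⟩)) ι.toMonoidHom

theorem top_step (F : Fb p e B E ι) (L : Lc p P e Q c e') (hθ : θ ∈ c) {a : A}
    (hQ : Q = zpowers (ι a : G)) : ∃ g : (G → ℂ) → ℂ,
      (∀ χ, IsGeneralizedCharacter G χ → IsIntegral ℤ (g χ)) ∧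
      (∀ χ ψ, Nat.card A * cv p e ι a χ ψ = g χ * conj (g ψ)) ∧
      (∀ χ ∈ B, blockHeight p B χ.1 = 0 → v M (g χ.1) = 1) ∧
      (∀ χ, IsClassFunction G χ → tau M (ι a : G) (lb p P e (ι a)) χ = g χ * θ.1 1) ∧
      ∀ j, Src p P e j → ∀ χ, IsClassFunction G χ →
        tau M (ι a : G) j χ = g χ * tau M 1 (trunc (CC Q) j) θ.1 := by
  classical
  have hM := F.hM
  obtain ⟨b, h1, h2, h3, -⟩ := F.exists_loc a
  have h4 : ab M _ c = lb p P e (ι a) := eq_lb (p_eq hM) F.mx.pr (hQ ▸ L.sub)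
  obtain ⟨g, g1, g2, g3⟩ := Rk.exists_col' hM (CC Q).subtype_injective
    (by rw [range_subtype, hQ, CC_zpowers]) h1.1 L.blk (h2.trans h4.symm) (lc_rk F L hθ).2
  refine ⟨g, g1, fun χ ψ => ?_, fun χ hχ h0 => ?_, fun χ hχ => ?_, fun j hj χ hχ => ?_⟩
  · rw [← g2, cv, ← h2, cA_eq hM rfl h1.1, F.card_A, h3, Nat.cast_pow]
  · have h5 := (v_cb_eq_one_iff (χ := χ) (ψ := χ) hM (pel F.mx.pr (ι a)) le_rfl
      (CA.BlkBas.self_mem_of_eq rfl) h1).2 ⟨⟨hχ, h0⟩, hχ, h0⟩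
    have h6 := g1 _ (gen_of_irr χ.2)
    rw [g2] at h5
    exact le_antisymm (mem_O_iff.1 (isIntegral_mem h6))
      (h5.ge.trans (v_mul_le_left (isIntegral_mem (h6.map (starRingEnd ℂ).toIntAlgHom))))
  · rw [← tau_eB hM L.blk hθ, ← g3 _ (blk_eB hM L.blk).idem (blk_eB hM L.blk).idem _ hχ, ← h4]
    rfl
  · have h5 := (id_trunc hM F.mx.pr.pg L.sub.le L.le hj.1).idem
    rw [← g3 _ h5 (hj.mul L) _ hχ, mp_trunc]
    refine tau_congr hM hχ (hj.1.anti (zpowers_le.2 (ι a).2)) ⟨hQ ▸ mem_fixed_of_supp_CC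
      (br_mem_supp _ _), by rw [← mp_trunc, ← map_mul, h5]⟩ (isPPart_self hM.1 (pel F.mx.pr _)) ?_
    rw [← hQ, br_br_of_le le_rfl]

/-- The generalized decomposition numbers, up to signs, are values of generalized characters. -/
theorem exists_ta (F : Fb p e B E ι) [Nontrivial A] : ∃ D, TA p e B E ι D := by
  classical
  have hM := F.hM
  let ψ : A →* G := P.subtype.comp ι.toMonoidHom
  have hψ : Function.Injective ψ := P.subtype_injective.comp ι.injective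
  have hT : (⊤ : Subgroup A).map ψ = P := by
    rw [← Subgroup.map_map, map_top_of_surjective _ ι.surjective, map_top_subtype]
  have h1 : ∀ S : Subgroup A, ∃ c e' θ, S ≠ ⊥ → Lc p P e (S.map ψ) c e' ∧ θ ∈ c ∧
      ∀ s : CC (S.map ψ), (s : G) ∈ S.map ψ → ∀ x y, θ.1 (x * s * y) = θ.1 (x * y) := fun S => by
    by_cases h : S = ⊥
    · exact ⟨∅, 0, irrOne _, fun h' => (h' h).elim⟩
    have h2 : S.map ψ ≤ P := hT ▸ map_mono le_top
    obtain ⟨c, e', L⟩ := exists_lc F h2 (by rwa [Ne, map_eq_bot_iff_of_injective _ hψ])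
    obtain ⟨θ, h3⟩ := lc_ker hM L (F.mx.pr.pg.to_le h2)
    exact ⟨c, e', θ, fun _ => ⟨L, h3⟩⟩
  choose c e' θ h1 using h1
  obtain ⟨j, hj, h2⟩ : ∃ j, Src p P e j ∧ res M (tau M 1 (trunc (CC (Subgroup.map ψ ⊤)) j) (θ ⊤).1) ≠ 0 := by
    obtain ⟨L, h, -⟩ := h1 ⊤ top_ne_bot
    generalize c ⊤ = c, e' ⊤ = e', θ ⊤ = θ at L h ⊢
    generalize Subgroup.map ψ ⊤ = Q at *
    subst hT
    exact exists_src F L h
  have h3 : ∀ S : Subgroup A, ∃ m : ℤ, S ≠ ⊥ → tau M 1 (trunc (CC (Subgroup.map ψ S)) j) (θ S).1 = m :=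
    fun S => by
      by_cases h : S = ⊥
      · exact ⟨0, fun h' => (h' h).elim⟩
      obtain ⟨m, hm⟩ := exists_nat_tau (id_trunc hM F.mx.pr.pg (h1 S h).1.sub.le (h1 S h).1.le
        hj.1).idem (char_of_irr (θ S).2)
      exact ⟨m, fun _ => hm⟩
  choose m h3 using h3
  obtain ⟨n, h4, h5, h6⟩ := exists_glue F.fr.comm hM.1 F.pg (m := m) (by
    rwa [h3 _ top_ne_bot, res_ne_zero_iff (intCast_mem_O _), v_intCast_eq_one_iff hM] at h2)
    fun S hS => by
    obtain ⟨L, g1, g2⟩ := h1 S hS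
    obtain ⟨X, g3, g4⟩ := gen_tau (id_trunc hM F.mx.pr.pg L.sub.le L.le hj.1) (L.io ι)
      (char_of_irr (θ S).2)
    refine ⟨_, g4, fun a s hs => ?_, by rw [map_one, ← h3 S hS]; rfl, fun a => ?_⟩
    · rw [g3, g3, chiL_single_mul, chiL_single_mul, map_mul, coe_mul]
      exact Finset.sum_congr rfl fun x _ => by rw [g2 _ ⟨s, hs, rfl⟩]
    · have g5 : S ⊔ zpowers a ≠ ⊥ := ne_bot_of_le_ne_bot hS le_sup_left
      rw [← h3 _ g5]
      exact lc_step F L g1 (h1 _ g5).1 (h1 _ g5).2.1 (by rw [Subgroup.map_sup, MonoidHom.map_zpowers]; rfl) hj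
  have hz : ∀ a : A, a ≠ 1 → zpowers a ≠ ⊥ := fun a ha => by simpa using ha
  choose! s h6 h7 using h6
  choose! g g1 g2 g3 g4 g5 using fun a (ha : a ≠ 1) => top_step F (h1 _ (hz a ha)).1
    (h1 _ (hz a ha)).2.1 (a := a) (MonoidHom.map_zpowers _ _)
  obtain ⟨χ, hχ, h0⟩ := exists_height_zero (p := p) (block_nonempty hM F.hB)
  obtain ⟨z, h8, h9⟩ := exists_inv_int h4 fun _ => rfl
  have hN : ¬ (p : ℤ) ∣ ∏ b, n b := fun h =>
    ((Nat.prime_iff_prime_int.1 hM.1).dvd_finset_prod_iff _).1 h |>.elim fun a ha => h5 a ha.2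
  have hn : ∀ a, (n a : ℂ) ≠ 0 := fun a => Int.cast_ne_zero.2 fun e => h5 a (by simp [e])
  have h10 : ∀ a ≠ 1, ∀ ξ : IrrCharacter G, tau M (ι a : G) j ξ.1 / n a = s a * g a ξ.1 :=
    fun a ha ξ => by
      have : (s a : ℂ) * s a = 1 := by exact_mod_cast h6 a ha
      rw [g5 a ha j hj _ (irr_classFun ξ.2), h3 _ (hz a ha), div_eq_iff (hn a), h7 a ha]
      push_cast
      linear_combination -(g a ξ.1 * m (zpowers a)) * this
  refine (exists_stable F.fr.comm hM F.pg F.not_dvd (I := IrrCharacter G)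
    (g := fun ξ a => g a ξ.1) h6 (fun ξ α hα a ha => ?_) (fun ξ a ha => g1 a ha _ (gen_of_irr ξ.2))
    (fun ξ => ?_) fun a ha => g3 a ha χ hχ h0).elim fun t ⟨h11, h12⟩ => ?_
  rotate_right
  · choose D d1 d2 d3 using h12
    refine ⟨D, F, fun ξ _ => d1 ξ, fun ξ _ => d2 ξ, fun ξ _ ζ _ a ha => ?_⟩
    have : (t a : ℂ) * t a = 1 := by exact_mod_cast h11 a ha
    rw [d3 ξ a ha, d3 ζ a ha, map_mul, map_intCast, mul_mul_mul_comm, this, one_mul]
    exact g2 a ha _ _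
  · obtain ⟨x, hx, e1⟩ := (F.aut α).1 hα
    have ha' : α a ≠ 1 := by simpa using ha
    have e2 : ∀ ξ : IrrCharacter G, g (α a) ξ.1 * (θ (zpowers (α a))).1 1 =
        g a ξ.1 * (θ (zpowers a)).1 1 := fun ξ => by
      have hs := lb_sub (p_eq hM) F.mx.pr (ι a).2
      rw [← g4 _ ha' _ (irr_classFun ξ.2), ← g4 _ ha _ (irr_classFun ξ.2), e1,
        ← eq_lb (p_eq hM) F.mx.pr (f := cjA x _) (conj_zpowers x _ ▸ hs.conj_of_stab (mem_top x)
          (mem_St.1 hx).2.1 (mem_St.1 hx).2.2),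
        tau_conj (irr_classFun ξ.2) ⟨(hs.pr F.mx.pr).fixedQ, (hs.pr F.mx.pr).blk.idem⟩]
    have e3 : ‖g (α a) χ.1‖ = ‖g a χ.1‖ := by
      have := g2 _ ha' χ.1 χ.1
      rw [cv_conj F hx e1, funext fun y => irr_classFun χ.2 y x, g2 a ha, Complex.mul_conj,
        Complex.mul_conj, Complex.normSq_eq_norm_sq, Complex.normSq_eq_norm_sq] at this
      exact (sq_eq_sq₀ (norm_nonneg _) (norm_nonneg _)).1 (by exact_mod_cast this.symm)
    have e4 := congrArg norm (e2 χ)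
    rw [norm_mul, norm_mul, e3, mul_right_inj' (norm_ne_zero_iff.2 fun e => by
      simpa [e] using g3 a ha χ hχ h0), irr_apply_one_eq (θ _).2, irr_apply_one_eq (θ _).2,
      Complex.norm_natCast, Complex.norm_natCast, Nat.cast_inj] at e4
    have := e2 ξ
    rwa [irr_apply_one_eq (θ _).2, e4, ← irr_apply_one_eq (θ _).2,
      mul_left_inj' (irr_apply_one_ne_zero (θ _).2)] at this
  · obtain ⟨-, -, e1⟩ := gen_tau hj.1 ι (char_of_irr ξ.2)
    obtain ⟨D, d1, d2, -⟩ := int_off F.fr.comm (f := fun a => tau M (ι a : G) j ξ.1 / n a)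
      (coprime_card hM.1 F.pg hN) (fun e => hN (by simp [e])) (by
        convert gen_mul e1 h8 using 1
        funext a
        rw [Pi.smul_apply, ← h9 a, smul_eq_mul, Pi.mul_apply]
        field_simp [hn a]) fun a ha => by
      rw [h10 a ha]; exact isIntegral_algebraMap.mul (g1 a ha _ (gen_of_irr ξ.2))
    exact ⟨D, d1, fun a ha => (d2 a ha).trans (h10 a ha ξ)⟩

end CA.H11Src
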