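import Cfsg.Agent.Lib.Block.BlkBas
import Cfsg.Agent.Lib.Block.BlkQuo
import Cfsg.Agent.Lib.Block.BlkZero
import Cfsg.Agent.Lib.Block.BlkKer
import Cfsg.Agent.Lib.Block.H12Cover
import Cfsg.Agent.Lib.Char.CharProd

/-!
# Blocks with defect group `D` of a group `G = D C_G(D)`
-/

set_option autoImplicit false
set_option linter.unusedSectionVars false

namespace CA.H12DC

open Cfsg MonoidAlgebra CA.BlkAlg CA.BlkVal CA.BlkOmega CA.BlkRed CA.BlkCore CA.BlkDefect CA.SylIn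
  CA.BlkHeight CA.BlkReg CA.BlkBas CA.BlkZero CA.H12PPart CA.H12Cover CChar.CharFun CChar.CharOrth
  CChar.CharInt CChar.CharKer CChar.CharProd Subgroup
open scoped ComplexConjugate

variable {p : ℕ} {M : Ideal AlgInt} {G : Type*} [Group G] [Fintype G] {D : Subgroup G}
  {B : Set (IrrCharacter G)} {χ ψ : IrrCharacter G} {g y : G}

theorem normal_of_sup (hG : D ⊔ centralizer (D : Set G) = ⊤) : D.Normal :=
  normalizer_eq_top_iff.1 (top_le_iff.1 (hG ▸ sup_le le_normalizer (centralizer_le_normalizer _)))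

theorem reg_mem [hp : Fact p.Prime] (hD : IsPGroup p D) (hG : D ⊔ centralizer (D : Set G) = ⊤)
    (hy : ¬ p ∣ orderOf y) : y ∈ centralizer (D : Set G) := by
  have := normal_of_sup hG
  refine BlkQuo.regular_mem_of_index hp.out _ ?_ hy
  obtain ⟨n, hn⟩ := IsPGroup.iff_card.1 hD
  rw [← relIndex_top_right, ← hG, relIndex_sup_right]
  obtain ⟨i, -, hi⟩ := (Nat.dvd_prime_pow hp.out).1 (hn ▸ relIndex_dvd_card _ D)
  exact ⟨i, hi⟩

theorem defect_eq [Fact p.Prime] [hN : D.Normal] (hM : IsPModular p M) (hB : IsPBlock M B)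
    (hD : IsDefectGroup p M B D) {P : Subgroup G} (hP : IsDefectGroup p M B P) : P = D := by
  obtain ⟨x, rfl⟩ := exists_conj_eq_of_isDefectGroup hM hB hD hP
  exact hN.conjAct _

theorem pPart_mem [Fact p.Prime] [D.Normal] (hM : IsPModular p M) (hB : IsPBlock M B)
    (hD : IsDefectGroup p M B D) (hψ : ψ ∈ B) (h : ψ.1 g ≠ 0) : pPart p g ∈ D := by
  obtain ⟨P, h1, h2⟩ := H12Second.exists_isDefectGroup_of_ne_zero hM hB hψ
    (isPPart_pPart hM.1 g) h
  exact defect_eq hM hB hD h1 ▸ h2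

theorem sum_eq (hp : p.Prime) (hD : IsPGroup p D) [Fintype D]
    (hC : ∀ y : G, ¬ p ∣ orderOf y → y ∈ centralizer (D : Set G)) (F : G → ℂ)
    (h : ∀ g, F g ≠ 0 → pPart p g ∈ D) :
    ∑ g, F g = ∑ x : D, ∑ y with ¬ p ∣ orderOf y, F (x * y) := by
  classical
  rw [← Finset.sum_filter_of_ne (p := fun g => pPart p g ∈ D) fun g _ => h g,
    ← Finset.sum_product']
  have h1 : ∀ (x : D) (y : G), ¬ p ∣ orderOf y → pPart p (x * y) = x ∧ pReg p (x * y) = y :=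
    fun x y hy => ⟨pPart_mul_of hp (hC y hy x x.2) (BlkQuo.orderOf_eq_pow_of_mem hp hD x.2) hy,
      pReg_mul_of hp (hC y hy x x.2) (BlkQuo.orderOf_eq_pow_of_mem hp hD x.2) hy⟩
  refine Finset.sum_bij' (fun g hg => (⟨pPart p g, (Finset.mem_filter.1 hg).2⟩, pReg p g))
    (fun a _ => a.1 * a.2) (fun g _ => by simpa using not_dvd_orderOf_pReg hp g)
    (fun a ha => ?_) (fun g _ => pPart_mul_pReg p g) (fun a ha => ?_)
    fun g _ => by simp only [pPart_mul_pReg]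
  · have := h1 a.1 a.2 (by simpa using ha)
    simp only [Finset.mem_filter, Finset.mem_univ, true_and, this.1, a.1.2]
  · have := h1 a.1 a.2 (by simpa using ha)
    exact Prod.ext (Subtype.ext this.1) this.2

theorem inner_eq (hp : p.Prime) (hD : IsPGroup p D) [Fintype D]
    (hC : ∀ y : G, ¬ p ∣ orderOf y → y ∈ centralizer (D : Set G)) {φ φ' f f' : G → ℂ}
    {ζ ζ' : D → ℂ} (h0 : ∀ g, φ g ≠ 0 → pPart p g ∈ D)
    (h : ∀ (x : D) y, ¬ p ∣ orderOf y → φ (x * y) = ζ x * f y)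
    (h' : ∀ (x : D) y, ¬ p ∣ orderOf y → φ' (x * y) = ζ' x * f' y) :
    classInner φ φ' = Nat.card D * classInner ζ ζ' * classInner (pRegularPart p f) f' := by
  classical
  rw [card_mul_inner, inner_def, inner_def, sum_eq hp hD hC _ fun g hg => h0 g (left_ne_zero_of_mul hg),
    mul_left_comm, Finset.sum_mul]
  refine congrArg _ (Finset.sum_congr rfl fun x _ => ?_)
  rw [Finset.sum_filter, Finset.mul_sum]
  refine Finset.sum_congr rfl fun y _ => ?_
  by_cases hy : p ∣ orderOf y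
  · simp [hy, pReg_of_dvd _ hy]
  · rw [if_pos hy, pReg_of_not_dvd _ hy, h x y hy, h' x y hy, map_mul]; ring

/-- a character with `D` in its kernel. -/
theorem apply_mul_of_ker (h : ∀ x ∈ D, χ.1 x = χ.1 1) (x : D) (y : G) : χ.1 (x * y) = χ.1 y :=
  by simpa using (mem_charKer (char_of_irr χ.2)).2 (h x x.2) 1 y

theorem exists_ker [Fact p.Prime] [D.Normal] (hM : IsPModular p M) (hB : IsPBlock M B)
    (hD : IsPGroup p D) : ∃ χ ∈ B, ∀ x ∈ D, χ.1 x = χ.1 1 := by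
  obtain ⟨ψ, h⟩ := BlkQuo.exists_infl_mem (QuotientGroup.mk'_surjective D) hM
    (by rwa [QuotientGroup.ker_mk']) hB
  exact ⟨_, h, fun x hx => by simp [(QuotientGroup.eq_one_iff x).2 hx]⟩

theorem fact_of_ker [hp : Fact p.Prime] [D.Normal] (hM : IsPModular p M) (hB : IsPBlock M B)
    (hD : IsDefectGroup p M B D) (hχ : χ ∈ B) (h : ∀ x ∈ D, χ.1 x = χ.1 1) :
    (charDegree χ.1).factorization p = D.index.factorization p := by
  have hs := QuotientGroup.mk'_surjective D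
  obtain ⟨ψ, rfl⟩ := (BlkQuo.exists_infl_iff hs (χ := χ)).2 fun x hx =>
    (mem_charKer (char_of_irr χ.2)).2 (h x (by rwa [QuotientGroup.ker_mk'] at hx))
  rw [BlkQuo.charDegree_infl]
  refine dz_of_vanish hp.out fun g hg => by_contra fun h1 => ?_
  obtain ⟨g, rfl⟩ := hs g
  have h2 := (QuotientGroup.eq_one_iff _).2 (pPart_mem hM hB hD hχ h1)
  rw [← QuotientGroup.mk'_apply, map_pPart hp.out, pPart_eq_one_iff hp.out] at h2
  exact h2 hg

theorem height_of_ker [hp : Fact p.Prime] [D.Normal] (hM : IsPModular p M) (hB : IsPBlock M B)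
    (hD : IsDefectGroup p M B D) (hχ : χ ∈ B) (h : ∀ x ∈ D, χ.1 x = χ.1 1) :
    blockHeight p B χ.1 = 0 := by
  rw [blockHeight_eq_zero_iff hχ, minNu_eq_index hM hB hD, fact_of_ker hM hB hD hχ h]

/-- The characters of the block. -/
theorem exists_eq [hp : Fact p.Prime] (hM : IsPModular p M) (hB : IsPBlock M B)
    (hD : IsDefectGroup p M B D) (hG : D ⊔ centralizer (D : Set G) = ⊤) (hχ : χ ∈ B)
    (h : ∀ x ∈ D, χ.1 x = χ.1 1) (hψ : ψ ∈ B) : ∃ ζ : IrrCharacter D, Over D ψ.1 ζ.1 ∧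
      ∀ (x : D) y, ¬ p ∣ orderOf y → ψ.1 (x * y) = ζ.1 x * χ.1 y := by
  have := normal_of_sup hG
  have := Fintype.ofFinite D
  have hP := isPGroup_of_isDefectGroup hD
  have hC := fun y => reg_mem (y := y) hP hG
  obtain ⟨ζ, η, hζ, hη, e⟩ := exists_irr_mul_of_commute
    (fun a ha b (hb : b ∈ centralizer (D : Set G)) => hb a ha) hG ψ.2
  obtain ⟨a, ha0, ha⟩ := irr_apply_one hζ
  have ha' : (a : ℂ) ≠ 0 := Nat.cast_ne_zero.2 ha0.ne'
  have e1 : ∀ y (hy : y ∈ centralizer (D : Set G)), ψ.1 y = a * η ⟨y, hy⟩ := fun y hy => by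
    simpa [ha] using e 1 ⟨y, hy⟩
  have e2 : ∀ (x : D) y, ¬ p ∣ orderOf y → ψ.1 (x * y) = ((a : ℂ)⁻¹ • ζ) x * ψ.1 y :=
    fun x y hy => by
      rw [e1 y (hC y hy), e x ⟨y, hC y hy⟩, Pi.smul_apply, smul_eq_mul]
      field_simp
  have h1 := inner_eq hp.out hP hC (fun g => pPart_mem hM hB hD hψ) e2 e2
  have e3 : ∀ (x : D) y, ¬ p ∣ orderOf y → χ.1 (x * y) = (fun _ => 1) x * χ.1 y :=
    fun x y _ => by rw [apply_mul_of_ker h, one_mul]
  have h2 := inner_eq hp.out hP hC (fun g => pPart_mem hM hB hD hχ) e3 e3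
  rw [inner_irr_self ψ.2, CChar.CharFun.inner_smul_left, CChar.CharFun.inner_smul_right,
    inner_irr_self hζ, map_inv₀, map_natCast] at h1
  rw [inner_irr_self χ.2, inner_one_one, mul_one] at h2
  obtain ⟨n, hn⟩ := exists_int_defect hM hB (char_of_irr χ.2) hψ
  have h3 := (v_contr_eq_iff hM hB hψ).2 ⟨hχ, height_of_ker hM hB hD hχ h⟩
  obtain ⟨y₀, hy, hy', -⟩ := exists_isDefectClass_mem_centralizer hD
  obtain ⟨d, hd⟩ := IsPGroup.iff_card.1 hP
  obtain ⟨i, -, rfl⟩ := (Nat.dvd_prime_pow hp.out).1 (hd ▸ degree_dvd_card hζ ha)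
  rw [hn] at h3
  have hn0 : n ≠ 0 := by
    rintro rfl
    exact pow_ne_zero _ (v_p_ne_zero hM) (by simpa using h3.symm)
  have h4 : (p : ℤ) ^ i ∣ n := pow_dvd_of_v_le hM (by
    rw [h3, ← v_apply_defectClass hM hB hy' hψ, e1 y₀ hy, Nat.cast_pow, ← map_pow]
    exact v_mul_le_left (isIntegral_mem (char_isIntegral (char_of_irr hη) _)))
  rw [← Nat.cast_pow, ← card_defectGroup hM hB hD] at hn
  set δ := pRegularPart p ψ.1 - (n : ℂ) • pRegularPart p χ.1 with hδ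
  have h5 : (Nat.card D : ℂ) * classInner δ δ = ((p ^ i : ℕ) : ℂ) ^ 2 - (n : ℂ) ^ 2 := by
    have h6 : ∀ θ θ' : G → ℂ, classInner (pRegularPart p θ) (pRegularPart p θ') =
        classInner (pRegularPart p θ) θ' := fun θ θ' => by rw [← inner_pReg_comm, pReg_pReg]
    simp only [hδ, CChar.CharFun.inner_sub_left, CChar.CharFun.inner_sub_right,
      CChar.CharFun.inner_smul_left, CChar.CharFun.inner_smul_right, h6, map_intCast]
    rw [inner_pReg_symm (char_of_irr ψ.2) (char_of_irr χ.2)]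
    field_simp at h1
    linear_combination -h1 - 2 * n * hn - (n : ℂ) ^ 2 * h2
  have h6 : (0 : ℝ) ≤ ((p ^ i : ℕ) : ℝ) ^ 2 - (n : ℝ) ^ 2 := by
    rw [inner_self_eq] at h5
    have h7 : (Nat.card D : ℝ) * ((Nat.card G : ℝ)⁻¹ * ∑ g, ‖δ g‖ ^ 2) =
        ((p ^ i : ℕ) : ℝ) ^ 2 - (n : ℝ) ^ 2 := by exact_mod_cast h5
    rw [← h7]; positivity
  have h7 : n ^ 2 = ((p : ℤ) ^ i) ^ 2 := le_antisymm (by exact_mod_cast sub_nonneg.1 h6)
    (Int.le_of_dvd (by positivity) (pow_dvd_pow_of_dvd h4 2))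
  have h8 : δ = 0 := inner_self_eq_zero.1 ((mul_eq_zero.1 (h5.trans (by
    rw [sub_eq_zero]; exact_mod_cast h7.symm))).resolve_left (Nat.cast_ne_zero.2 Nat.card_pos.ne'))
  have h9 : ∀ y, ¬ p ∣ orderOf y → ψ.1 y = n * χ.1 y := fun y hy => by
    have := congrFun h8 y
    rwa [hδ, Pi.sub_apply, Pi.smul_apply, pReg_of_not_dvd _ hy, pReg_of_not_dvd _ hy,
      Pi.zero_apply, sub_eq_zero] at this
  have h10 : n = (p : ℤ) ^ i := by
    refine (pow_left_inj₀ ?_ (by positivity) two_ne_zero).1 h7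
    obtain ⟨b, hb0, hb⟩ := irr_apply_one χ.2
    obtain ⟨c, -, hc⟩ := irr_apply_one ψ.2
    have := h9 1 (by simpa using hp.out.ne_one)
    rw [hb, hc] at this
    have h11 : (c : ℤ) = n * b := by exact_mod_cast this
    exact nonneg_of_mul_nonneg_left (h11 ▸ Int.natCast_nonneg c) (by exact_mod_cast hb0)
  refine ⟨⟨ζ, hζ⟩, over_iff.2 ?_, fun x y hy => ?_⟩
  · have : (fun x : D => ψ.1 x) = η 1 • ζ := funext fun x => by simpa [mul_comm] using e x 1
    rw [this, CChar.CharFun.inner_smul_left, inner_irr_self hζ, mul_one]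
    exact irr_apply_one_ne_zero hη
  · rw [e2 x y hy, h9 y hy, h10, Pi.smul_apply, smul_eq_mul]
    push_cast at ha' ⊢
    field_simp

theorem eq_of_formula (hp : p.Prime) {θ θ' f : G → ℂ} {ζ : D → ℂ}
    (h0 : ∀ g, θ g ≠ 0 → pPart p g ∈ D) (h0' : ∀ g, θ' g ≠ 0 → pPart p g ∈ D)
    (h : ∀ (x : D) y, ¬ p ∣ orderOf y → Commute (x : G) y → θ (x * y) = ζ x * f y)
    (h' : ∀ (x : D) y, ¬ p ∣ orderOf y → Commute (x : G) y → θ' (x * y) = ζ x * f y) : θ = θ' := by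
  funext g
  by_cases hg : pPart p g ∈ D
  · rw [← pPart_mul_pReg p g]
    exact (h ⟨_, hg⟩ _ (not_dvd_orderOf_pReg hp g) (commute_pPart_pReg hp g)).trans
      (h' ⟨_, hg⟩ _ (not_dvd_orderOf_pReg hp g) (commute_pPart_pReg hp g)).symm
  · rw [by_contra fun e => hg (h0 g e), by_contra fun e => hg (h0' g e)]

theorem eq_of_over (hp : p.Prime) {θ : G → ℂ} {ζ ζ' : IrrCharacter D} (h : Over D θ ζ'.1)
    (h' : ∀ (x : D) y, ¬ p ∣ orderOf y → θ (x * y) = ζ.1 x * χ.1 y) : ζ = ζ' := by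
  have := Fintype.ofFinite D
  have e : (fun x : D => θ x) = χ.1 1 • ζ.1 := funext fun x => by
    simpa [mul_comm] using h' x 1 (by simpa using hp.ne_one)
  rw [over_iff, e, CChar.CharFun.inner_smul_left] at h
  exact Subtype.ext (irr_eq_of_inner_ne_zero ζ.2 ζ'.2 (right_ne_zero_of_mul h))

theorem exists_mem [hp : Fact p.Prime] (hM : IsPModular p M) (hB : IsPBlock M B)
    (hD : IsDefectGroup p M B D) (hG : D ⊔ centralizer (D : Set G) = ⊤) (hχ : χ ∈ B)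
    (h : ∀ x ∈ D, χ.1 x = χ.1 1) (ζ : IrrCharacter D) : ∃ ψ ∈ B,
      ∀ (x : D) y, ¬ p ∣ orderOf y → ψ.1 (x * y) = ζ.1 x * χ.1 y := by
  have := normal_of_sup hG
  obtain ⟨θ, h1⟩ := exists_under D χ
  obtain ⟨ψ, h2, h3⟩ := exists_over_of_cov hM (b := blockOf M ζ.1) ⟨ζ, rfl⟩ (isSat_of_isPBlock hM hB)
    ⟨χ, hχ, θ, BlkKer.sameBlock_of_isPGroup hM (isPGroup_of_isDefectGroup hD) ζ θ, h1⟩
    (self_mem_blockOf hM ζ)
  obtain ⟨ζ', -, h4⟩ := exists_eq hM hB hD hG hχ h h2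
  exact ⟨ψ, h2, eq_of_over hp.out h3 h4 ▸ h4⟩

theorem card_eq [hp : Fact p.Prime] (hM : IsPModular p M) (hB : IsPBlock M B)
    (hD : IsDefectGroup p M B D) (hG : D ⊔ centralizer (D : Set G) = ⊤) :
    Nat.card B = Nat.card (IrrCharacter D) := by
  have := normal_of_sup hG
  obtain ⟨χ, hχ, h⟩ := exists_ker hM hB (isPGroup_of_isDefectGroup hD)
  choose f h1 h2 using fun ψ : B => exists_eq hM hB hD hG hχ h ψ.2
  refine Nat.card_eq_of_bijective f ⟨fun ψ ψ' e => Subtype.ext (Subtype.ext (eq_of_formula hp.out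
    (fun g => pPart_mem hM hB hD ψ.2) (fun g => pPart_mem hM hB hD ψ'.2)
    (fun x y hy _ => h2 ψ x y hy) fun x y hy _ => e ▸ h2 ψ' x y hy)), fun ζ => ?_⟩
  obtain ⟨ψ, h3, h4⟩ := exists_mem hM hB hD hG hχ h ζ
  exact ⟨⟨ψ, h3⟩, (eq_of_over hp.out (h1 ⟨ψ, h3⟩) h4).symm⟩

theorem ker_unique [hp : Fact p.Prime] (hM : IsPModular p M) (hB : IsPBlock M B)
    (hD : IsDefectGroup p M B D) (hG : D ⊔ centralizer (D : Set G) = ⊤) (hχ : χ ∈ B)
    (h : ∀ x ∈ D, χ.1 x = χ.1 1) (hψ : ψ ∈ B) (h' : ∀ x ∈ D, ψ.1 x = ψ.1 1) : ψ = χ := by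
  have := normal_of_sup hG
  have := Fintype.ofFinite D
  obtain ⟨ζ, h1, h2⟩ := exists_eq hM hB hD hG hχ h hψ
  have e : irrOne D = ζ := eq_of_over (χ := ψ) hp.out h1 fun x y _ => by
    rw [apply_mul_of_ker h']; exact (one_mul _).symm
  subst e
  exact Subtype.ext (eq_of_formula hp.out (fun g => pPart_mem hM hB hD hψ)
    (fun g => pPart_mem hM hB hD hχ) (fun x y hy _ => h2 x y hy) fun x y _ _ => by
      rw [apply_mul_of_ker h]; exact (one_mul _).symm)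

theorem blockRank_eq [hp : Fact p.Prime] (hM : IsPModular p M) (hB : IsPBlock M B)
    (hD : IsDefectGroup p M B D) (hG : D ⊔ centralizer (D : Set G) = ⊤) : blockRank p B = 1 := by
  have := normal_of_sup hG
  obtain ⟨χ, hχ, h⟩ := exists_ker hM hB (isPGroup_of_isDefectGroup hD)
  have h1 : ¬ p ∣ orderOf (1 : G) := by simpa using hp.out.ne_one
  have h0 : pRegularPart p χ.1 ≠ 0 := fun e => irr_apply_one_ne_zero χ.2 (by
    rw [← pReg_of_not_dvd χ.1 h1, e]; rfl)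
  rw [← finrank_span_singleton (K := ℂ) h0]
  refine congrArg (fun S : Submodule ℂ (G → ℂ) => Module.finrank ℂ S) (le_antisymm
    (Submodule.span_le.2 ?_) (Submodule.span_mono (Set.singleton_subset_iff.2 ⟨χ, hχ, rfl⟩)))
  rintro _ ⟨ψ, hψ, rfl⟩
  obtain ⟨ζ, -, h2⟩ := exists_eq hM hB hD hG hχ h hψ
  refine Submodule.mem_span_singleton.2 ⟨ζ.1 1, funext fun y => ?_⟩
  by_cases hy : p ∣ orderOf y
  · simp [pReg_of_dvd _ hy]
  · simpa [pReg_of_not_dvd _ hy] using (h2 1 y hy).symm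

/-- heights in such a block. -/
theorem exists_height [hp : Fact p.Prime] (hM : IsPModular p M) (hB : IsPBlock M B)
    (hD : IsDefectGroup p M B D) (hG : D ⊔ centralizer (D : Set G) = ⊤) (hψ : ψ ∈ B) :
    ∃ ζ : IrrCharacter D, Over D ψ.1 ζ.1 ∧ (charDegree ψ.1).factorization p =
      (charDegree ζ.1).factorization p + D.index.factorization p := by
  have := normal_of_sup hG
  obtain ⟨χ, hχ, h⟩ := exists_ker hM hB (isPGroup_of_isDefectGroup hD)
  obtain ⟨ζ, h1, h2⟩ := exists_eq hM hB hD hG hχ h hψ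
  refine ⟨ζ, h1, ?_⟩
  have h3 := h2 1 1 (by simpa using hp.out.ne_one)
  rw [← fact_of_ker hM hB hD hχ h, ← v_p_pow_inj hM, pow_add, ← v_irr_one hM, ← v_irr_one hM,
    ← v_irr_one hM, ← map_mul, ← h3]
  simp

end CA.H12DC
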