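import Mathlib
import Cfsg.Agent.Lib.Block.H28M11b

/-! Coordinates on twelve points for a simple group of order 95040. -/

set_option autoImplicit false

namespace CA.H7M12

open Subgroup CA.H28Syl CA.H28M11 CA.H28Coord CA.NatBits CA.CGroup

variable {G : Type*} [Group G] [Finite G] [IsSimpleGroup G]

def yy (i : ℕ) : ℕ := ap 4 cY i

noncomputable def mkV (s r a b : ℕ) : ℕ := mkD 4 12 fun i => [s, a, b, yy a, yy (yy (yy (yy a))),
  yy (yy (yy a)), yy b, yy (yy b), yy (yy (yy (yy b))), yy (yy a), yy (yy (yy b)), r].getD i 0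

theorem eq_mkV {c : ℕ} {σ τ : Equiv.Perm (Fin 12)} (hc : G12.R c σ) (hy : G12.R cY τ)
    (h : σ * τ = τ * σ) : c = mkV (ap 4 c 0) (ap 4 c 11) (ap 4 c 1) (ap 4 c 2) ∧
      ∀ i < 12, ap 4 c (ap 4 cY i) = yy (ap 4 c i) := by
  have h1 : comp 4 12 c cY = comp 4 12 cY c := r_uniq (r_mul hc hy) (h ▸ r_mul hy hc)
  have h2 : ∀ i < 12, ap 4 c (ap 4 cY i) = yy (ap 4 c i) := fun i hi => by
    rw [← ap_comp 4 12 c cY hi, h1, ap_comp _ _ _ _ hi, yy]
  refine ⟨?_, h2⟩
  have e1 : ap 4 c 3 = _ := h2 1 (by decide)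
  have e3 : ap 4 c 9 = _ := h2 3 (by decide)
  have e9 : ap 4 c 5 = _ := h2 9 (by decide)
  have e5 : ap 4 c 4 = _ := h2 5 (by decide)
  have e2 : ap 4 c 6 = _ := h2 2 (by decide)
  have e6 : ap 4 c 7 = _ := h2 6 (by decide)
  have e7 : ap 4 c 10 = _ := h2 7 (by decide)
  have e10 : ap 4 c 8 = _ := h2 10 (by decide)
  rw [mkV, ← e1, ← e3, ← e9, ← e5, ← e2, ← e6, ← e7, ← e10]
  refine (Nat.mod_eq_of_lt hc.1).symm.trans (mkD_ap.symm.trans (mkD_congr fun i hi => ?_))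
  interval_cases i <;> rfl

noncomputable def okT (w : ℕ) : Bool :=
  Nat.beq (pw12 w 10) (idP 4 12) || force (pw12 w 12) fun a => force (pw12 a 12) fun b =>
    force (pw12 b 12) fun c => Nat.beq (pw12 c 11) (idP 4 12)

omit [Finite G] [IsSimpleGroup G] in
theorem okT_of (h : ∀ g : G, g ^ 10 = 1 ∨ g ^ 19008 = 1) (φ : G →* Equiv.Perm (Fin 12)) {c : ℕ}
    {g : G} (hc : G12.R c (φ g)) : okT c = true := by
  simp only [okT, fe, Bool.or_eq_true, beq_iff]
  rcases h g with e | e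
  · exact Or.inl (pw12_eq hc (by rw [← map_pow, e, map_one]))
  · exact Or.inr (pw12_eq (r_pow (r_pow (r_pow hc 12) 12) 12) (by
      rw [← pow_mul, ← pow_mul, ← pow_mul, ← map_pow, e, map_one]))

def cW : ℕ := 0xb7482a359610
def cV : ℕ := 0x461597a238b

theorem keyW : allLt 12 (fun a => allLt 12 fun b => force (mkU 0 11 a b) fun c =>
    !(allLt 11 fun k => force (comp 4 12 c (pw12 cX k)) okT) ||
    !(allLt 5 fun i => force (comp 4 12 c (pw12 cY i)) fun d => !(Nat.beq d cW ||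
      Nat.beq (conjP 4 12 cN d) cW))) = true := by decide +kernel

theorem keyV : allLt 2 (fun s => allLt 12 fun a => allLt 12 fun b =>
    force (mkV (11 * s) (11 - 11 * s) a b) fun c =>
    !(Nat.beq (comp 4 12 c c) (idP 4 12)) || Nat.beq c (idP 4 12) ||
    !(allLt 11 fun k => force (comp 4 12 (comp 4 12 c (pw12 cX k)) (comp 4 12 cW cX)) okT) ||
    Nat.beq c cV) = true := by decide +kernel

omit [IsSimpleGroup G] in
theorem step (h : ∀ g : G, g ^ 10 = 1 ∨ g ^ 19008 = 1) {φ : G →* Equiv.Perm (Fin 12)}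
    (hφ : Function.Injective φ) {x y w u : G} (rx : G12.R cX (φ x)) (ry : G12.R cY (φ y))
    (rw' : G12.R cW (φ w)) (hu : u * y = y * u) (h2 : u * u = 1) (h1 : u ≠ 1)
    (ht : closure {g | g ∈ [x, y, w, u]} = ⊤) : φ.range = G12.gen [cX, cY, cW, cV] := by
  obtain ⟨c, hc⟩ := exists_rep12 (φ u)
  obtain ⟨e1, e2⟩ := eq_mkV hc ry (by rw [← map_mul, ← map_mul, hu])
  have k : ∀ i < 12, i = yy i → i = 0 ∨ i = 11 := by decide +kernel
  have a1 := k _ (r_lt hc (by decide)) (e2 11 (by decide))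
  have a0 := k _ (r_lt hc (by decide)) (e2 0 (by decide))
  have a2 : ap 4 c 0 ≠ ap 4 c 11 := fun e =>
    absurd (r_inj hc (by decide) (by decide) e) (by decide)
  obtain ⟨s, hs, s0, s1⟩ : ∃ s < 2, ap 4 c 0 = 11 * s ∧ ap 4 c 11 = 11 - 11 * s := by
    rcases a0 with e | e
    · exact ⟨0, by decide, e, a1.resolve_left fun e' => a2 (e.trans e'.symm)⟩
    · exact ⟨1, by decide, e, a1.resolve_right fun e' => a2 (e.trans e'.symm)⟩
  have h4 := allLt_iff.1 (allLt_iff.1 (allLt_iff.1 keyV s hs) _ (r_lt hc (i := 1) (by decide))) _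
    (r_lt hc (i := 2) (by decide))
  rw [s0, s1] at e1
  have h0 : (allLt 11 fun k => okT (comp 4 12 (comp 4 12 c (pw12 cX k)) (comp 4 12 cW cX))) =
      true := allLt_iff.2 fun k _ => okT_of h φ (g := u * x ^ k * (w * x)) (by
    rw [map_mul, map_mul, map_mul, map_pow]; exact r_mul (r_mul hc (r_pow rx k)) (r_mul rw' rx))
  have h5 : Nat.beq (comp 4 12 c c) (idP 4 12) = true := beq_iff.2 (r_uniq (r_mul hc hc) (by
    rw [← map_mul, h2, map_one]; exact G12.R_one))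
  have h6 : Nat.beq c (idP 4 12) = false := by
    rw [Bool.eq_false_iff]
    intro e
    exact h1 (hφ ((G12.R_fun (r_of_eq hc (beq_iff.1 e)) G12.R_one).trans (map_one φ).symm))
  simp only [fe, ← e1, h0, h5, h6, Bool.not_true, Bool.false_or, beq_iff] at h4
  exact range_eq G12 φ (.cons rx (.cons ry (.cons rw' (.cons (r_of_eq hc h4) .nil)))) ht

theorem ident (h : ∀ g : G, g ^ 10 = 1 ∨ g ^ 19008 = 1) {x y w u : G} {H : Subgroup G}
    (hx : orderOf x = 11) (hy : y * x * y⁻¹ = x ^ 3) (hw : w * y * w⁻¹ = y ^ 2)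
    (hu : u * y = y * u) (h2 : u * u = 1) (h1 : u ≠ 1) (m1 : x ∈ H) (m2 : y ∈ H) (m3 : w ∈ H)
    (hH : H.index = 12) (hL : ∀ L : Subgroup G, x ∈ L → y ∈ L → w ∈ L → u ∈ L → L = ⊤) :
    ∃ φ : G →* Equiv.Perm (Fin 12), Function.Injective φ ∧ φ.range = G12.gen [cX, cY, cW, cV] := by
  obtain ⟨φ, g1, g2, g3⟩ := coords (p := 11) hH hx m1 m2 hy (by decide)
  have rx := rep_x ((g2 x).2 m1) fun i hi => (g3 i hi).1
  have ry := rep_y ((g2 y).2 m2) fun i hi => (g3 i hi).2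
  obtain ⟨c, hc⟩ := exists_rep12 (φ w)
  obtain ⟨e1, e2⟩ := eq_mkU hc ry (by rw [← map_inv, ← map_mul, ← map_mul, hw, map_pow])
  have k : ∀ i < 12, i = zz i → i = 0 ∨ i = 11 := by decide +kernel
  have a1 : ap 4 c 11 = 11 := (r_val hc 11).symm.trans (congrArg Fin.val ((g2 w).2 m3))
  have a0 : ap 4 c 0 = 0 := (k _ (r_lt hc (by decide)) (e2 0 (by decide))).resolve_right
    fun e => absurd (r_inj hc (by decide) (by decide) (e.trans a1.symm)) (by decide)
  have h4 := allLt_iff.1 (allLt_iff.1 keyW _ (r_lt hc (i := 1) (by decide))) _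
    (r_lt hc (i := 2) (by decide))
  rw [a0, a1] at e1
  have h0 : (allLt 11 fun k => okT (comp 4 12 c (pw12 cX k))) = true :=
    allLt_iff.2 fun k _ => okT_of h φ (g := w * x ^ k) (by
      rw [map_mul, map_pow]; exact r_mul hc (r_pow rx k))
  simp only [fe, ← e1, h0] at h4
  simp only [Bool.not_true, Bool.false_or, Bool.not_eq_true', Bool.eq_false_iff, ne_eq, allLt_iff,
    not_forall, not_not, Bool.or_eq_true, beq_iff] at h4
  obtain ⟨i, -, h4⟩ := h4
  have h5 : G12.R (comp 4 12 c (pw12 cY i)) (φ (w * y ^ i)) := by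
    rw [map_mul, map_pow]; exact r_mul hc (r_pow ry i)
  have h6 : ∀ x' : G, x' = x ∨ x' = x⁻¹ → closure {g | g ∈ [x', y, w * y ^ i, u]} = ⊤ :=
    fun x' e => by
    have m : y ∈ closure {g | g ∈ [x', y, w * y ^ i, u]} := subset_closure (by simp)
    refine hL _ ?_ m ((mul_mem_cancel_right (pow_mem m i)).1 (subset_closure (by simp)))
      (subset_closure (by simp))
    rcases e with rfl | rfl
    · exact subset_closure (by simp)
    · exact inv_mem_iff.1 (subset_closure (by simp))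
  rcases h4 with h4 | h4
  · exact ⟨φ, g1, step h g1 rx ry (r_of_eq h5 h4) hu h2 h1 (h6 x (Or.inl rfl))⟩
  · obtain ⟨ν, hν⟩ := r_valid (a := cN) (by decide +kernel)
    have h7 : ∀ {d : ℕ} {g : G}, G12.R d (φ g) →
        G12.R (conjP 4 12 cN d) (((MulAut.conj ν).toMonoidHom.comp φ) g) := fun e =>
      r_conj hν e
    have h8 : Function.Injective ((MulAut.conj ν).toMonoidHom.comp φ) :=
      (MulAut.conj ν).injective.comp g1
    exact ⟨_, h8, step h h8 (r_of_eq (h7 (map_inv φ x ▸ r_inv rx)) (by decide +kernel))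
      (r_of_eq (h7 ry) (by decide +kernel)) (r_of_eq (h7 h5) h4) hu h2 h1 (h6 x⁻¹ (Or.inr rfl))⟩

end CA.H7M12
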