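import Mathlib
import Cfsg.Agent.Lib.Block.H28M11b
import Cfsg.Agent.Lib.Char.CharProd
import Cfsg.Agent.S4710

/-! General tools for the identification of the simple group of order 95040. -/

set_option autoImplicit false

namespace CA.H7M12

open Cfsg Finset Subgroup CA.H28Syl CA.H28SC CA.H28Prin CA.H28Sol CA.H28Trick CA.H28Br2 CA.H28BT
open CChar.CharRep CChar.CharFun CChar.CharOrth CChar.CharInt CChar.CharKer CA.H28Simp
open CA.H28M11 CA.BlkCore CA.BlkVal CA.H28Syl2
open scoped ComplexConjugate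

variable {G : Type*} [Group G] [Finite G]

theorem av_mono {χ : G → ℂ} (hχ : IsCharacter G χ) {A B : Subgroup G} (h : A ≤ B) {a b : ℕ}
    (ha : av χ A = a) (hb : av χ B = b) : b ≤ a := by
  obtain ⟨n, ρ, rfl⟩ := hχ
  rw [av_rep, Nat.cast_inj] at ha hb
  subst ha hb
  exact Submodule.finrank_mono fun v hv g => hv ⟨g, h g.2⟩

theorem tri {χ : G → ℂ} (hχ : IsCharacter G χ) {A B D K : Subgroup G} (hA : D ≤ A) (hB : D ≤ B)
    (hK : K ≤ A ⊔ B) {a b d k : ℕ} (ha : av χ A = a) (hb : av χ B = b) (hd : av χ D = d)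
    (hk : av χ K = k) : a + b ≤ k + d := by
  obtain ⟨c, hc⟩ := exists_av hχ (A ⊔ B)
  have := trick hχ hA hB ha hb hc hd
  have := av_mono hχ hK hk hc
  omega

theorem inv_val' [IsSimpleGroup G] (hG : ¬ IsMulCommutative G) {χ : IrrCharacter G} {n : ℕ}
    (hn : charDegree χ.1 = n) (h1 : n ≠ 1) {t : G} (ht : orderOf t = 2) :
    ∃ a : ℤ, χ.1 t = a ∧ ((n : ℤ) - a) % 4 = 0 ∧ -(n : ℤ) < a ∧ a < n := by
  have ht' : t * t = 1 := by rw [← pow_two, ← ht, pow_orderOf_eq_one]
  have hne : χ ≠ irrOne G := fun e => h1 (by rw [← hn, e, degree_one])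
  have h0 : t ≠ 1 := fun e => by rw [e, orderOf_one] at ht; omega
  obtain ⟨k, h2, h3⟩ := inv_val (perfect hG) (char_of_irr χ.2) ht'
  rw [hn] at h2 h3
  have key : ‖χ.1 t‖ ≠ ‖χ.1 1‖ := fun e => by
    have := (mem_charCenter (char_of_irr χ.2)).2 e
    rw [charCenter_eq_center χ.2 (charKer_eq_bot_of_simple χ.2 fun e => hne (Subtype.ext e)),
      center_eq_bot hG, mem_bot] at this
    exact h0 this
  rw [h3, irr_apply_one_eq χ.2, hn] at key
  refine ⟨_, h3, by omega, ?_, ?_⟩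
  · by_contra h4
    refine key ?_
    rw [show ((n : ℤ) - 4 * k) = -n by omega]; simp
  · by_contra h4
    refine key ?_
    rw [show ((n : ℤ) - 4 * k) = n by omega]; simp

theorem ms4 (s : Multiset ℂ) (h : ∀ ω ∈ s, ω ^ 4 = 1) : ∃ a b c d : ℕ,
    s = Multiset.replicate a 1 + Multiset.replicate b Complex.I + Multiset.replicate c (-1) +
      Multiset.replicate d (-Complex.I) := by
  induction s using Multiset.induction_on with
  | empty => exact ⟨0, 0, 0, 0, by simp⟩
  | cons ω s ih =>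
    obtain ⟨a, b, c, d, e⟩ := ih fun z hz => h z (Multiset.mem_cons_of_mem hz)
    have h1 := h ω (Multiset.mem_cons_self _ _)
    have h2 : (ω - 1) * (ω - Complex.I) * (ω + 1) * (ω + Complex.I) = 0 := by
      linear_combination h1 - (ω ^ 2 - 1) * Complex.I_sq
    simp only [mul_eq_zero, sub_eq_zero, add_eq_zero_iff_eq_neg] at h2
    rcases h2 with ((rfl | rfl) | rfl) | rfl
    · exact ⟨a + 1, b, c, d, by rw [e, Multiset.replicate_succ]; simp only [Multiset.cons_add]⟩
    · exact ⟨a, b + 1, c, d, by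
        rw [e, Multiset.replicate_succ]; simp only [Multiset.cons_add, Multiset.add_cons]⟩
    · exact ⟨a, b, c + 1, d, by
        rw [e, Multiset.replicate_succ]; simp only [Multiset.cons_add, Multiset.add_cons]⟩
    · exact ⟨a, b, c, d + 1, by
        rw [e, Multiset.replicate_succ]; simp only [Multiset.cons_add, Multiset.add_cons]⟩

/-- Values at real elements of order dividing 4. -/
theorem mod8 (hG : commutator G = ⊤) {χ : G → ℂ} (hχ : IsCharacter G χ) {g : G} (hg : g ^ 4 = 1)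
    (hr : conj (χ g) = χ g) {n s : ℤ} (h1 : χ 1 = n) (h2 : χ (g ^ 2) = s) :
    ∃ a : ℤ, χ g = a ∧ (n - 2 * a + s) % 8 = 0 := by
  obtain ⟨ω, h3, h4⟩ := char_exists_pow_eq_sum hχ (char_apply_one_eq hχ) g
  obtain ⟨a, b, c, d, e⟩ := ms4 (Finset.univ.val.map ω) fun z hz => by
    obtain ⟨i, -, rfl⟩ := Multiset.mem_map.1 hz
    obtain ⟨k, hk⟩ := orderOf_dvd_of_pow_eq_one hg
    rw [hk, pow_mul, h3, one_pow]
  have h5 : ∀ k : ℕ, χ (g ^ k) = ((Finset.univ.val.map ω).map (· ^ k)).sum := fun k => by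
    rw [h4, Multiset.map_map]; rfl
  have h6 := CA.H28Sv.prod_eq_one hG hχ g _ h5
  rw [e] at h5 h6
  simp only [Multiset.map_add, Multiset.map_replicate, Multiset.sum_add, Multiset.sum_replicate,
    nsmul_eq_mul, Multiset.prod_add, Multiset.prod_replicate] at h5 h6
  have e0 := h5 0
  have e1 := h5 1
  have e2 := h5 2
  simp only [pow_zero, pow_one, mul_one, one_pow, neg_sq, Complex.I_sq] at e0 e1 e2 h6
  have hbd : b = d := by
    have := congrArg Complex.im hr
    rw [e1] at this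
    simp at this
    have h7 : (b : ℝ) = d := by linarith
    exact_mod_cast h7
  subst hbd
  have h8 : (-1 : ℂ) ^ c = 1 := by
    have h9 : Complex.I ^ b * (-Complex.I) ^ b = 1 := by rw [← mul_pow]; simp
    linear_combination h6 - (-1 : ℂ) ^ c * h9
  obtain ⟨k, hk⟩ := (neg_one_pow_eq_one_iff_even (by norm_num)).1 h8
  refine ⟨a - c, by rw [e1]; push_cast; ring, ?_⟩
  have f0 : n = a + b + c + b := by rw [h1] at e0; exact_mod_cast e0
  have f2 : s = a - b + c - b := by
    rw [h2] at e2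
    have : (s : ℂ) = ((a - b + c - b : ℤ) : ℂ) := by rw [e2]; push_cast; ring
    exact_mod_cast this
  omega

variable {p : ℕ} [hp : Fact p.Prime] {x : G}

instance fact3 : Fact (Nat.Prime 3) := ⟨by norm_num⟩

def bt3ok (L : List ℤ) : Bool :=
  L.sublists.any fun T => T.all (fun z => z % 9 != 0) && (1 + T.sum) % 27 == 0

theorem not_nine (hn : Nat.card G = 95040) {M : Ideal AlgInt} (hM : IsPModular 3 M)
    {χ : IrrCharacter G} (hχ : χ ∈ principalBlock M G) : ¬ 9 ∣ charDegree χ.1 := by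
  have hA : IsPBlock M (principalBlock M G) := isPBlock_principalBlock
  have h1 : irrOne G ∈ principalBlock M G := self_mem_blockOf hM (irrOne G)
  have h2 : CA.BlkHeight.minNu 3 (principalBlock M G) = 0 := by
    have := CA.BlkHeight.minNu_le (p := 3) h1
    rw [degree_one] at this
    simpa using this
  have h3 : (Nat.card G).factorization 3 = 3 := by
    rw [hn, show 95040 = 3 ^ 3 * 3520 by norm_num, Nat.factorization_mul (by norm_num) (by norm_num),
      Nat.Prime.factorization_pow (by norm_num)]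
    simp [Nat.factorization_eq_zero_of_not_dvd (show ¬ 3 ∣ 3520 by norm_num)]
  have h4 := ((Cfsg.Agent.S4710.result 3 M hM _ hA 3 (by
    rw [CA.BlkHeight.blockDefect_eq, h2, h3])).2 χ hχ).2 (by norm_num)
  have h5 := CA.BlkHeight.blockHeight_add_minNu (p := 3) hχ
  intro h6
  have := (Nat.prime_three.pow_dvd_iff_le_factorization (charDegree_pos χ.2).ne').1
    (show 3 ^ 2 ∣ _ from h6)
  omega

theorem bt3 {d : P1 p x} {s : Pat} {l : List (IrrCharacter G)} (H : Has d s l) (h : IsSylGen p x)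
    (hn : Nat.card G = 95040) (h3 : 3 ≠ p) (hv : ¬ 3 ∣ Nat.card (VV p x)) :
    bt3ok (-s.2.2.1 :: s.2.2.2) = true := by
  classical
  obtain ⟨M, hM⟩ := exists_isPModular (p := 3) (by norm_num)
  obtain ⟨ψ, hψ⟩ := d.Y_nonempty
  have hA : IsPBlock M (principalBlock M G) := isPBlock_principalBlock
  obtain ⟨Q⟩ : Nonempty (Sylow 3 G) := inferInstance
  have key := bt d (CA.H28Sv.no_of_not_dvd h Nat.prime_three h3 hv) hM hA hψ Q.isPGroup'
  rw [card_sylow_of (a := 3) (m := 3520) (by rw [hn]; norm_num) (by norm_num) Q, Finset.sum_filter,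
    H.sum, if_pos (show irrOne G ∈ principalBlock M G from self_mem_blockOf hM (irrOne G)), d.ε_one, degree_one] at key
  have hT : ((l.filter (· ∈ principalBlock M G)).map fun ζ => d.ε ζ * (charDegree ζ.1 : ℤ)).Sublist
      s.2.2.2 := H.deg ▸ List.filter_sublist.map _
  have hS : (l.map fun ζ => if ζ ∈ principalBlock M G then d.ε ζ * (charDegree ζ.1 : ℤ) else 0).sum =
      ((l.filter (· ∈ principalBlock M G)).map fun ζ => d.ε ζ * (charDegree ζ.1 : ℤ)).sum := by
    clear hT key H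
    induction l with
    | nil => rfl
    | cons a l ih => by_cases e : a ∈ principalBlock M G <;> simp [e, ih]
  have h9 : ∀ z ∈ (l.filter (· ∈ principalBlock M G)).map fun ζ => d.ε ζ * (charDegree ζ.1 : ℤ),
      z % 9 ≠ 0 := fun z hz => by
    obtain ⟨ζ, h1, rfl⟩ := List.mem_map.1 hz
    obtain ⟨h1, h2⟩ := List.mem_filter.1 h1
    have := not_nine hn hM (of_decide_eq_true h2)
    rcases d.hε ζ (H.mem' h1) with e | e <;> rw [e] <;> omega
  rw [hS] at key
  simp only [bt3ok, List.any_eq_true, List.mem_sublists, Bool.and_eq_true, List.all_eq_true,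
    bne_iff_ne, beq_iff_eq]
  by_cases e : ψ ∈ principalBlock M G
  · refine ⟨_, hT.cons₂ _, fun z hz => ?_, ?_⟩
    · rcases List.mem_cons.1 hz with rfl | hz
      · have := not_nine hn hM e
        rw [← H.degY ψ hψ]
        rcases d.hδ with e | e <;> rw [e] <;> omega
      · exact h9 z hz
    · rw [if_pos e, H.degY ψ hψ] at key
      rw [List.sum_cons]
      push_cast at key
      omega
  · refine ⟨_, hT.cons _, h9, ?_⟩
    rw [if_neg e] at key
    push_cast at key
    omega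

theorem card_inf_NN (h : IsSylGen p x) {H : Subgroup G} (hx : x ∈ H) :
    ∃ r, Nat.card H = Nat.card ↥(NN x ⊓ H) * r ∧ r % p = 1 := by
  have h1 := (CA.H28Br6.isSylGen_subgroup h hx).card_sylow
  have h2 : zpowers (⟨x, hx⟩ : H) = (zpowers x).subgroupOf H := by
    ext g
    exact ⟨fun ⟨k, hk⟩ => ⟨k, congrArg Subtype.val hk⟩, fun ⟨k, hk⟩ => ⟨k, Subtype.ext hk⟩⟩
  rw [NN, h2, ← subgroupOf_normalizer_eq (zpowers_le.2 hx)] at h1
  refine ⟨Nat.card (Sylow p H), ?_, ?_⟩
  · rw [h1, ← Nat.card_congr (subgroupOfEquivOfLe (inf_le_right (a := NN x))).toEquiv,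
      inf_subgroupOf_right, card_mul_index]
  · rw [card_sylow_modEq_one p H, Nat.mod_eq_of_lt hp.out.one_lt]

theorem perm_ne_33 {α : Type*} [Fintype α] [DecidableEq α] (h : Fintype.card α = 12)
    (σ : Equiv.Perm α) : orderOf σ ≠ 33 := fun e => by
  have h1 : ∀ q, q.Prime → q ∣ 33 → ∃ a ∈ σ.cycleType, q ∣ a := fun q hq hd => by
    rw [← e, ← Equiv.Perm.lcm_cycleType] at hd
    exact hq.prime.exists_mem_multiset_dvd (hd.trans (Multiset.lcm_dvd.2 fun b hb =>
      Multiset.dvd_prod hb))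
  obtain ⟨a, ha, h2⟩ := h1 11 (by norm_num) (by norm_num)
  obtain ⟨b, hb, h3⟩ := h1 3 (by norm_num) (by norm_num)
  have h4 := σ.sum_cycleType_le
  have h5 := Equiv.Perm.two_le_of_mem_cycleType ha
  have h6 := Equiv.Perm.two_le_of_mem_cycleType hb
  have h7 := Multiset.le_sum_of_mem ha
  have hab : b ≠ a := by rintro rfl; omega
  obtain ⟨s, hs⟩ := Multiset.exists_cons_of_mem ha
  rw [hs] at hb h4
  have h8 := Multiset.le_sum_of_mem ((Multiset.mem_cons.1 hb).resolve_left hab)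
  rw [Multiset.sum_cons] at h4
  omega

/-! ### An element `y` of order five -/

variable {y u g : G} {χ : G → ℂ}

theorem sum_y (hy : orderOf y = 5) {f : G → ℂ} {c : ℂ} (hc : ∀ j : ZMod 5, j ≠ 0 → f (xp y j) = c) :
    ∑ j : ZMod 5, f (xp y j) = f 1 + 4 * c := by
  rw [sum_xp_const hc]; norm_num

theorem av_y (hy : orderOf y = 5) {c : ℂ} (hc : ∀ j : ZMod 5, j ≠ 0 → χ (xp y j) = c) :
    av χ (zpowers y) = (χ 1 + 4 * c) / 5 := by
  rw [av_zpowers hy, sum_y hy hc]; push_cast; ring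

theorem eq_one_of_mem (hy : orderOf y = 5) (hg : ¬ 5 ∣ orderOf g) {i : ℕ} (hi : g ^ i ∈ zpowers y) :
    g ^ i = 1 := by
  have h1 := orderOf_dvd_of_mem_zpowers hi
  rw [hy] at h1
  rcases (Nat.dvd_prime (by norm_num)).1 h1 with e | e
  · exact orderOf_eq_one_iff.1 e
  · exact absurd (e ▸ orderOf_pow_dvd i) hg

theorem av_yu (hy : orderOf y = 5) (hu : orderOf u = 2) (hc : u ∈ CC y) {c c' : ℂ}
    (h1 : ∀ j : ZMod 5, j ≠ 0 → χ (xp y j) = c) (h2 : ∀ j : ZMod 5, j ≠ 0 → χ (xp y j * u) = c') :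
    av χ (zpowers y ⊔ zpowers u) = (χ 1 + 4 * c + χ u + 4 * c') / 10 := by
  rw [av_sup' hy (CC_le_NN y hc) fun i hi => eq_one_of_mem hy (by rw [hu]; norm_num) hi, hu,
    sum_range_succ, sum_range_one]
  simp only [pow_zero, one_mul, pow_one]
  rw [sum_y hy h1, sum_y hy (f := fun k => χ (u * k)) (c := c') fun j hj => by
    rw [← (commute_xp hc j).eq]; exact h2 j hj]
  push_cast; simp only [mul_one]; ring

theorem mem_NN_of_pow (hy : orderOf y = 5) {a : ℕ} (h : g * y * g⁻¹ = y ^ a) : g ∈ NN y :=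
  mem_NN_of_conj hy one_ne_zero (by rw [xp_one hy, h]; exact pow_mem (mem_zpowers y) a)

theorem inv_eq_pow (hy : orderOf y = 5) : y⁻¹ = y ^ 4 := by
  rw [inv_eq_iff_mul_eq_one, ← pow_succ']; exact orderOf_dvd_iff_pow_eq_one.1 hy.dvd

theorem av_yt (hχ : IsClassFunction G χ) (hy : orderOf y = 5) (ht : orderOf g = 2)
    (hi : g * y * g⁻¹ = y⁻¹) {c : ℂ} (h1 : ∀ j : ZMod 5, j ≠ 0 → χ (xp y j) = c) :
    av χ (zpowers y ⊔ zpowers g) = (χ 1 + 4 * c + 5 * χ g) / 10 := by
  rw [inv_eq_pow hy] at hi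
  rw [av_sup hy (mem_NN_of_pow hy hi) (fun i h => ?_) hχ (m := 1) ht, sum_y hy h1, sum_range_one]
  · push_cast; simp only [zero_add, pow_one]; ring
  · have := pow_eq_of_CC hy hi h
    rw [← orderOf_dvd_iff_pow_eq_one] at this ⊢
    rwa [ht, ← show orderOf ((4 : ℕ) : ZMod 5) = 2 from orderOf_eq_prime (by decide) (by decide)]

theorem av_yw (hχ : IsCharacter G χ) (hy : orderOf y = 5) (hw : orderOf g = 4)
    (hi : g * y * g⁻¹ = y ^ 2) (hr : conj (χ g) = χ g) {c : ℂ}
    (h1 : ∀ j : ZMod 5, j ≠ 0 → χ (xp y j) = c) :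
    av χ (zpowers y ⊔ zpowers g) = (χ 1 + 4 * c + 10 * χ g + 5 * χ (g ^ 2)) / 20 := by
  have h3 : g ^ 3 = g⁻¹ := by
    rw [eq_inv_iff_mul_eq_one, ← pow_succ]; exact orderOf_dvd_iff_pow_eq_one.1 hw.dvd
  rw [av_sup hy (mem_NN_of_pow hy hi) (fun i h => ?_) (char_classFun hχ) (m := 3) hw, sum_y hy h1,
    sum_range_succ, sum_range_succ, sum_range_one]
  · simp only [zero_add, pow_one, Nat.reduceAdd]
    rw [h3, char_apply_inv hχ, hr]
    push_cast; ring
  · have := pow_eq_of_CC hy hi h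
    rw [← orderOf_dvd_iff_pow_eq_one] at this ⊢
    rwa [hw, ← show orderOf ((2 : ℕ) : ZMod 5) = 4 from orderOf_eq_prime_pow (p := 2) (n := 1)
      (by decide) (by decide)]

/-- An involution `b` inverting `y * u` inverts `y`. -/
theorem inverts_of (hy : orderOf y = 5) (hu : u * u = 1) (hc : u ∈ CC y) {b : G}
    (h : b * (y * u) * b⁻¹ = (y * u)⁻¹) : b * y * b⁻¹ = y⁻¹ := by
  have h1 : (y * u) ^ 6 = y := by
    have h5 : y ^ 5 = 1 := hy ▸ pow_orderOf_eq_one y
    rw [(mem_CC_iff_commute.1 hc).symm.mul_pow, pow_succ y 5, h5, one_mul,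
      show 6 = 2 * 3 from rfl, pow_mul, pow_two, hu]
    simp
  rw [← h1, ← conj_pow, h, inv_pow]

end CA.H7M12
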