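import Mathlib
import Cfsg.Agent.Lib.Block.H7M12a

/-! The principal 11-block and 5-block of a simple group of order 95040. -/

set_option autoImplicit false

namespace CA.H7M12

open Cfsg Finset Subgroup CA.H28Syl CA.H28SC CA.H28Prin CA.H28Sol CA.H28Trick CA.H28Br2 CA.H28BT
open CChar.CharRep CChar.CharFun CChar.CharOrth CChar.CharInt CChar.CharKer CA.H28Simp
open CA.H28M11 CA.BlkCore CA.BlkVal CA.H28Syl2 CA.H28Blk
open scoped ComplexConjugate

variable {G : Type*} [Group G] [Finite G]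

theorem split_sum {L : List (IrrCharacter G)} (hL : L.Nodup) (F : IrrCharacter G → ℂ)
    (h : ∀ χ, χ ∉ L → F χ = 0) : ∑ χ, F χ = (L.map F).sum := by
  classical
  rw [← List.sum_toFinset F hL]
  exact (Finset.sum_subset (subset_univ _) fun χ _ e => h χ (by simpa using e)).symm

/-- The class equation for products of two conjugate involutions at a non-real element. -/
theorem inv_eq {p : ℕ} [Fact p.Prime] {x : G} (d : P1 p x) (h : SC p x) (hr : ¬ IsConj x x⁻¹)
    {ψ : IrrCharacter G} (hψ : ψ ∈ d.Y) {t : G} (ht : orderOf t = 2) (hp : 2 < p) :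
    ∑ χ ∈ d.X, d.ε χ * χ.1 t ^ 2 / charDegree χ.1 = d.δ * ψ.1 t ^ 2 / charDegree ψ.1 := by
  classical
  have ht' : t * t = 1 := by rw [← pow_two, ← ht, pow_orderOf_eq_one]
  have h1 := inv_count ht' x
  rw [card_inv_zero ht' hr, Nat.cast_zero, zero_mul, eq_comm, mul_eq_zero,
    or_iff_right card_ne_zero, ← Finset.sum_subset (subset_univ (d.X ∪ d.Y)) fun χ _ e => by
      rw [apply_eq_zero_of_dvd h.isSylGen χ.2 (by
        by_contra e'
        exact e (mem_union.2 ((d.mem_iff_not_dvd h.isSylGen h.VV_eq_bot χ).2 e'))) h.ord.symm.dvd]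
      simp, sum_union d.disj, Finset.sum_congr rfl (s₁ := d.X)
      (g := fun χ => d.ε χ * χ.1 t ^ 2 / charDegree χ.1) fun χ e => by
        rw [d.valX' h.isSylGen e h.ord.symm.dvd, map_intCast, mul_comm],
    Finset.sum_congr rfl (s₁ := d.Y)
      (g := fun χ => ψ.1 t ^ 2 / charDegree ψ.1 * conj (χ.1 x)) fun χ e => by
        rw [d.Y_agree e hψ (not_dvd_of_two ht hp), d.deg_Y_eq e hψ]; ring,
    ← Finset.mul_sum, ← map_sum, d.sum_Y' h.isSylGen h.ord.symm.dvd] at h1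
  simp only [map_neg, map_intCast] at h1
  linear_combination h1

variable [IsSimpleGroup G]

theorem nc (h : Nat.card G = 95040) : ¬ IsMulCommutative G :=
  not_comm_of_card (by rw [h]; norm_num)

theorem no144 (h : Nat.card G = 95040) {x : G} (hx : IsSylGen 11 x)
    (hN : Nat.card (Sylow 11 G) = 144) (hV : Nat.card (VV 11 x) = 6) : False := by
  obtain ⟨r, hr, r1, r2⟩ := exists_mul_VV hx Nat.prime_three (by rw [hV]; norm_num)
  have h1 : ((zpowers r).subgroupOf (VV 11 x)).index = 2 := by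
    have := card_mul_index ((zpowers r).subgroupOf (VV 11 x))
    rw [Nat.card_congr (subgroupOfEquivOfLe (zpowers_le.2 hr)).toEquiv, Nat.card_zpowers, r1,
      hV] at this
    omega
  have h2 : NN x ≤ normalizer (zpowers r : Set G) := fun n hn => by
    refine mem_normalizer_fintype fun g hg => ?_
    obtain ⟨k, rfl⟩ := mem_powers_iff_mem_zpowers.2 hg
    simp only [← conj_pow]
    refine pow_mem ?_ k
    have h3 : (n * r * n⁻¹) ^ 3 = 1 := by
      rw [conj_pow, ← r1, pow_orderOf_eq_one]; simp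
    have h4 : (n * r * n⁻¹) ^ 2 ∈ zpowers r :=
      sq_mem_of_index_two h1 ⟨_, conj_mem_VV hx hn hr⟩
    have h5 := pow_mem h4 2
    rwa [← pow_mul, show 2 * 2 = 3 + 1 from rfl, pow_succ, h3, one_mul] at h5
  have h3 : Nat.card (NN x) = 660 := by
    have := card_mul_index (NN x)
    rw [← hx.card_sylow, hN, h] at this
    omega
  obtain ⟨m, h4, h5⟩ := card_of_NN_le hx h2
  have h6 := card_mul_index (normalizer (zpowers r : Set G))
  have h7 : 3 ^ (1 + 1) ∣ Nat.card (normalizer (zpowers r : Set G)) :=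
    Sylow.prime_pow_dvd_card_normalizer (by rw [h]; norm_num) (by rw [Nat.card_zpowers, r1]; rfl)
  have h8 : normalizer (zpowers r : Set G) ≠ ⊤ := normalizer_ne_top (fun e => by
    rw [zpowers_eq_bot.1 e, orderOf_one] at r1; omega) fun e => by
      have := Nat.card_zpowers r
      rw [e, card_top, h, r1] at this; omega
  rw [h3] at h4
  rw [h4, h] at h6
  have h9 : m ∣ 144 := ⟨_, Nat.eq_of_mul_eq_mul_left (show 0 < 660 by norm_num)
    (by rw [← mul_assoc, h6])⟩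
  have h10 : m = 1 ∨ m = 12 ∨ m = 144 := by
    have := Nat.le_of_dvd (by decide) h9
    interval_cases m <;> omega
  rcases h10 with rfl | rfl | rfl
  · rw [h4] at h7; norm_num at h7
  · obtain ⟨f, hf⟩ := embed_alt (nc h) _ h8
    refine perm_ne_33 (by rw [Fintype.card_fin]; omega) (f (x * r)).1 ?_
    rw [Subgroup.orderOf_coe, orderOf_injective f hf, r2]
  · exact h8 (eq_top_of_card_eq _ (h4.trans h.symm))

def S11 : List Pat := [(144, 10, 32, [-32, -32, -32, -32, 45, 45, 45, -120, 144]),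
  (144, 10, 32, [-32, 45, 45, 45, -120, -120, -120, 144, 144]),
  (144, 10, -45, [-32, -32, -32, -32, -32, 45, 45, -120, 144]),
  (144, 10, -45, [-32, -32, 45, 45, -120, -120, -120, 144, 144]),
  (144, 10, 120, [-32, -32, -32, -32, -32, 45, 45, 45, 144]),
  (144, 10, 120, [-32, -32, 45, 45, 45, -120, -120, 144, 144]),
  (144, 10, -144, [-32, -32, -32, -32, -32, 45, 45, 45, -120]),
  (144, 10, -144, [-32, -32, 45, 45, 45, -120, -120, -120, 144]),
  (1728, 5, 16, [45, -54, -120, 144]), (1728, 5, 27, [-10, 12, 12, 12]),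
  (1728, 5, 27, [-10, 12, -120, 144]), (1728, 5, 27, [-10, 45, 45, -54]),
  (1728, 5, 27, [-10, -54, -54, 144]), (1728, 5, 27, [-32, -32, 45, 45]),
  (1728, 5, 27, [-32, -32, -54, 144]), (1728, 5, 60, [-10, 12, 12, 45]),
  (1728, 5, 60, [-10, 45, -120, 144]), (1728, 5, -72, [-10, 12, 45, -120]),
  (1728, 5, -72, [-10, 45, -54, -54]), (1728, 5, -72, [-32, -32, 45, -54]),
  (1728, 5, -160, [-32, 45, -54, -120])]

theorem blk11a (h : Nat.card G = 95040) {x : G} (hx : IsSylGen 11 x) (d : P1 11 x) :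
    SC 11 x ∧ ee x = 5 ∧ ∃ l, Has d (1728, 5, 16, [45, -54, -120, 144]) l ∨
      Has d (1728, 5, 27, [-10, 12, 12, 12]) l ∨ Has d (1728, 5, 60, [-10, 45, -120, 144]) l := by
  obtain ⟨s, hs, l, H⟩ := has_of_check (nc h) hx d (S := S11) (al := fun _ => true) (B := 309) h
    (fun _ _ => rfl) (by decide +kernel)
  have key : ∀ s ∈ S11, (s.1 = 144 ∧ s.2.1 = 10) ∨ (s.1 = 1728 ∧ s.2.1 = 5 ∧
      (bt3ok (-s.2.2.1 :: s.2.2.2) = true → s = (1728, 5, 16, [45, -54, -120, 144]) ∨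
      s = (1728, 5, 27, [-10, 12, 12, 12]) ∨ s = (1728, 5, 60, [-10, 45, -120, 144]))) := by
    decide +kernel
  have h1 := H.card_VV hx
  rcases key s hs with ⟨e1, e2⟩ | ⟨e1, e2, e3⟩
  · rw [e1, e2, h] at h1
    exact (no144 h hx (H.syl.trans e1) (by omega)).elim
  · have h2 := H.sc hx (by rw [e1, e2, h])
    refine ⟨h2, H.ee_eq.trans e2, l, ?_⟩
    rcases e3 (bt3 H hx h (by norm_num) (by rw [h2.VV_eq_bot, card_bot]; norm_num))
      with rfl | rfl | rfl
    exacts [Or.inl H, Or.inr (Or.inl H), Or.inr (Or.inr H)]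

theorem sc11 (h : Nat.card G = 95040) {x : G} (hx : orderOf x = 11) : SC 11 x ∧ ee x = 5 := by
  have h1 := isSylGen_of_not_sq_dvd hx (by rw [h]; decide)
  obtain ⟨d⟩ := exists_P1 h1
  exact ⟨(blk11a h h1 d).1, (blk11a h h1 d).2.1⟩

theorem not_real (h : Nat.card G = 95040) {x : G} (hx : orderOf x = 11) : ¬ IsConj x x⁻¹ := by
  have := isConj_xp_iff hx (a := 1) (b := -1) one_ne_zero
  rw [xp_neg hx, xp_one hx, (sc11 h hx).2] at this
  rw [this]; decide

def S5 (N : ℕ) : List Pat := [(N, 4, -11, [16, 16, -44]), (N, 4, -11, [-44, -144, 176]),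
  (N, 4, -11, [66, 66, -144]), (N, 4, -16, [11, 16, -44]), (N, 4, -16, [16, 66, -99]),
  (N, 4, 44, [11, 16, 16]), (N, 4, 44, [11, -144, 176]), (N, 4, -66, [11, 66, -144]),
  (N, 4, -66, [16, 16, -99]), (N, 4, -66, [-99, -144, 176]), (N, 4, 99, [16, 16, 66]),
  (N, 4, 99, [66, -144, 176]), (N, 4, 144, [11, -44, 176]), (N, 4, 144, [11, 66, 66]),
  (N, 4, 144, [66, -99, 176]), (N, 4, -176, [11, -44, -144]), (N, 4, -176, [66, -99, -144])]

theorem blk5a (h : Nat.card G = 95040) (hal : ∀ χ : IrrCharacter G, ¬ 11 ∣ charDegree χ.1 →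
    charDegree χ.1 ∈ [1, 10, 16, 45, 54, 60, 120, 144]) {y : G} (hy : IsSylGen 5 y) (d : P1 5 y) :
    ee y = 4 ∧ (Nat.card (VV 5 y) = 12 ∨ Nat.card (VV 5 y) = 2 ∧ ∃ sg l,
      Full d [11, 16, 16, -44] sg l ∨ Full d [66, -99, -144, 176] sg l) := by
  obtain ⟨s, hs, l, H⟩ := has_of_check (nc h) hy d (S := S5 396 ++ S5 2376) (B := 309)
    (al := fun z => z % 11 == 0 || [1, 10, 16, 45, 54, 60, 120, 144].contains z) h
    (fun χ _ => by
      by_cases e : 11 ∣ charDegree χ.1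
      · simp [Nat.mod_eq_zero_of_dvd e]
      · simp only [Bool.or_eq_true, List.contains_iff_mem]; exact Or.inr (hal χ e))
    (by decide +kernel)
  have key : ∀ s ∈ S5 396 ++ S5 2376, s.2.1 = 4 ∧ (s.1 = 396 ∨ s.1 = 2376 ∧
      (bt3ok (-s.2.2.1 :: s.2.2.2) = true → [11, 16, 16, -44].Perm (-s.2.2.1 :: s.2.2.2) ∨
      [66, -99, -144, 176].Perm (-s.2.2.1 :: s.2.2.2))) := by
    decide +kernel
  have h1 := H.card_VV hy
  obtain ⟨e1, e2 | ⟨e2, e3⟩⟩ := key s hs
  · rw [e1, e2, h] at h1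
    exact ⟨H.ee_eq.trans e1, Or.inl (by omega)⟩
  · rw [e1, e2, h] at h1
    have h2 : Nat.card (VV 5 y) = 2 := by omega
    refine ⟨H.ee_eq.trans e1, Or.inr ⟨h2, ?_⟩⟩
    rcases e3 (bt3 H hy h (by norm_num) (by rw [h2]; norm_num)) with e | e
    · obtain ⟨sg, l', F⟩ := H.full hy e1 e
      exact ⟨sg, l', Or.inl F⟩
    · obtain ⟨sg, l', F⟩ := H.full hy e1 e
      exact ⟨sg, l', Or.inr F⟩

omit [IsSimpleGroup G] in
theorem deg_mem {p : ℕ} [Fact p.Prime] {x : G} {d : P1 p x} {s : Pat} {l : List (IrrCharacter G)}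
    (H : Has d s l) (h : SC p x) {L : List ℕ} (h1 : 1 ∈ L) (h2 : s.2.2.1.natAbs ∈ L)
    (h3 : ∀ z ∈ s.2.2.2, z.natAbs ∈ L) (χ : IrrCharacter G) (hχ : ¬ p ∣ charDegree χ.1) :
    charDegree χ.1 ∈ L := by
  rcases (d.mem_iff_not_dvd h.isSylGen h.VV_eq_bot χ).2 hχ with e | e
  · rcases List.mem_cons.1 ((H.mem χ).1 e) with rfl | e'
    · rwa [degree_one]
    · have := h3 _ (H.deg ▸ List.mem_map_of_mem e')
      rcases d.hε χ e with e | e <;> simpa [e] using this
  · rw [← H.degY χ e] at h2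
    rcases d.hδ with e | e <;> simpa [e] using h2

omit [IsSimpleGroup G] in
theorem mod5 {χ : IrrCharacter G} {y u : G} (hy : orderOf y = 5) (hu : orderOf u = 2)
    (hc : u ∈ CC y) {c c' a : ℤ} {n : ℕ} (hn : charDegree χ.1 = n) (ha : χ.1 u = a)
    (h1 : ∀ j : ZMod 5, j ≠ 0 → χ.1 (xp y j) = c)
    (h2 : ∀ j : ZMod 5, j ≠ 0 → χ.1 (xp y j * u) = c') : (n + 4 * c + a + 4 * c') % 10 = 0 := by
  obtain ⟨k, hk⟩ := exists_av (char_of_irr χ.2) (zpowers y ⊔ zpowers u)
  rw [av_yu hy hu hc h1 h2, irr_apply_one_eq χ.2, hn, ha, div_eq_iff (by norm_num)] at hk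
  have : (n + 4 * c + a + 4 * c' : ℤ) = k * 10 := by exact_mod_cast hk
  omega

structure T11 (a b c f ψ ψ' : IrrCharacter G) : Prop where
  nodup : [irrOne G, a, b, c, f, ψ, ψ'].Nodup
  da : charDegree a.1 = 45
  db : charDegree b.1 = 54
  dc : charDegree c.1 = 120
  df : charDegree f.1 = 144
  dψ : charDegree ψ.1 = 16
  dψ' : charDegree ψ'.1 = 16
  mem : ∀ χ : IrrCharacter G, ¬ 11 ∣ charDegree χ.1 ↔ χ ∈ [irrOne G, a, b, c, f, ψ, ψ']
  rel : ∀ g, ¬ 11 ∣ orderOf g → ψ.1 g = 1 + a.1 g - b.1 g - c.1 g + f.1 g ∧ ψ'.1 g = ψ.1 g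
  val : ∀ g, 11 ∣ orderOf g → a.1 g = 1 ∧ b.1 g = -1 ∧ c.1 g = -1 ∧ f.1 g = 1 ∧
    ψ.1 g + ψ'.1 g = -1
  inv : ∀ t, orderOf t = 2 → 2160 + 48 * a.1 t ^ 2 - 40 * b.1 t ^ 2 - 18 * c.1 t ^ 2 +
    15 * f.1 t ^ 2 - 135 * ψ.1 t ^ 2 = 0

theorem exists_T11 (h : Nat.card G = 95040) : ∃ a b c f ψ ψ' : IrrCharacter G,
    T11 a b c f ψ ψ' := by
  classical
  obtain ⟨x, hx⟩ := exists_isSylGen (G := G) (p := 11) (by rw [h]; decide) (by rw [h]; decide)
  obtain ⟨d⟩ := exists_P1 hx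
  obtain ⟨hs, -, l, H | H | H⟩ := blk11a h hx d
  · have h1 := H.deg
    simp only [List.map_eq_cons_iff, List.map_eq_nil_iff] at h1
    obtain ⟨a, _, rfl, ha, b, _, rfl, hb, c, _, rfl, hc, f, _, rfl, hf, rfl⟩ := h1
    obtain ⟨a1, a2⟩ := H.pos (z := 45) (by simp) ha
    obtain ⟨b1, b2⟩ := H.neg (z := 54) (by simp) hb
    obtain ⟨c1, c2⟩ := H.neg (z := 120) (by simp) hc
    obtain ⟨f1, f2⟩ := H.pos (z := 144) (by simp) hf
    obtain ⟨y1, y2⟩ := H.posY (z := 16) rfl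
    have h2 := d.card_Y
    rw [H.ee_eq] at h2
    obtain ⟨ψ, ψ', hne, hY⟩ := card_eq_two.1 h2
    have m1 : ψ ∈ d.Y := by simp [hY]
    have m2 : ψ' ∈ d.Y := by simp [hY]
    refine ⟨a, b, c, f, ψ, ψ', ?_, a2, b2, c2, f2, y2 ψ m1, y2 ψ' m2, fun χ => ?_, fun g hg => ?_,
      fun g hg => ?_, fun t ht => ?_⟩
    · refine List.Nodup.append (l₁ := [irrOne G, a, b, c, f]) H.nodup (by simp [hne]) ?_
      intro χ h1 h2
      exact Finset.disjoint_left.1 d.disj ((H.mem χ).2 h1) (by simpa [hY] using h2)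
    · rw [← d.mem_iff_not_dvd hx hs.VV_eq_bot, H.mem, hY]
      simp [or_assoc]
    · have := H.rel m1 hg
      simp only [List.map_cons, List.map_nil, List.sum_cons, List.sum_nil, a1, b1, c1, f1, y1] at this
      exact ⟨by push_cast at this; linear_combination this, d.Y_agree m2 m1 hg⟩
    · have := d.sum_Y' hx hg
      rw [hY, sum_pair hne, y1] at this
      refine ⟨?_, ?_, ?_, ?_, by simpa using this⟩
      · simpa [a1] using d.valX' hx (H.mem' (χ := a) (by simp)) hg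
      · simpa [b1] using d.valX' hx (H.mem' (χ := b) (by simp)) hg
      · simpa [c1] using d.valX' hx (H.mem' (χ := c) (by simp)) hg
      · simpa [f1] using d.valX' hx (H.mem' (χ := f) (by simp)) hg
    · have := inv_eq d hs (not_real h hx.ord) m1 ht (by norm_num)
      rw [H.sum] at this
      simp only [List.map_cons, List.map_nil, List.sum_cons, List.sum_nil, a1, b1, c1, f1, y1, a2,
        b2, c2, f2, y2 ψ m1, d.ε_one, degree_one, irrOne_apply] at this
      push_cast at this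
      linear_combination 2160 * this
  · exfalso
    have h1 := H.deg
    simp only [List.map_eq_cons_iff, List.map_eq_nil_iff] at h1
    obtain ⟨a, _, rfl, ha, b, _, rfl, hb, c, _, rfl, hc, f, _, rfl, hf, rfl⟩ := h1
    obtain ⟨a1, a2⟩ := H.neg (z := 10) (by simp) ha
    obtain ⟨b1, b2⟩ := H.pos (z := 12) (by simp) hb
    obtain ⟨c1, c2⟩ := H.pos (z := 12) (by simp) hc
    obtain ⟨f1, f2⟩ := H.pos (z := 12) (by simp) hf
    obtain ⟨y1, y2⟩ := H.posY (z := 27) rfl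
    obtain ⟨ψ, m1⟩ := d.Y_nonempty
    obtain ⟨t, ht⟩ := exists_prime_orderOf_dvd_card' (G := G) 2 (by rw [h]; decide)
    obtain ⟨a', a3, a4, a5, a6⟩ := inv_val' (nc h) a2 (by norm_num) ht
    obtain ⟨b', b3, -⟩ := inv_val' (nc h) b2 (by norm_num) ht
    obtain ⟨c', c3, -⟩ := inv_val' (nc h) c2 (by norm_num) ht
    obtain ⟨f', f3, -⟩ := inv_val' (nc h) f2 (by norm_num) ht
    obtain ⟨y', y3, -⟩ := inv_val' (nc h) (y2 ψ m1) (by norm_num) ht
    have := inv_eq d hs (not_real h hx.ord) m1 ht (by norm_num)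
    rw [H.sum] at this
    simp only [List.map_cons, List.map_nil, List.sum_cons, List.sum_nil, a1, b1, c1, f1, y1, a2,
      b2, c2, f2, y2 ψ m1, d.ε_one, degree_one, irrOne_apply, a3, b3, c3, f3, y3] at this
    have h2 : 54 * a' ^ 2 = 5 * (108 + 9 * (b' ^ 2 + c' ^ 2 + f' ^ 2) - 4 * y' ^ 2) := by
      refine Int.cast_injective (α := ℂ) ?_
      push_cast at this ⊢
      linear_combination -540 * this
    push_cast at a4 a5 a6
    interval_cases a' <;> omega
  · exfalso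
    have hal := deg_mem H hs (L := [1, 10, 16, 45, 54, 60, 120, 144]) (by simp) (by simp) (by simp)
    have h1 := H.deg
    simp only [List.map_eq_cons_iff] at h1
    obtain ⟨a, _, rfl, ha, -⟩ := h1
    obtain ⟨-, a2⟩ := H.neg (z := 10) (by simp) ha
    obtain ⟨y, hy⟩ := exists_isSylGen (G := G) (p := 5) (by rw [h]; decide) (by rw [h]; decide)
    obtain ⟨d'⟩ := exists_P1 hy
    obtain ⟨u, hu, u1, -⟩ := exists_mul_VV hy Nat.prime_two (by
      rcases (blk5a h hal hy d').2 with e | ⟨e, -⟩ <;> rw [e] <;> norm_num)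
    obtain ⟨a', a3, a4, a5, a6⟩ := inv_val' (nc h) a2 (by norm_num) u1
    have := mod5 hy.ord u1 (hy.VV_le hu) (c := 0) (c' := 0) a2 a3
      (fun j hj => by
        rw [vanish' hy (by rw [a2]; norm_num) (orderOf_xp hy.ord hj).symm.dvd, Int.cast_zero])
      (fun j hj => by
        rw [vanish' hy (by rw [a2]; norm_num) (hy.dvd_orderOf_xp_mul hj hu), Int.cast_zero])
    omega

end CA.H7M12
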