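import Mathlib
import Cfsg.Agent.Lib.Block.H7M12b

/-! Elements of order 5 and 10 in a simple group of order 95040. -/

set_option autoImplicit false

namespace CA.H7M12

open Cfsg Finset Subgroup CA.H28Syl CA.H28SC CA.H28Prin CA.H28Sol CA.H28Trick CA.H28Br2 CA.H28BT
open CChar.CharRep CChar.CharFun CChar.CharOrth CChar.CharInt CChar.CharKer CA.H28Simp
open CA.H28M11 CA.BlkCore CA.BlkVal CA.H28Syl2 CA.H28Blk
open scoped ComplexConjugate

variable {G : Type*} [Group G] [Finite G] {x y u : G}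

theorem val_y (hy : orderOf y = 5) (he : ee y = 4) {χ : G → ℂ} (hχ : IsClassFunction G χ)
    {j : ZMod 5} (hj : j ≠ 0) : χ (xp y j) = χ y := by
  have := (isConj_xp_iff hy (a := j) (b := 1) hj).2 (by rw [he]; revert j; decide)
  rw [xp_one hy] at this
  exact classFun_of_isConj hχ this

theorem int_y (hy : orderOf y = 5) (he : ee y = 4) (χ : IrrCharacter G) :
    ∃ c : ℤ, χ.1 y = c ∧ (charDegree χ.1 + 4 * c) % 5 = 0 := by
  obtain ⟨k, hk⟩ := exists_av (char_of_irr χ.2) (zpowers y)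
  rw [av_y hy fun j hj => val_y hy he (irr_classFun χ.2) hj, irr_apply_one_eq χ.2,
    div_eq_iff (by norm_num)] at hk
  have h1 : χ.1 y = (((5 * k - charDegree χ.1 : ℚ) / 4 : ℚ) : ℂ) := by
    push_cast; linear_combination hk / 4
  obtain ⟨c, hc⟩ := exists_int_of_rat_isIntegral (h1 ▸ char_isIntegral (char_of_irr χ.2) y)
  refine ⟨c, h1.trans hc, ?_⟩
  rw [h1.trans hc] at hk
  have : (charDegree χ.1 + 4 * c : ℤ) = k * 5 := by exact_mod_cast hk
  omega

theorem av_xy (hx : SC 11 x) (hy : orderOf y = 5) (h1 : y ∈ NN x)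
    (h4 : ∀ i : ℕ, y ^ i ∈ CC x → y ^ i = 1) {χ : G → ℂ} (hχ : IsClassFunction G χ) {e c : ℂ}
    (he : ∀ g, 11 ∣ orderOf g → χ g = e) (hc : ∀ j : ZMod 5, j ≠ 0 → χ (xp y j) = c) :
    av χ (zpowers x ⊔ zpowers y) = (χ 1 + 10 * e + 44 * c) / 55 := by
  rw [av_sup hx.ord h1 h4 hχ (m := 4) hy, sum_xp_const fun j hj => he _
    (orderOf_xp hx.ord hj).symm.dvd, Finset.sum_congr rfl (g := fun _ => c) fun i hi => by
      rw [← xp_natCast hy]
      refine hc _ ?_
      have := mem_range.1 hi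
      interval_cases i <;> decide]
  simp only [sum_const, card_range, nsmul_eq_mul]
  push_cast; ring

structure Ctx (x y u : G) : Prop where
  sx : SC 11 x
  ex : ee x = 5
  hy : orderOf y = 5
  yN : y ∈ NN x
  yx : y * x * y⁻¹ = x ^ 3
  yC : ∀ i : ℕ, y ^ i ∈ CC x → y ^ i = 1
  gen : zpowers x ⊔ zpowers y = NN x
  sy : IsSylGen 5 y
  ey : ee y = 4
  hu : orderOf u = 2
  uV : ∀ v, v ∈ VV 5 y ↔ v = 1 ∨ v = u

namespace Ctx

theorem uC (C : Ctx x y u) : u ∈ CC y := C.sy.VV_le ((C.uV u).2 (Or.inr rfl))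

theorem uu (C : Ctx x y u) : u * u = 1 := by rw [← pow_two, ← C.hu, pow_orderOf_eq_one]

theorem u1 (C : Ctx x y u) : u ≠ 1 := fun e => by
  have := C.hu; rw [e, orderOf_one] at this; omega

theorem dvd_yu (C : Ctx x y u) {j : ZMod 5} (hj : j ≠ 0) : 5 ∣ orderOf (xp y j * u) :=
  C.sy.dvd_orderOf_xp_mul hj ((C.uV u).2 (Or.inr rfl))

theorem dvd_yu' (C : Ctx x y u) : 5 ∣ orderOf (y * u) := by
  simpa [xp_one C.hy] using C.dvd_yu one_ne_zero

theorem neg (C : Ctx x y u) {d : P1 5 y} {L : List ℤ} {sg : IrrCharacter G → ℤ}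
    {l : List (IrrCharacter G)} (F : Full d L sg l) {χ : IrrCharacter G}
    (hχ : χ ∉ irrOne G :: l) {j : ZMod 5} (hj : j ≠ 0) : χ.1 (xp y j * u) = -χ.1 y := by
  classical
  have h1 := d.sum_eq_zero (fun e => hχ ((F.mem χ).1 (Or.inl e)))
    (fun e => hχ ((F.mem χ).1 (Or.inr e))) hj
  have h2 : (univ : Finset (VV 5 y)) = {1, ⟨u, (C.uV u).2 (Or.inr rfl)⟩} :=
    Finset.ext fun v => iff_of_true (mem_univ _) (mem_insert.2
      (((C.uV v).1 v.2).imp Subtype.ext fun e => mem_singleton.2 (Subtype.ext e)))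
  rw [h2, sum_pair fun e => C.u1 (congrArg Subtype.val e).symm] at h1
  simp only [OneMemClass.coe_one, mul_one] at h1
  rw [val_y C.hy C.ey (irr_classFun χ.2) hj] at h1
  linear_combination h1

theorem exists_inv (C : Ctx x y u) {d : P1 5 y} {L : List ℤ} {sg : IrrCharacter G → ℤ}
    {l : List (IrrCharacter G)} (F : Full d L sg l) {t : G} (ht : t * t = 1)
    (h : 1 + (l.map fun χ => (sg χ : ℂ) * χ.1 t ^ 2 / charDegree χ.1).sum ≠ 0) :
    ∃ b, IsConj t b ∧ b * y * b⁻¹ = y⁻¹ := by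
  by_contra hc
  push Not at hc
  have e1 : IsEmpty {a : G // IsConj t a ∧ IsConj t (a * y)} :=
    ⟨fun a => hc a.1 a.2.1 (conj_eq_inv ht a.2.1 a.2.2).2⟩
  have e2 : IsEmpty {a : G // IsConj t a ∧ IsConj t (a * (y * u))} :=
    ⟨fun a => hc a.1 a.2.1 (inverts_of C.hy C.uu C.uC (conj_eq_inv ht a.2.1 a.2.2).2)⟩
  have h1 := inv_count ht y
  have h2 := inv_count ht (y * u)
  rw [Nat.card_of_isEmpty, Nat.cast_zero, zero_mul, eq_comm, mul_eq_zero,
    or_iff_right card_ne_zero] at h1 h2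
  have h3 := congrArg₂ (· + ·) h1 h2
  simp only [← Finset.sum_add_distrib] at h3
  rw [split_sum F.nodup _ fun χ e => by
    have := C.neg F e one_ne_zero
    rw [xp_one C.hy] at this
    rw [this, map_neg]; ring, List.map_cons, List.sum_cons, List.map_congr_left
      (g := fun χ => 2 * ((sg χ : ℂ) * χ.1 t ^ 2 / charDegree χ.1)) fun χ e => by
        rw [F.val χ e y C.hy.symm.dvd, F.val χ e _ C.dvd_yu', map_intCast]; ring,
    List.sum_map_mul_left] at h3
  simp only [irrOne_apply, degree_one, map_one] at h3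
  push_cast at h3
  exact h (by linear_combination h3 / 2)

theorem card_CC (C : Ctx x y u) : Nat.card (CC y) = 10 := by
  classical
  have := Fintype.ofFinite (VV 5 y)
  have h2 : (univ : Finset (VV 5 y)) = {1, ⟨u, (C.uV u).2 (Or.inr rfl)⟩} :=
    Finset.ext fun v => iff_of_true (mem_univ _) (mem_insert.2
      (((C.uV v).1 v.2).imp Subtype.ext fun e => mem_singleton.2 (Subtype.ext e)))
  rw [C.sy.card_CC, Nat.card_eq_fintype_card, ← card_univ, h2,
    card_pair fun e => C.u1 (congrArg Subtype.val e).symm]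

theorem comm (C : Ctx x y u) {n : G} (hn : n ∈ NN y) : n * u = u * n := by
  rcases (C.uV _).1 (conj_mem_VV C.sy hn ((C.uV u).2 (Or.inr rfl))) with e | e
  · exact absurd (by simpa using e) C.u1
  · exact mul_inv_eq_iff_eq_mul.1 e

theorem of_inv (C : Ctx x y u) {t a : G} (ht : t * y * t⁻¹ = y⁻¹) (ha : a * y * a⁻¹ = y⁻¹) :
    ∃ j : ZMod 5, a = t * xp y j ∨ a = t * u * xp y j := by
  have h5 : t⁻¹ * a ∈ CC y := by
    rw [mem_CC]
    rw [← ht] at ha
    calc t⁻¹ * a * y = t⁻¹ * (a * y * a⁻¹) * a := by group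
      _ = y * (t⁻¹ * a) := by rw [ha]; group
  obtain ⟨j, v, hv, e⟩ := C.sy.exists_eq_xp_mul h5
  refine ⟨j, ?_⟩
  rcases (C.uV v).1 hv with rfl | rfl
  · exact Or.inl (by rw [← mul_one (xp y j), ← e]; group)
  · exact Or.inr (by rw [mul_assoc, ← (commute_xp C.uC j).eq, ← e]; group)

theorem inv_NN (C : Ctx x y u) {t : G} (ht : t * y * t⁻¹ = y⁻¹) : t ∈ NN y ∧ t ∉ CC y := by
  refine ⟨mem_NN_of_pow C.hy (ht.trans (inv_eq_pow C.hy)), fun e => ?_⟩
  rw [mem_CC.1 e, mul_inv_cancel_right, eq_inv_iff_mul_eq_one, ← pow_two,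
    ← orderOf_dvd_iff_pow_eq_one, C.hy] at ht
  omega

theorem inv_u (C : Ctx x y u) {t : G} (ht : t * y * t⁻¹ = y⁻¹) :
    t * u * y * (t * u)⁻¹ = y⁻¹ := by
  rw [mul_assoc t, mem_CC.1 C.uC, ← ht]; group

theorem conj_of_inv (C : Ctx x y u) {t a : G} (ht : t * y * t⁻¹ = y⁻¹)
    (ha : a * y * a⁻¹ = y⁻¹) : IsConj t a ∨ IsConj (t * u) a := by
  obtain ⟨j, rfl | rfl⟩ := C.of_inv ht ha
  · exact Or.inl (isConj_mul C.hy (C.inv_NN ht).1 (C.inv_NN ht).2 j)
  · exact Or.inr (isConj_mul C.hy (C.inv_NN (C.inv_u ht)).1 (C.inv_NN (C.inv_u ht)).2 j)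

theorem count (C : Ctx x y u) {t : G} (h2 : t * t = 1) (ht : t * y * t⁻¹ = y⁻¹)
    (hn : ¬ IsConj t (t * u)) : Nat.card {a : G // IsConj t a ∧ IsConj t (a * y)} = 5 ∧
      Nat.card {a : G // IsConj t a ∧ IsConj t (a * (y * u))} = 0 := by
  obtain ⟨h1, h3⟩ := C.inv_NN ht
  obtain ⟨h1', h3'⟩ := C.inv_NN (C.inv_u ht)
  have k : ∀ a, IsConj t a → a * y * a⁻¹ = y⁻¹ → ∃ j : ZMod 5, a = t * xp y j := fun a e ha => by
    obtain ⟨j, rfl | rfl⟩ := C.of_inv ht ha
    · exact ⟨j, rfl⟩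
    · exact absurd (e.trans (isConj_mul C.hy h1' h3' j).symm) hn
  constructor
  · have h0 : ∀ j : ZMod 5, IsConj t (t * xp y j * y) := fun j => by
      have := isConj_mul C.hy h1 h3 (j + 1)
      rwa [xp_add C.hy, xp_one C.hy, ← mul_assoc] at this
    refine (Nat.card_congr (Equiv.ofBijective (fun j : ZMod 5 => ⟨t * xp y j,
      isConj_mul C.hy h1 h3 j, h0 j⟩) ⟨fun i j e => xp_injective C.hy
        (mul_left_cancel (congrArg Subtype.val e)), fun a => ?_⟩).symm).trans (Nat.card_zmod 5)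
    obtain ⟨j, hj⟩ := k a.1 a.2.1 (conj_eq_inv h2 a.2.1 a.2.2).2
    exact ⟨j, Subtype.ext hj.symm⟩
  · have : IsEmpty {a : G // IsConj t a ∧ IsConj t (a * (y * u))} := ⟨fun a => by
      obtain ⟨j, hj⟩ := k a.1 a.2.1 (inverts_of C.hy C.uu C.uC (conj_eq_inv h2 a.2.1 a.2.2).2)
      have h4 := a.2.2
      have h5 := isConj_mul C.hy h1' h3' (j + 1)
      rw [hj, show t * xp y j * (y * u) = t * u * xp y (j + 1) by
        rw [mul_assoc t u, ← (commute_xp C.uC _).eq, xp_add C.hy, xp_one C.hy]; group] at h4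
      exact hn (h4.trans h5.symm)⟩
    exact Nat.card_of_isEmpty

end Ctx

variable [IsSimpleGroup G]

theorem T11.al {a b c f ψ ψ' : IrrCharacter G} (T : T11 a b c f ψ ψ') (χ : IrrCharacter G)
    (h : ¬ 11 ∣ charDegree χ.1) : charDegree χ.1 ∈ [1, 10, 16, 45, 54, 60, 120, 144] := by
  have := (T.mem χ).1 h
  simp only [List.mem_cons, List.not_mem_nil, or_false] at this
  rcases this with rfl | rfl | rfl | rfl | rfl | rfl | rfl <;>
    simp [degree_one, T.da, T.db, T.dc, T.df, T.dψ, T.dψ']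

theorem exists_Ctx (h : Nat.card G = 95040) {a b c f ψ ψ' : IrrCharacter G}
    (T : T11 a b c f ψ ψ') : ∃ x y u : G, Ctx x y u ∧ ∃ (d : P1 5 y) (sg : IrrCharacter G → ℤ)
      (l : List (IrrCharacter G)), Full d [66, -99, -144, 176] sg l := by
  obtain ⟨x, hx⟩ := exists_prime_orderOf_dvd_card' (G := G) 11 (by rw [h]; decide)
  obtain ⟨sx, ex⟩ := sc11 h hx
  obtain ⟨y, y1, y2, y3, y4, y5⟩ := SC.gen sx (a := 3) (ex ▸ orderOf_eq_prime (by decide)
    (by decide)) (by omega)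
  rw [ex] at y3
  have sy := isSylGen_of_not_sq_dvd y3 (by rw [h]; decide)
  obtain ⟨d⟩ := exists_P1 sy
  obtain ⟨ey, hV | ⟨hV, sg, l, F⟩⟩ := blk5a h T.al sy d
  · exfalso
    obtain ⟨k, k1, k2⟩ := int_y y3 ey b
    have hb := char_of_irr b.2
    have v1 : ∀ j : ZMod 5, j ≠ 0 → b.1 (xp y j) = k := fun j hj =>
      (val_y y3 ey (irr_classFun b.2) hj).trans k1
    have v2 : ∀ g, 11 ∣ orderOf g → b.1 g = -1 := fun g hg => (T.val g hg).2.1
    obtain ⟨m, hm⟩ := exists_av hb (zpowers x ⊔ zpowers y)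
    have h1 : av b.1 (zpowers x) = (4 : ℕ) := by
      rw [av_zpowers hx, sum_xp_const fun j hj => v2 _ (orderOf_xp hx hj).symm.dvd,
        irr_apply_one_eq b.2, T.db]
      norm_num
    have h2 := av_mono hb le_sup_left h1 hm
    rw [av_xy sx y3 y1 y4 (irr_classFun b.2) v2 v1, irr_apply_one_eq b.2, T.db,
      div_eq_iff (by norm_num)] at hm
    have h3 : (54 + 10 * (-1) + 44 * k : ℤ) = m * 55 := by exact_mod_cast hm
    obtain ⟨r, hr, r1, -⟩ := exists_mul_VV sy Nat.prime_three (by rw [hV]; norm_num)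
    obtain ⟨n, hn⟩ := exists_av hb (zpowers y ⊔ zpowers r)
    have v3 : ∀ i : ℕ, ¬ 3 ∣ i → ∀ j : ZMod 5, b.1 (r ^ i * xp y j) = 0 := fun i hi j => by
      refine CA.H28E2.vanish Nat.prime_three (m := 1760) (by rw [h, T.db]) (by decide)
        (Dvd.dvd.trans ?_ (orderOf_pow_dvd 5))
      rw [((commute_xp (sy.VV_le hr) j).symm.pow_left i).mul_pow, xp_pow y3,
        show ((5 : ℕ) : ZMod 5) = 0 from rfl, mul_zero, (xp_eq_one_iff y3).2 rfl, mul_one,
        ← pow_mul, Nat.Coprime.orderOf_pow (by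
          rw [r1]; exact (Nat.prime_three.coprime_iff_not_dvd.2 (by omega))), r1]
    rw [av_sup' y3 (CC_le_NN y (sy.VV_le hr)) fun i hi => eq_one_of_mem y3
      (by rw [r1]; norm_num) hi, r1, sum_range_succ, sum_range_succ, sum_range_one] at hn
    simp only [pow_zero, one_mul, v3 1 (by decide), v3 2 (by decide), sum_const_zero] at hn
    rw [sum_y y3 v1, irr_apply_one_eq b.2, T.db, inv_mul_eq_iff_eq_mul₀ (by norm_num)] at hn
    have h4 : (54 + 4 * k + 0 + 0 : ℤ) = 15 * n := by exact_mod_cast hn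
    omega
  obtain ⟨u, hu, u1, -⟩ := exists_mul_VV sy Nat.prime_two (by rw [hV])
  have C : Ctx x y u := ⟨sx, ex, y3, y1, y2, y4, y5, sy, ey, u1, fun v => by
    have : zpowers u = VV 5 y := eq_of_le_of_card_ge (zpowers_le.2 hu) (by
      rw [Nat.card_zpowers, u1, hV])
    classical
    rw [← this, mem_zpowers_iff_mem_range_orderOf, u1]
    simp only [mem_image, mem_range]
    refine ⟨fun ⟨i, hi, e⟩ => ?_, fun e => e.elim (fun e => ⟨0, by decide, by simp [e]⟩)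
      fun e => ⟨1, by decide, by simp [e]⟩⟩
    interval_cases i
    · exact Or.inl (by simpa using e.symm)
    · exact Or.inr (by simpa using e.symm)⟩
  refine ⟨x, y, u, C, d, sg, l, F.resolve_left fun F => ?_⟩
  have h1 := F.deg
  simp only [List.map_eq_cons_iff, List.map_eq_nil_iff] at h1
  obtain ⟨α, _, rfl, hα, s, _, rfl, hs, t, _, rfl, ht, γ, _, rfl, hγ, rfl⟩ := h1
  obtain ⟨a1, a2⟩ := F.pos (z := 11) (by simp) hα
  obtain ⟨s1, s2⟩ := F.pos (z := 16) (by simp) hs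
  obtain ⟨t1, t2⟩ := F.pos (z := 16) (by simp) ht
  obtain ⟨g1, g2⟩ := F.neg (z := 44) (by simp) hγ
  have key : ∀ χ ∈ [α, s, t, γ], ∀ n : ℕ, charDegree χ.1 = n → n ≠ 1 → ∃ a : ℤ, χ.1 u = a ∧
      ((n : ℤ) - a) % 4 = 0 ∧ -(n : ℤ) < a ∧ a < n ∧ (n + 4 * sg χ + a + 4 * sg χ) % 10 = 0 :=
    fun χ e n hn h1 => by
      obtain ⟨a, a3, a4, a5, a6⟩ := inv_val' (nc h) hn h1 u1
      exact ⟨a, a3, a4, a5, a6, mod5 y3 u1 C.uC hn a3 (fun j hj => F.val χ e _
        (orderOf_xp y3 hj).symm.dvd) fun j hj => F.val χ e _ (C.dvd_yu hj)⟩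
  obtain ⟨a', a3, a4⟩ := key α (by simp) 11 a2 (by decide)
  obtain ⟨s', s3, s4⟩ := key s (by simp) 16 s2 (by decide)
  obtain ⟨t', t3, t4⟩ := key t (by simp) 16 t2 (by decide)
  obtain rfl : a' = -9 := by omega
  obtain rfl : s' = -4 := by omega
  obtain rfl : t' = -4 := by omega
  have h2 := F.rel u (by rw [u1]; decide)
  simp only [List.map_cons, List.map_nil, List.sum_cons, List.sum_nil, a1, s1, t1, g1, a3, s3,
    t3] at h2
  have g3 : γ.1 u = -16 := by push_cast at h2; linear_combination -h2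
  obtain ⟨z, z1, z2⟩ := C.exists_inv F C.uu (by
    simp only [List.map_cons, List.map_nil, List.sum_cons, List.sum_nil, a1, s1, t1, g1, a3, s3,
      t3, g3, a2, s2, t2, g2]
    norm_num)
  obtain ⟨k, hk⟩ := exists_av (char_of_irr α.2) (zpowers y ⊔ zpowers z)
  rw [av_yt (irr_classFun α.2) y3 (by
      obtain ⟨g, rfl⟩ := isConj_iff.1 z1
      exact (orderOf_conj' g u).trans u1) z2 fun j hj => F.val α (by simp) _
    (orderOf_xp y3 hj).symm.dvd, ← classFun_of_isConj (irr_classFun α.2) z1, a3, a1,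
    irr_apply_one_eq α.2, a2, div_eq_iff (by norm_num)] at hk
  have : (11 + 4 * 1 + 5 * (-9) : ℤ) = k * 10 := by exact_mod_cast hk
  omega

end CA.H7M12
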