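import Mathlib
import Cfsg.Agent.Lib.Block.H7M12c

/-! A partial character table for a simple group of order 95040. -/

set_option autoImplicit false

namespace CA.H7M12

open Cfsg Finset Subgroup CA.H28Syl CA.H28SC CA.H28Prin CA.H28Sol CA.H28Trick CA.H28Br2 CA.H28BT
open CChar.CharRep CChar.CharFun CChar.CharOrth CChar.CharInt CChar.CharKer CA.H28Simp
open CA.H28M11 CA.BlkCore CA.BlkVal CA.H28Syl2 CA.H28Blk CChar.CharProd
open scoped ComplexConjugate

variable {G : Type*} [Group G] [Finite G] {x y u : G}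

structure Tab (x y u : G) (a b c f ψ ψ' p q r β β' : IrrCharacter G) (ι : ℤ) : Prop where
  C : Ctx x y u
  T : T11 a b c f ψ ψ'
  dp : charDegree p.1 = 66
  dq : charDegree q.1 = 99
  dr : charDegree r.1 = 176
  dβ : (charDegree β.1 = 11 ∧ charDegree β'.1 = 11 ∧ ι = 1) ∨
    (charDegree β.1 = 66 ∧ charDegree β'.1 = 44 ∧ ι = -1)
  nd : [irrOne G, a, b, c, f, ψ, ψ', p, q, r, β, β'].Nodup
  rest : ∀ χ, χ ∉ [irrOne G, a, b, c, f, ψ, ψ', p, q, r, β, β'] → 55 ∣ charDegree χ.1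
  val5 : ∀ g, 5 ∣ orderOf g → p.1 g = 1 ∧ q.1 g = -1 ∧ f.1 g = -1 ∧ r.1 g = 1
  vy : ∀ j : ZMod 5, j ≠ 0 → ψ.1 (xp y j) = 1 ∧ ψ'.1 (xp y j) = 1 ∧ b.1 (xp y j) = -1 ∧
    β.1 (xp y j) = 1 ∧ β'.1 (xp y j) = ι
  vyu : ∀ j : ZMod 5, j ≠ 0 → ψ.1 (xp y j * u) = -1 ∧ ψ'.1 (xp y j * u) = -1 ∧
    b.1 (xp y j * u) = 1 ∧ β.1 (xp y j * u) = -1 ∧ β'.1 (xp y j * u) = -ι
  rel0 : ∀ g, ¬ 5 ∣ orderOf g → 1 + p.1 g - q.1 g - f.1 g + r.1 g = 0
  rel1 : ∀ g, ¬ 5 ∣ orderOf g → ψ.1 g + ψ'.1 g - b.1 g + β.1 g + ι * β'.1 g = 0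
  inv0 : ∀ t, t * t = 1 → 1 + p.1 t ^ 2 / 66 - q.1 t ^ 2 / 99 - f.1 t ^ 2 / 144 +
    r.1 t ^ 2 / 176 ≠ 0 → ∃ z, IsConj t z ∧ z * y * z⁻¹ = y⁻¹

theorem split2 {A : Type*} [AddCommMonoid A] {L : List (IrrCharacter G)} (hL : L.Nodup)
    (S : Finset (IrrCharacter G)) (hS : ∀ χ ∈ S, χ ∉ L) (F : IrrCharacter G → A)
    (h : ∀ χ, χ ∉ L → χ ∉ S → F χ = 0) : ∑ χ, F χ = (L.map F).sum + ∑ χ ∈ S, F χ := by
  classical
  rw [← List.sum_toFinset F hL, ← sum_union (Finset.disjoint_right.2 fun χ e e' =>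
    hS χ e (List.mem_toFinset.1 e'))]
  exact (Finset.sum_subset (subset_univ _) fun χ _ e => by
    rw [mem_union, not_or, List.mem_toFinset] at e; exact h χ e.1 e.2).symm

theorem sq_one {S : Finset (IrrCharacter G)} {ι : IrrCharacter G → ℤ} (h : ∀ χ ∈ S, ι χ ≠ 0)
    (h2 : ∑ χ ∈ S, ι χ ^ 2 = 2) : S.card = 2 ∧ ∀ χ ∈ S, ι χ = 1 ∨ ι χ = -1 := by
  have h1 : ∀ χ ∈ S, ι χ = 1 ∨ ι χ = -1 := fun χ e => by
    have h3 := h2 ▸ Finset.single_le_sum (f := fun χ => ι χ ^ 2) (fun _ _ => sq_nonneg _) e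
    have h4 := h χ e
    have h5 : ι χ < 2 := by nlinarith
    have h6 : -2 < ι χ := by nlinarith
    omega
  refine ⟨?_, h1⟩
  rw [Finset.sum_congr rfl (g := fun _ => 1) fun χ e => by
    rcases h1 χ e with e | e <;> rw [e] <;> rfl, sum_const, nsmul_eq_mul, mul_one] at h2
  exact_mod_cast h2

variable [IsSimpleGroup G]

set_option maxHeartbeats 1000000 in
theorem exists_Tab (h : Nat.card G = 95040) : ∃ (x y u : G)
    (a b c f ψ ψ' p q r β β' : IrrCharacter G) (ι : ℤ), Tab x y u a b c f ψ ψ' p q r β β' ι := by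
  classical
  obtain ⟨a, b, c, f, ψ, ψ', T⟩ := exists_T11 h
  obtain ⟨x, y, u, C, d, sg, l, F⟩ := exists_Ctx h T
  have h1 := F.deg
  simp only [List.map_eq_cons_iff, List.map_eq_nil_iff] at h1
  obtain ⟨p, _, rfl, hp, q, _, rfl, hq, f', _, rfl, hf, r, _, rfl, hr, rfl⟩ := h1
  obtain ⟨p1, p2⟩ := F.pos (z := 66) (by simp) hp
  obtain ⟨q1, q2⟩ := F.neg (z := 99) (by simp) hq
  obtain ⟨f1, f2⟩ := F.neg (z := 144) (by simp) hf
  obtain ⟨r1, r2⟩ := F.pos (z := 176) (by simp) hr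
  have da := T.da
  have db := T.db
  have dc := T.dc
  have df := T.df
  have dψ := T.dψ
  have dψ' := T.dψ'
  have d1 := degree_one (G := G)
  obtain rfl : f' = f := by
    have := (T.mem f').1 (by rw [f2]; decide)
    simp only [List.mem_cons, List.not_mem_nil, or_false] at this
    rcases this with rfl | rfl | rfl | rfl | rfl | rfl | rfl <;> first | rfl | omega
  choose ι i1 i2 using int_y (G := G) C.hy C.ey
  have hψ : ψ ≠ ψ' := fun e => by have := T.nodup; simp [e] at this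
  have nL : [irrOne G, p, q, f', r, ψ, ψ', b].Nodup := by
    refine List.Nodup.append (l₁ := [irrOne G, p, q, f', r]) F.nodup ?_ fun χ h1 h2 => ?_
    · have e1 : ψ ≠ b := fun e => by rw [e] at dψ; omega
      have e2 : ψ' ≠ b := fun e => by rw [e] at dψ'; omega
      simp [hψ, e1, e2]
    · simp only [List.mem_cons, List.not_mem_nil, or_false] at h1 h2
      rcases h1 with rfl | rfl | rfl | rfl | rfl <;> rcases h2 with e | e | e <;>
        have := congrArg (fun χ : IrrCharacter G => charDegree χ.1) e <;> omega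
  let S := univ.filter fun χ => χ ∉ [irrOne G, p, q, f', r, ψ, ψ', b] ∧ ι χ ≠ 0
  have hS : ∀ χ, χ ∈ S ↔ χ ∉ [irrOne G, p, q, f', r, ψ, ψ', b] ∧ ι χ ≠ 0 := fun χ => by
    simp only [S, mem_filter, mem_univ, true_and]
  have sp : ∀ g, ∑ χ : IrrCharacter G, χ.1 g * conj (χ.1 y) = 1 + p.1 g - q.1 g - f'.1 g + r.1 g +
      (ι ψ * ψ.1 g + ι ψ' * ψ'.1 g + ι b * b.1 g + ∑ χ ∈ S, ι χ * χ.1 g) := fun g => by
    rw [split2 nL S (fun χ e => ((hS χ).1 e).1) _ fun χ e e' => by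
      rw [i1, not_not.1 fun e'' => e' ((hS χ).2 ⟨e, e''⟩)]; simp,
      Finset.sum_congr rfl (g := fun χ => (ι χ : ℂ) * χ.1 g) fun χ _ => by
        rw [i1, map_intCast, mul_comm]]
    have v := fun χ e => F.val χ e y C.hy.symm.dvd
    simp only [List.map_cons, List.map_nil, List.sum_cons, List.sum_nil, v p (by simp),
      v q (by simp), v f' (by simp), v r (by simp), p1, q1, f1, r1, irrOne_apply, i1 ψ, i1 ψ', i1 b,
      map_intCast, map_one]
    push_cast; ring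
  have val5 : ∀ g, 5 ∣ orderOf g → p.1 g = 1 ∧ q.1 g = -1 ∧ f'.1 g = -1 ∧ r.1 g = 1 := fun g hg =>
    ⟨by simpa [p1] using F.val p (by simp) g hg, by simpa [q1] using F.val q (by simp) g hg,
      by simpa [f1] using F.val f' (by simp) g hg, by simpa [r1] using F.val r (by simp) g hg⟩
  have rel0 : ∀ g, ¬ 5 ∣ orderOf g → 1 + p.1 g - q.1 g - f'.1 g + r.1 g = 0 := fun g hg => by
    have := F.rel g hg
    simp only [List.map_cons, List.map_nil, List.sum_cons, List.sum_nil, p1, q1, f1, r1] at this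
    push_cast at this
    linear_combination this
  have s1 := sp y
  obtain ⟨v1, v2, v3, v4⟩ := val5 y C.hy.symm.dvd
  rw [sum_irr_mul_conj_of_isConj (IsConj.refl y), C.card_CC, v1, v2, v3, v4] at s1
  simp only [i1, ← pow_two] at s1
  have s2 : ι ψ ^ 2 + ι ψ' ^ 2 + ι b ^ 2 + ∑ χ ∈ S, ι χ ^ 2 = 5 := by
    refine Int.cast_injective (α := ℂ) ?_
    push_cast at s1 ⊢
    linear_combination -s1
  have s3 : 0 ≤ ∑ χ ∈ S, ι χ ^ 2 := sum_nonneg fun _ _ => sq_nonneg _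
  have k : ∀ z : ℤ, z ^ 2 ≤ 5 → -3 < z ∧ z < 3 := fun z hz => ⟨by nlinarith, by nlinarith⟩
  have k1 := k (ι ψ) (by nlinarith [sq_nonneg (ι ψ'), sq_nonneg (ι b)])
  have k2 := k (ι ψ') (by nlinarith [sq_nonneg (ι ψ), sq_nonneg (ι b)])
  have k3 := k (ι b) (by nlinarith [sq_nonneg (ι ψ'), sq_nonneg (ι ψ)])
  have j1 : ι ψ = 1 := by have := i2 ψ; omega
  have j2 : ι ψ' = 1 := by have := i2 ψ'; omega
  have j3 : ι b = -1 := by have := i2 b; omega
  rw [j1, j2, j3] at s2 sp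
  obtain ⟨s4, s5⟩ := sq_one (fun χ e => ((hS χ).1 e).2) (by linarith)
  have rel1 : ∀ g, ¬ 5 ∣ orderOf g → ψ.1 g + ψ'.1 g - b.1 g + ∑ χ ∈ S, ι χ * χ.1 g = 0 :=
    fun g hg => by
    have := sp g
    rw [sum_irr_mul_conj_of_not_isConj fun e => hg (by
      obtain ⟨n, rfl⟩ := isConj_iff.1 e
      rw [← orderOf_conj' n g, C.hy]), rel0 g hg] at this
    push_cast at this
    linear_combination -this
  have s6 := rel1 1 (by rw [orderOf_one]; decide)
  simp only [irr_apply_one_eq (Subtype.property _), dψ, dψ', db] at s6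
  obtain ⟨β, β', hβ, e, hι⟩ : ∃ β β', β ≠ β' ∧ S = {β, β'} ∧ ι β = 1 ∧ (ι β' = 1 ∨ ι β' = -1) := by
    obtain ⟨β, β', hβ, e⟩ := card_eq_two.1 s4
    have m1 := s5 β (by simp [e])
    have m2 := s5 β' (by simp [e])
    rcases m1 with m1 | m1
    · exact ⟨β, β', hβ, e, m1, m2⟩
    rcases m2 with m2 | m2
    · exact ⟨β', β, hβ.symm, e.trans (pair_comm _ _), m2, Or.inr m1⟩
    rw [e, sum_pair hβ, m1, m2] at s6
    have : ((16 : ℕ) + (16 : ℕ) - (54 : ℕ) + ((-1) * charDegree β.1 + (-1) * charDegree β'.1) : ℤ) =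
      0 := by exact_mod_cast s6
    omega
  have m1 := (hS β).1 (by simp [e])
  have m2 := (hS β').1 (by simp [e])
  have z5 : ∀ χ : IrrCharacter G, 5 ∣ charDegree χ.1 → ι χ = 0 := fun χ e => by
    have := (i1 χ).symm.trans (vanish' C.sy e C.hy.symm.dvd)
    exact_mod_cast this
  have d11 : ∀ χ, χ ∉ [irrOne G, p, q, f', r, ψ, ψ', b] ∧ ι χ ≠ 0 → 11 ∣ charDegree χ.1 :=
    fun χ e => by
    by_contra e'
    have := (T.mem χ).1 e'
    simp only [List.mem_cons, List.not_mem_nil, or_false] at this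
    rcases this with rfl | rfl | rfl | rfl | rfl | rfl | rfl
    exacts [e.1 (by simp), e.2 (z5 _ (by rw [da]; decide)), e.1 (by simp),
      e.2 (z5 _ (by rw [dc]; decide)), e.1 (by simp), e.1 (by simp), e.1 (by simp)]
  have nd : [irrOne G, a, b, c, f', ψ, ψ', p, q, r, β, β'].Nodup := by
    refine List.Nodup.append (l₁ := [irrOne G, a, b, c, f', ψ, ψ']) T.nodup ?_ fun χ h1 h2 => ?_
    · refine List.Nodup.append (l₁ := [p, q, r]) (List.Nodup.of_map
        (fun χ : IrrCharacter G => charDegree χ.1) (by simp [p2, q2, r2])) (by simp [hβ])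
        fun χ h1 h2 => ?_
      have h3 : χ ∈ [irrOne G, p, q, f', r, ψ, ψ', b] := by
        simp only [List.mem_cons, List.not_mem_nil, or_false] at h1
        rcases h1 with rfl | rfl | rfl <;> simp
      simp only [List.mem_cons, List.not_mem_nil, or_false] at h2
      rcases h2 with rfl | rfl
      exacts [m1.1 h3, m2.1 h3]
    · refine (T.mem χ).2 h1 ?_
      simp only [List.mem_cons, List.not_mem_nil, or_false] at h2
      rcases h2 with rfl | rfl | rfl | rfl | rfl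
      exacts [by rw [p2]; decide, by rw [q2]; decide, by rw [r2]; decide, d11 _ m1, d11 _ m2]
  have vj : ∀ (χ : IrrCharacter G) (j : ZMod 5), j ≠ 0 → χ.1 (xp y j) = ι χ := fun χ j hj =>
    (val_y C.hy C.ey (irr_classFun χ.2) hj).trans (i1 χ)
  have vu : ∀ (χ : IrrCharacter G), χ ∉ [irrOne G, p, q, f', r] → ∀ j : ZMod 5, j ≠ 0 →
      χ.1 (xp y j * u) = -ι χ := fun χ e j hj => (C.neg F e hj).trans (by rw [i1])
  have n5 : ∀ χ ∈ [ψ, ψ', b], χ ∉ [irrOne G, p, q, f', r] := fun χ e e' =>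
    List.disjoint_of_nodup_append (l₁ := [irrOne G, p, q, f', r]) nL e' e
  have n6 : ∀ χ, χ ∉ [irrOne G, p, q, f', r, ψ, ψ', b] → χ ∉ [irrOne G, p, q, f', r] :=
    fun χ e e' => e (List.mem_append_left [ψ, ψ', b] e')
  simp only [e, sum_pair hβ, hι.1] at rel1 s6
  refine ⟨x, y, u, a, b, c, f', ψ, ψ', p, q, r, β, β', ι β', C, T, p2, q2, r2, ?_, nd,
    fun χ hχ => ?_, val5, fun j hj => ?_, fun j hj => ?_, rel0, fun g hg => ?_, fun t ht hne => ?_⟩
  · have s7 := sum_charDegree_sq (G := G)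
    rw [split2 nd (univ \ [irrOne G, a, b, c, f', ψ, ψ', p, q, r, β, β'].toFinset)
      (fun χ e => by simpa only [mem_sdiff, mem_univ, true_and, List.mem_toFinset] using e) _
      fun χ e e' => absurd (mem_sdiff.2 ⟨mem_univ _, mt List.mem_toFinset.1 e⟩) e', h] at s7
    simp only [List.map_cons, List.map_nil, List.sum_cons, List.sum_nil, d1, da, db, dc, df, dψ,
      dψ', p2, q2, r2] at s7
    obtain ⟨s, hs⟩ := d11 β m1
    obtain ⟨t, ht⟩ := d11 β' m2
    have s8 : ((16 : ℕ) + (16 : ℕ) - (54 : ℕ) + (1 * charDegree β.1 + ι β' * charDegree β'.1) : ℤ) =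
      0 := by exact_mod_cast s6
    have s9 := i2 β
    have s10 := i2 β'
    have s11 : charDegree β'.1 ^ 2 ≤ 9317 := by omega
    have s12 : charDegree β'.1 < 99 := by nlinarith
    rw [hι.1] at s9
    rcases hι.2 with e | e <;> rw [e] at s8 s10 ⊢ <;> omega
  · refine Nat.Coprime.mul_dvd_of_dvd_of_dvd (by decide : Nat.Coprime 5 11) ?_ ?_
    · have h0 : ι χ = 0 := by
        by_contra e'
        have := (hS χ).2 ⟨fun h3 => hχ (by
          simp only [List.mem_cons, List.not_mem_nil, or_false] at h3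
          rcases h3 with rfl | rfl | rfl | rfl | rfl | rfl | rfl | rfl <;> simp), e'⟩
        rw [e, mem_insert, mem_singleton] at this
        rcases this with rfl | rfl <;> exact hχ (by simp)
      have := i2 χ
      rw [h0] at this
      clear * - this
      omega
    · by_contra e'
      exact hχ (List.mem_append_left [p, q, r, β, β'] ((T.mem χ).1 e'))
  · simp [vj _ j hj, j1, j2, j3, hι.1]
  · simp [vu _ (n5 ψ (by simp)) j hj, vu _ (n5 ψ' (by simp)) j hj, vu _ (n5 b (by simp)) j hj,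
      vu _ (n6 _ m1.1) j hj, vu _ (n6 _ m2.1) j hj, j1, j2, j3, hι.1]
  · have := rel1 g hg
    push_cast at this
    linear_combination this
  · refine C.exists_inv F ht fun e => hne ?_
    simp only [List.map_cons, List.map_nil, List.sum_cons, List.sum_nil, p1, q1, f1, r1, p2, q2,
      f2, r2] at e
    push_cast at e
    linear_combination e

end CA.H7M12
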