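import Mathlib
import Cfsg.Agent.Lib.Block.H7M12d

/-! Character values at involutions in a simple group of order 95040. -/

set_option autoImplicit false

namespace CA.H7M12

open Cfsg Finset Subgroup CA.H28Syl CA.H28SC CA.H28Prin CA.H28Sol CA.H28Trick CA.H28Br2 CA.H28BT
open CChar.CharRep CChar.CharFun CChar.CharOrth CChar.CharInt CChar.CharKer CA.H28Simp
open CA.H28M11 CA.BlkCore CA.BlkVal CA.H28Syl2 CA.H28Blk CChar.CharProd
open scoped ComplexConjugate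

variable {G : Type*} [Group G] [Finite G] {x y u : G}

theorem sym_one [Fintype G] {χ : G → ℂ} (hχ : IsIrrCharacter G χ)
    (h : classInner (fun g => (χ g * χ g + χ (g * g)) / 2) (fun _ => 1) ≠ 0) (g : G) :
    conj (χ g) = χ g := by
  obtain ⟨a, ha⟩ := inner_char_char (char_sym (char_of_irr hχ)) char_one
  obtain ⟨b, hb⟩ := inner_char_char (char_alt (char_of_irr hχ)) char_one
  have h1 : classInner χ (fun g => conj (χ g)) = a + b := by
    rw [← ha, ← hb, ← ci_add_left, ← inner_mul_self_one]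
    congr 1
    ext g; simp only [Pi.add_apply]; ring
  refine (congrFun (irr_eq_of_inner_ne_zero hχ (irr_conj hχ) ?_) g).symm
  rw [ha, Nat.cast_ne_zero] at h
  rw [h1]
  exact_mod_cast (by omega : a + b ≠ 0)

theorem arψ {a b c f s s' p q r t t' k d d' : ℕ} {ι : ℤ}
    (hd : (d = 11 ∧ d' = 11 ∧ ι = 1) ∨ (d = 66 ∧ d' = 44 ∧ ι = -1))
    (h4 : (136 : ℤ) = (0 : ℕ) + a * 45 + b * 54 + c * 120 + f * 144 + s * 16 + s' * 16 +
      p * 66 + q * 99 + r * 176 + t * d + t' * d' + 55 * k)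
    (h5 : (-3 : ℤ) = 2 * (0 : ℕ) + 2 * a - 2 * b - 2 * c + 2 * f - s - s')
    (h6 : (1 : ℤ) = (0 : ℕ) - b - f + s + s' + p - q + r + t + t' * ι)
    (h7 : (1 : ℤ) = (0 : ℕ) + b - f - s - s' + p - q + r - t - t' * ι) :
    a = 0 ∧ b = 1 ∧ c = 0 ∧ f = 0 ∧ s + s' = 1 ∧ p = 1 ∧ q = 0 ∧ r = 0 ∧ t = 0 ∧ t' = 0 ∧ k = 0 := by
  rcases hd with ⟨rfl, rfl, rfl⟩ | ⟨rfl, rfl, rfl⟩
  all_goals
    obtain rfl : r = 0 := by omega
    obtain rfl : f = 0 := by omega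
    obtain rfl : p = q + 1 := by omega
    obtain rfl : q = 0 := by omega
    obtain rfl : c = 0 := by omega
    obtain rfl : a = 0 := by omega
    obtain rfl : b = 1 := by omega
    obtain rfl : k = 0 := by omega
    omega

variable [IsSimpleGroup G] {a b c f ψ ψ' p q r β β' : IrrCharacter G} {ι : ℤ}

namespace Tab

omit [IsSimpleGroup G] in
theorem v11 (T : Tab x y u a b c f ψ ψ' p q r β β' ι) {χ : IrrCharacter G}
    (hχ : χ ∉ [irrOne G, a, b, c, f, ψ, ψ']) {g : G} (hg : 11 ∣ orderOf g) : χ.1 g = 0 :=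
  vanish' T.C.sx.isSylGen (not_not.1 (mt (T.T.mem χ).1 hχ)) hg

theorem conjψ (T : Tab x y u a b c f ψ ψ' p q r β β' ι) (h : Nat.card G = 95040) (g : G) :
    conj (ψ.1 g) = ψ'.1 g := by
  have h1 : charDegree (fun g => conj (ψ.1 g)) = 16 := charDegree_eq (by
    rw [irr_apply_one_eq ψ.2, T.T.dψ, map_natCast])
  have h2 := (T.T.mem ⟨_, irr_conj ψ.2⟩).1 (by rw [h1]; decide)
  have h3 : ∀ χ : IrrCharacter G, charDegree χ.1 ≠ 16 → ⟨_, irr_conj ψ.2⟩ ≠ χ :=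
    fun χ e e' => e (e' ▸ h1)
  simp only [List.mem_cons, List.not_mem_nil, or_false] at h2
  rcases h2 with e | e | e | e | e | e | e
  · exact absurd e (h3 _ (by rw [degree_one]; decide))
  · exact absurd e (h3 _ (by rw [T.T.da]; decide))
  · exact absurd e (h3 _ (by rw [T.T.db]; decide))
  · exact absurd e (h3 _ (by rw [T.T.dc]; decide))
  · exact absurd e (h3 _ (by rw [T.T.df]; decide))
  · refine absurd ((isConj_iff_irr x x⁻¹).2 fun χ => ?_) (not_real h T.C.sx.ord)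
    have e1 : conj (ψ.1 x) = ψ.1 x := congrFun (congrArg Subtype.val e) x
    obtain ⟨v1, v2, v3, v4, v5⟩ := T.T.val x T.C.sx.ord.symm.dvd
    rw [char_apply_inv (char_of_irr χ.2)]
    by_cases e2 : χ ∈ [irrOne G, a, b, c, f, ψ, ψ']
    · simp only [List.mem_cons, List.not_mem_nil, or_false] at e2
      rcases e2 with rfl | rfl | rfl | rfl | rfl | rfl | rfl
      · simp [irrOne_apply]
      · simp [v1]
      · simp [v2]
      · simp [v3]
      · simp [v4]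
      · exact e1.symm
      · rw [show χ.1 x = -1 - ψ.1 x by linear_combination v5]; simp [e1]
    · rw [T.v11 e2 T.C.sx.ord.symm.dvd, map_zero]
  · exact congrFun (congrArg Subtype.val e) g

theorem tauψ (T : Tab x y u a b c f ψ ψ' p q r β β' ι) (h : Nat.card G = 95040) {g : G}
    (hg : 11 ∣ orderOf g) : ψ.1 g⁻¹ = -1 - ψ.1 g ∧ ψ'.1 g⁻¹ = -1 - ψ'.1 g := by
  have v := (T.T.val g hg).2.2.2.2
  rw [char_apply_inv (char_of_irr ψ.2), char_apply_inv (char_of_irr ψ'.2), ← T.conjψ h g,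
    Complex.conj_conj, T.conjψ h g]
  exact ⟨by linear_combination v, by linear_combination v⟩

theorem normψ (T : Tab x y u a b c f ψ ψ' p q r β β' ι) (h : Nat.card G = 95040) :
    ψ.1 x ^ 2 + ψ.1 x + 3 = 0 := by
  have h1 := sum_irr_mul_conj_of_isConj (IsConj.refl x)
  obtain ⟨v1, v2, v3, v4, v5⟩ := T.T.val x T.C.sx.ord.symm.dvd
  rw [split_sum T.T.nodup _ fun χ e => by rw [T.v11 e T.C.sx.ord.symm.dvd, zero_mul],
    show centralizer ({x} : Set G) = zpowers x from T.C.sx.cent, Nat.card_zpowers,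
    T.C.sx.ord] at h1
  simp only [List.map_cons, List.map_nil, List.sum_cons, List.sum_nil, v1, v2, v3, v4,
    irrOne_apply, map_one, map_neg] at h1
  rw [← T.conjψ h x, Complex.conj_conj, T.conjψ h x,
    show ψ'.1 x = -1 - ψ.1 x by linear_combination v5] at h1
  push_cast at h1
  linear_combination -h1 / 2

theorem dec [Fintype G] (T : Tab x y u a b c f ψ ψ' p q r β β' ι) (h : Nat.card G = 95040)
    {φ : G → ℂ} (hφ : IsCharacter G φ) {n τ s t : ℤ} (h1 : φ 1 = n) (h2 : φ x + φ x⁻¹ = τ)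
    (h3 : φ y = s) (h4 : φ (y * u) = t) : ∃ (m : IrrCharacter G → ℕ) (ρ : G → ℂ) (k : ℕ),
    (∀ χ : IrrCharacter G, classInner φ χ.1 = m χ) ∧ (k = 0 → ρ = 0) ∧
    (∀ g, φ g = m (irrOne G) + m a * a.1 g + m b * b.1 g + m c * c.1 g + m f * f.1 g +
      m ψ * ψ.1 g + m ψ' * ψ'.1 g + m p * p.1 g + m q * q.1 g + m r * r.1 g + m β * β.1 g +
      m β' * β'.1 g + ρ g) ∧
    n = m (irrOne G) + m a * 45 + m b * 54 + m c * 120 + m f * 144 + m ψ * 16 + m ψ' * 16 +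
      m p * 66 + m q * 99 + m r * 176 + m β * charDegree β.1 + m β' * charDegree β'.1 + 55 * k ∧
    τ = 2 * m (irrOne G) + 2 * m a - 2 * m b - 2 * m c + 2 * m f - m ψ - m ψ' ∧
    s = m (irrOne G) - m b - m f + m ψ + m ψ' + m p - m q + m r + m β + m β' * ι ∧
    t = m (irrOne G) + m b - m f - m ψ - m ψ' + m p - m q + m r - m β - m β' * ι := by
  classical
  obtain ⟨m, hm, e⟩ := char_exists_nat_coeffs hφ
  let m' : IrrCharacter G → ℕ := fun χ =>
    if χ ∈ [irrOne G, a, b, c, f, ψ, ψ', p, q, r, β, β'] then 0 else m χ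
  have k1 : ∀ (m : IrrCharacter G → ℕ) g, (∑ χ : IrrCharacter G, (m χ : ℂ) • χ.1) g =
      ∑ χ : IrrCharacter G, m χ * χ.1 g := fun m g => by simp [Finset.sum_apply]
  have k2 : ∀ χ, m' χ = 0 ∨ 55 ∣ charDegree χ.1 := fun χ => by
    by_cases e : χ ∈ [irrOne G, a, b, c, f, ψ, ψ', p, q, r, β, β']
    · exact Or.inl (if_pos e)
    · exact Or.inr (T.rest χ e)
  obtain ⟨k, hk⟩ : 55 ∣ ∑ χ : IrrCharacter G, m' χ * charDegree χ.1 := dvd_sum fun χ _ =>
    (k2 χ).elim (fun e => by simp [e]) fun e => e.mul_left _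
  have k3 : (∑ χ : IrrCharacter G, (m' χ : ℂ) • χ.1) 1 = 55 * k := by
    rw [k1]
    simp only [irr_apply_one_eq (Subtype.property _)]
    exact_mod_cast hk
  have k4 : ∀ g, 5 ∣ orderOf g ∨ 11 ∣ orderOf g → (∑ χ : IrrCharacter G, (m' χ : ℂ) • χ.1) g = 0 :=
    fun g hg => by
    rw [k1]
    refine sum_eq_zero fun χ _ => (k2 χ).elim (fun e => by simp [e]) fun e => ?_
    rcases hg with hg | hg
    · rw [vanish' T.C.sy (Dvd.dvd.trans (by decide) e) hg, mul_zero]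
    · rw [vanish' T.C.sx.isSylGen (Dvd.dvd.trans (by decide) e) hg, mul_zero]
  have k5 : ∀ g, φ g = m (irrOne G) + m a * a.1 g + m b * b.1 g + m c * c.1 g + m f * f.1 g +
      m ψ * ψ.1 g + m ψ' * ψ'.1 g + m p * p.1 g + m q * q.1 g + m r * r.1 g + m β * β.1 g +
      m β' * β'.1 g + (∑ χ : IrrCharacter G, (m' χ : ℂ) • χ.1) g := fun g => by
    have := split_sum T.nd (fun χ => m χ * χ.1 g - m' χ * χ.1 g) fun χ e => by
      rw [show m' χ = m χ from if_neg e, sub_self]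
    rw [List.map_congr_left (g := fun χ => m χ * χ.1 g) fun χ e => by
      rw [show m' χ = 0 from if_pos e]; simp, sum_sub_distrib, ← k1, ← k1, ← e] at this
    simp only [List.map_cons, List.map_nil, List.sum_cons, List.sum_nil, irrOne_apply] at this
    linear_combination this
  have hx := T.C.sx.ord.symm.dvd
  have hx' : 11 ∣ orderOf x⁻¹ := by rwa [orderOf_inv]
  have hy := T.C.hy.symm.dvd
  have hu := T.C.dvd_yu'
  have z : ∀ χ ∈ [p, q, r, β, β'], ∀ g, 11 ∣ orderOf g → χ.1 g = 0 := fun χ e g hg =>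
    T.v11 (fun e' => List.disjoint_of_nodup_append (l₁ := [irrOne G, a, b, c, f, ψ, ψ']) T.nd e' e) hg
  have za : ∀ g, 5 ∣ orderOf g → a.1 g = 0 := fun g hg => vanish' T.C.sy (by rw [T.T.da]; decide) hg
  have zc : ∀ g, 5 ∣ orderOf g → c.1 g = 0 := fun g hg => vanish' T.C.sy (by rw [T.T.dc]; decide) hg
  refine ⟨m, _, k, hm, fun e => char_eq_zero_of_apply_one (char_sum_nat_smul m') (by
    rw [k3, e]; simp), k5, Int.cast_injective (α := ℂ) ?_, Int.cast_injective (α := ℂ) ?_,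
    Int.cast_injective (α := ℂ) ?_, Int.cast_injective (α := ℂ) ?_⟩
  · rw [← h1, k5, k3]
    simp only [irr_apply_one_eq (Subtype.property _), T.T.da, T.T.db, T.T.dc, T.T.df, T.T.dψ,
      T.T.dψ', T.dp, T.dq, T.dr]
    push_cast; ring
  · obtain ⟨v1, v2, v3, v4, -⟩ := T.T.val x hx
    obtain ⟨w1, w2, w3, w4, -⟩ := T.T.val _ hx'
    rw [← h2, k5, k5, k4 _ (Or.inr hx), k4 _ (Or.inr hx'), v1, v2, v3, v4, w1, w2, w3, w4,
      (T.tauψ h hx).1, (T.tauψ h hx).2, z p (by simp) _ hx, z q (by simp) _ hx, z r (by simp) _ hx,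
      z β (by simp) _ hx, z β' (by simp) _ hx, z p (by simp) _ hx', z q (by simp) _ hx',
      z r (by simp) _ hx', z β (by simp) _ hx', z β' (by simp) _ hx']
    push_cast; ring
  · obtain ⟨v1, v2, v3, v4⟩ := T.val5 y hy
    obtain ⟨w1, w2, w3, w4, w5⟩ := T.vy 1 one_ne_zero
    rw [xp_one T.C.hy] at w1 w2 w3 w4 w5
    rw [← h3, k5, k4 _ (Or.inl hy), v1, v2, v3, v4, w1, w2, w3, w4, w5, za _ hy, zc _ hy]
    push_cast; ring
  · obtain ⟨v1, v2, v3, v4⟩ := T.val5 _ hu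
    obtain ⟨w1, w2, w3, w4, w5⟩ := T.vyu 1 one_ne_zero
    rw [xp_one T.C.hy] at w1 w2 w3 w4 w5
    rw [← h4, k5, k4 _ (Or.inl hu), v1, v2, v3, v4, w1, w2, w3, w4, w5, za _ hu, zc _ hu]
    push_cast; ring

omit [IsSimpleGroup G] in
theorem yy2 (T : Tab x y u a b c f ψ ψ' p q r β β' ι) :
    y * y = xp y (2 : ZMod 5) ∧ y * u * (y * u) = xp y (2 : ZMod 5) := by
  have h1 : y * y = xp y (2 : ZMod 5) := by rw [← pow_two]; rfl
  refine ⟨h1, ?_⟩
  rw [← h1, mul_assoc, ← mul_assoc u, mem_CC.1 T.C.uC, mul_assoc y u, T.C.uu, mul_one]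

theorem symψ (T : Tab x y u a b c f ψ ψ' p q r β β' ι) (h : Nat.card G = 95040) {g : G}
    (hg : ¬ 11 ∣ orderOf g) : (ψ.1 g * ψ.1 g + ψ.1 (g * g)) / 2 = ψ.1 g + b.1 g + p.1 g := by
  have := Fintype.ofFinite G
  have hx := T.C.sx.ord.symm.dvd
  have hx2 : 11 ∣ orderOf (x * x) := by
    rw [← pow_two, Nat.Coprime.orderOf_pow (by rw [T.C.sx.ord]; decide)]; exact hx
  have w1 := (T.vy 1 one_ne_zero).1
  have w2 := (T.vyu 1 one_ne_zero).1
  have w3 := (T.vy 2 (by decide)).1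
  rw [xp_one T.C.hy] at w1 w2
  obtain ⟨m, ρ, k, h1, h2, h3, h4, h5, h6, h7⟩ := T.dec h (char_sym (char_of_irr ψ.2)) (n := 136)
    (τ := -3) (s := 1) (t := 1) (by simp only [mul_one, irr_apply_one_eq ψ.2, T.T.dψ]; norm_num)
    (by
      simp only [← mul_inv_rev, (T.tauψ h hx).1, (T.tauψ h hx2).1]
      push_cast
      linear_combination T.normψ h)
    (by simp only [T.yy2.1, w1, w3]; norm_num) (by simp only [T.yy2.2, w2, w3]; norm_num)
  have h8 : m (irrOne G) = 0 := by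
    by_contra e
    have h9 := sym_one ψ.2 ((h1 (irrOne G)).trans_ne (Nat.cast_ne_zero.2 e))
    have h10 : ψ = ψ' := Subtype.ext (funext fun g => (h9 g).symm.trans (T.conjψ h g))
    have := T.T.nodup
    simp [h10] at this
  have h9 : m a = 0 ∧ m b = 1 ∧ m c = 0 ∧ m f = 0 ∧ m ψ + m ψ' = 1 ∧ m p = 1 ∧ m q = 0 ∧ m r = 0 ∧
      m β = 0 ∧ m β' = 0 ∧ k = 0 := by
    rw [h8] at h4 h5 h6 h7
    exact arψ T.dβ h4 h5 h6 h7
  obtain ⟨e1, e2, e3, e4, e5, e6, e7, e8, e9, e10, e11⟩ := h9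
  have h10 : (m ψ : ℂ) + m ψ' = 1 := by exact_mod_cast e5
  have := h3 g
  rw [h8, e1, e2, e3, e4, e6, e7, e8, e9, e10, h2 e11, (T.T.rel g hg).2] at this
  simp only [Pi.zero_apply] at this
  push_cast at this
  linear_combination this + ψ.1 g * h10

theorem valu (T : Tab x y u a b c f ψ ψ' p q r β β' ι) (h : Nat.card G = 95040)
    {χ : IrrCharacter G} {n : ℕ} (hn : charDegree χ.1 = n) (h1 : n ≠ 1) {s s' : ℤ}
    (h2 : ∀ j : ZMod 5, j ≠ 0 → χ.1 (xp y j) = s) (h3 : ∀ j : ZMod 5, j ≠ 0 → χ.1 (xp y j * u) = s') :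
    ∃ a : ℤ, χ.1 u = a ∧ ((n : ℤ) - a) % 4 = 0 ∧ -(n : ℤ) < a ∧ a < n ∧
      (n + 4 * s + a + 4 * s') % 10 = 0 := by
  obtain ⟨a, a3, a4, a5, a6⟩ := inv_val' (nc h) hn h1 T.C.hu
  exact ⟨a, a3, a4, a5, a6, mod5 T.C.hy T.C.hu T.C.uC hn a3 h2 h3⟩

theorem three (T : Tab x y u a b c f ψ ψ' p q r β β' ι) (h : Nat.card G = 95040) {t : G}
    (ht : orderOf t = 2) {s : ℤ} (hs : b.1 t = s) : s % 3 = 0 := by
  obtain ⟨a', a3, -⟩ := inv_val' (nc h) T.T.da (by decide) ht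
  obtain ⟨c', c3, -⟩ := inv_val' (nc h) T.T.dc (by decide) ht
  obtain ⟨f', f3, -⟩ := inv_val' (nc h) T.T.df (by decide) ht
  obtain ⟨p', p3, -⟩ := inv_val' (nc h) T.T.dψ (by decide) ht
  have h1 := T.T.inv t ht
  rw [a3, c3, f3, p3, hs] at h1
  have h2 : (2160 + 48 * a' ^ 2 - 40 * s ^ 2 - 18 * c' ^ 2 + 15 * f' ^ 2 - 135 * p' ^ 2 : ℤ) = 0 := by
    exact_mod_cast h1
  exact Int.emod_eq_zero_of_dvd (Int.prime_three.dvd_of_dvd_pow (n := 2) (by omega))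

theorem atu (T : Tab x y u a b c f ψ ψ' p q r β β' ι) (h : Nat.card G = 95040) :
    ψ.1 u = 4 ∧ b.1 u = 6 ∧ p.1 u = 6 ∧ ∃ z, IsConj u z ∧ z * y * z⁻¹ = y⁻¹ := by
  have o5 : ∀ j : ZMod 5, j ≠ 0 → 5 ∣ orderOf (xp y j) := fun j hj =>
    (orderOf_xp T.C.hy hj).symm.dvd
  have n11 : ¬ 11 ∣ orderOf u := by rw [T.C.hu]; decide
  have z : ∀ χ : IrrCharacter G, 5 ∣ charDegree χ.1 → ∀ g, 5 ∣ orderOf g → χ.1 g = (0 : ℤ) :=
    fun χ e g hg => by rw [vanish' T.C.sy e hg, Int.cast_zero]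
  obtain ⟨s, s1, s2⟩ := T.valu h T.T.dψ (by decide) (s := 1) (s' := -1)
    (fun j hj => by simpa using (T.vy j hj).1) fun j hj => by simpa using (T.vyu j hj).1
  obtain rfl : s = 4 := by omega
  obtain ⟨b', b1, b2⟩ := T.valu h T.T.db (by decide) (s := -1) (s' := 1)
    (fun j hj => by simpa using (T.vy j hj).2.2.1) fun j hj => by simpa using (T.vyu j hj).2.2.1
  obtain rfl : b' = 6 := by have := T.three h T.C.hu b1; omega
  have p1 := T.symψ h n11
  rw [T.C.uu, s1, b1, irr_apply_one_eq ψ.2, T.T.dψ] at p1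
  have p2 : p.1 u = 6 := by push_cast at p1; linear_combination -p1
  refine ⟨by simpa using s1, by simpa using b1, p2, T.inv0 u T.C.uu ?_⟩
  obtain ⟨a', a1, a2⟩ := T.valu h T.T.da (by decide) (s := 0) (s' := 0)
    (fun j hj => z a (by rw [T.T.da]; decide) _ (o5 j hj))
    fun j hj => z a (by rw [T.T.da]; decide) _ (T.C.dvd_yu hj)
  obtain ⟨c', c1, c2⟩ := T.valu h T.T.dc (by decide) (s := 0) (s' := 0)
    (fun j hj => z c (by rw [T.T.dc]; decide) _ (o5 j hj))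
    fun j hj => z c (by rw [T.T.dc]; decide) _ (T.C.dvd_yu hj)
  obtain ⟨q', q1, q2⟩ := T.valu h T.dq (by decide) (s := -1) (s' := -1)
    (fun j hj => by simpa using (T.val5 _ (o5 j hj)).2.1)
    fun j hj => by simpa using (T.val5 _ (T.C.dvd_yu hj)).2.1
  have r1 := (T.T.rel u n11).1
  have r2 := T.T.inv u T.C.hu
  have r3 := T.rel0 u (by rw [T.C.hu]; decide)
  rw [s1, a1, b1, c1] at r1
  have f1 : f.1 u = (9 - a' + c' : ℤ) := by push_cast at r1 ⊢; linear_combination -r1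
  rw [p2, q1, f1] at r3
  have r4 : r.1 u = (q' + (9 - a' + c') - 7 : ℤ) := by push_cast at r3 ⊢; linear_combination r3
  rw [s1, a1, b1, c1, f1] at r2
  have r5 : (2160 + 48 * a' ^ 2 - 40 * 6 ^ 2 - 18 * c' ^ 2 + 15 * (9 - a' + c') ^ 2 -
      135 * 4 ^ 2 : ℤ) = 0 := by exact_mod_cast r2
  rw [p2, q1, f1, r4]
  intro e
  have r6 : (2448 + 9 * (q' + (9 - a' + c') - 7) ^ 2 - 16 * q' ^ 2 - 11 * (9 - a' + c') ^ 2 : ℤ) =
      0 := Int.cast_injective (α := ℂ) (by push_cast at e ⊢; linear_combination 1584 * e)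
  obtain ⟨i, rfl⟩ : ∃ i, a' = 20 * i + 5 := ⟨a' / 20, by omega⟩
  obtain ⟨j, rfl⟩ : ∃ j, c' = 20 * j := ⟨c' / 20, by omega⟩
  obtain ⟨k, rfl⟩ : ∃ k, q' = 20 * k - 1 := ⟨(q' + 1) / 20, by omega⟩
  have i1 : -3 < i ∧ i < 2 := by omega
  have j1 : -6 < j ∧ j < 6 := by omega
  have k1 : -5 < k ∧ k < 5 := by omega
  obtain ⟨i1, i2⟩ := i1
  obtain ⟨j1, j2⟩ := j1
  obtain ⟨k1, k2⟩ := k1
  clear * - r5 r6 i1 i2 j1 j2 k1 k2
  interval_cases i <;> interval_cases j <;> norm_num at r5 <;> interval_cases k <;> norm_num at r6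

end Tab

end CA.H7M12
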