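import Mathlib
import Cfsg.Agent.Lib.Block.H7M12f
import Cfsg.Agent.Lib.Block.H7M12e

/-! Uniqueness of the simple group of order 95040. -/

set_option autoImplicit false

namespace CA.H7M12

open Cfsg Finset Subgroup CA.H28Syl CA.H28SC CA.H28Prin CA.H28Sol CA.H28Trick CA.H28Br2 CA.H28BT
open CChar.CharRep CChar.CharFun CChar.CharOrth CChar.CharInt CChar.CharKer CA.H28Simp
open CA.H28M11 CA.BlkCore CA.BlkVal CA.H28Syl2 CA.H28Blk CChar.CharProd
open scoped ComplexConjugate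

variable {G : Type*} [Group G] [Finite G] {x y u z w : G}

theorem ord_conj {s t : G} (h : IsConj s t) : orderOf t = orderOf s := by
  obtain ⟨g, rfl⟩ := isConj_iff.1 h
  exact orderOf_conj' g s

theorem Ctx.box (C : Ctx x y u) (hz : orderOf z = 2) (hi : z * y * z⁻¹ = y⁻¹)
    (hc : IsConj u (z * u)) {χ : G → ℂ} (hχ : IsCharacter G χ) {n s s' e v : ℤ} (h1 : χ 1 = n)
    (h2 : ∀ j : ZMod 5, j ≠ 0 → χ (xp y j) = s) (h3 : ∀ j : ZMod 5, j ≠ 0 → χ (xp y j * u) = s')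
    (h4 : χ u = e) (h5 : χ z = v) : ∃ d a b k : ℕ, n + 4 * s = d * 5 ∧
      n + 4 * s + e + 4 * s' = a * 10 ∧ n + 4 * s + 5 * e = b * 10 ∧ n + 4 * s + 5 * v = k * 10 ∧
      a + b ≤ k + d ∧ b + k ≤ a + d ∧ k ≤ d := by
  obtain ⟨d, hd⟩ := exists_av hχ (zpowers y)
  obtain ⟨a, ha⟩ := exists_av hχ (zpowers y ⊔ zpowers u)
  obtain ⟨b, hb⟩ := exists_av hχ (zpowers y ⊔ zpowers (z * u))
  obtain ⟨k, hk⟩ := exists_av hχ (zpowers y ⊔ zpowers z)
  refine ⟨d, a, b, k, ?_, ?_, ?_, ?_, tri hχ le_sup_left le_sup_left (sup_le (le_sup_of_le_left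
    le_sup_left) (zpowers_le.2 ?_)) ha hb hd hk, tri hχ le_sup_left le_sup_left (sup_le
    (le_sup_of_le_left le_sup_left) (zpowers_le.2 ?_)) hb hk hd ha, av_mono hχ le_sup_left hd hk⟩
  · rw [av_y C.hy h2, h1, div_eq_iff (by norm_num)] at hd
    exact_mod_cast hd
  · rw [av_yu C.hy C.hu C.uC h2 h3, h1, h4, div_eq_iff (by norm_num)] at ha
    exact_mod_cast ha
  · rw [av_yt (char_classFun hχ) C.hy ((ord_conj hc).trans C.hu) (C.inv_u hi) h2, h1,
      ← classFun_of_isConj (char_classFun hχ) hc, h4, div_eq_iff (by norm_num)] at hb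
    exact_mod_cast hb
  · rw [av_yt (char_classFun hχ) C.hy hz hi h2, h1, h5, div_eq_iff (by norm_num)] at hk
    exact_mod_cast hk
  · exact (mul_mem_cancel_right (mem_sup_left (mem_sup_right (mem_zpowers u)))).1
      (mem_sup_right (mem_sup_right (mem_zpowers _)))
  · exact (mul_mem_cancel_left (mem_sup_right (mem_sup_right (mem_zpowers z)))).1
      (mem_sup_left (mem_sup_right (mem_zpowers _)))

theorem arβ {o a b c f s s' p q r t t' k : ℕ}
    (h4 : (66 : ℤ) = o + a * 45 + b * 54 + c * 120 + f * 144 + s * 16 + s' * 16 +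
      p * 66 + q * 99 + r * 176 + t * (11 : ℕ) + t' * (11 : ℕ) + 55 * k)
    (h5 : (0 : ℤ) = 2 * o + 2 * a - 2 * b - 2 * c + 2 * f - s - s')
    (h6 : (1 : ℤ) = o - b - f + s + s' + p - q + r + t + t' * 1)
    (h7 : (1 : ℤ) = o + b - f - s - s' + p - q + r - t - t' * 1) :
    a = 0 ∧ c = 0 ∧ f = 0 ∧ s = 0 ∧ s' = 0 ∧ q = 0 ∧ r = 0 ∧ k = 0 ∧
      ((o = 0 ∧ b = 0 ∧ p = 1 ∧ t = 0 ∧ t' = 0) ∨ (o = 1 ∧ b = 1 ∧ p = 0 ∧
        ((t = 1 ∧ t' = 0) ∨ (t = 0 ∧ t' = 1)))) := by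
  obtain rfl : r = 0 := by omega
  obtain rfl : f = 0 := by omega
  obtain rfl : q = 0 := by omega
  obtain rfl : c = 0 := by omega
  obtain rfl : a = 0 := by omega
  obtain rfl : k = 0 := by omega
  obtain rfl : s = 0 := by omega
  obtain rfl : s' = 0 := by omega
  omega

variable [IsSimpleGroup G] {a b c f ψ ψ' p q r β β' : IrrCharacter G} {ι : ℤ}

namespace Tab

theorem atz (T : Tab x y u a b c f ψ ψ' p q r β β' ι) (h : Nat.card G = 95040) :
    ∃ z, orderOf z = 2 ∧ z * y * z⁻¹ = y⁻¹ ∧ IsConj u (z * u) ∧ ψ.1 z = 0 ∧ b.1 z = 6 ∧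
      p.1 z = 2 := by
  obtain ⟨u1, u2, u3, t, t1, t2⟩ := T.atu h
  have tt := (conj_eq_inv (y := 1) T.C.uu t1 (by rwa [mul_one])).1
  have h1 := T.C.inv_u t2
  have h0 : t * u * (t * u) = 1 := by
    rw [mul_assoc, ← mul_assoc u, ← T.C.comm (T.C.inv_NN t2).1, mul_assoc t u, T.C.uu, mul_one, tt]
  have h2 : orderOf (t * u) = 2 := orderOf_eq_prime (by rw [pow_two, h0]) fun e =>
    (T.C.inv_NN h1).2 (e ▸ one_mem _)
  have h3 : IsConj u (t * u * u) := by rwa [mul_assoc, T.C.uu, mul_one]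
  obtain ⟨s, s1, s2⟩ := inv_val' (nc h) T.T.dψ (by decide) h2
  obtain ⟨d, a', b', k, s3⟩ := T.C.box h2 h1 h3 (char_of_irr ψ.2) (n := 16) (s := 1) (s' := -1)
    (e := 4) (by rw [irr_apply_one_eq ψ.2, T.T.dψ]; rfl) (fun j hj => by simpa using (T.vy j hj).1)
    (fun j hj => by simpa using (T.vyu j hj).1) (by simpa using u1) s1
  obtain rfl : s = 0 := by omega
  obtain ⟨v, v1, v2⟩ := inv_val' (nc h) T.T.db (by decide) h2
  obtain ⟨d, a', b', k, v3⟩ := T.C.box h2 h1 h3 (char_of_irr b.2) (n := 54) (s := -1) (s' := 1)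
    (e := 6) (by rw [irr_apply_one_eq b.2, T.T.db]; rfl)
    (fun j hj => by simpa using (T.vy j hj).2.2.1)
    (fun j hj => by simpa using (T.vyu j hj).2.2.1) (by simpa using u2) v1
  obtain rfl : v = 6 := by have := T.three h h2 v1; omega
  have p1 := T.symψ h (g := t * u) (by rw [h2]; decide)
  rw [h0, s1, v1, irr_apply_one_eq ψ.2, T.T.dψ] at p1
  exact ⟨_, h2, h1, h3, by simpa using s1, by simpa using v1, by
    push_cast at p1; linear_combination -p1⟩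

theorem real (T : Tab x y u a b c f ψ ψ' p q r β β' ι) (h : Nat.card G = 95040) :
    charDegree β.1 = 11 ∧ charDegree β'.1 = 11 ∧ ι = 1 := by
  refine T.dβ.resolve_right fun ⟨e1, e2, e3⟩ => ?_
  subst e3
  obtain ⟨z, z1, z2, z3, z4, z5, -⟩ := T.atz h
  have zz : z * z = 1 := by rw [← pow_two, ← z1, pow_orderOf_eq_one]
  obtain ⟨v, v1, v2⟩ := inv_val' (nc h) e2 (by decide) z1
  obtain ⟨e, u1, -⟩ := inv_val' (nc h) e2 (by decide) T.C.hu
  obtain ⟨d, a', b', k, v3⟩ := T.C.box z1 z2 z3 (char_of_irr β'.2) (n := 44) (s := -1) (s' := 1)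
    (by rw [irr_apply_one_eq β'.2, e2]; rfl) (fun j hj => (T.vy j hj).2.2.2.2)
    (fun j hj => by simpa using (T.vyu j hj).2.2.2.2) u1 v1
  obtain ⟨i, i1, rfl⟩ : ∃ i : ℕ, i ≤ 13 ∧ v = 8 - 4 * i := ⟨((8 - v) / 4).toNat, by omega, by omega⟩
  obtain ⟨c1, c2⟩ := T.C.count zz z2 fun e => by
    have := (classFun_of_isConj (irr_classFun ψ.2) (z3.trans e.symm)).trans z4
    rw [(T.atu h).1] at this
    norm_num at this
  have h1 := inv_count zz y
  have h2 := inv_count zz (y * u)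
  have h3 := congrArg₂ (· - ·) h1 h2
  have hy := T.C.hy.symm.dvd
  have hu := T.C.dvd_yu'
  have z6 := ((T.T.rel z (by rw [z1]; decide)).2).trans z4
  have z7 := T.rel1 z (by rw [z1]; decide)
  rw [z4, z5, z6, v1] at z7
  have z8 : β.1 z = 6 + (8 - 4 * i) := by push_cast at z7; linear_combination z7
  obtain ⟨-, -, w3, w4, w5⟩ := T.vy 1 one_ne_zero
  obtain ⟨-, -, w3', w4', w5'⟩ := T.vyu 1 one_ne_zero
  obtain ⟨p1, p2, p3, p4⟩ := T.val5 y hy
  obtain ⟨q1, q2, q3, q4⟩ := T.val5 _ hu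
  rw [xp_one T.C.hy] at w3 w4 w5 w3' w4' w5'
  have za : ∀ g, 5 ∣ orderOf g → a.1 g = 0 := fun g hg => vanish' T.C.sy (by rw [T.T.da]; decide) hg
  have zc : ∀ g, 5 ∣ orderOf g → c.1 g = 0 := fun g hg => vanish' T.C.sy (by rw [T.T.dc]; decide) hg
  simp only [c1, c2, ← mul_sub, ← Finset.sum_sub_distrib] at h3
  rw [split_sum T.nd _ fun χ e => by
    rw [vanish' T.C.sy (Dvd.dvd.trans (by decide) (T.rest χ e)) hy,
      vanish' T.C.sy (Dvd.dvd.trans (by decide) (T.rest χ e)) hu, sub_self], h] at h3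
  simp only [List.map_cons, List.map_nil, List.sum_cons, List.sum_nil, irrOne_apply, za _ hy,
    za _ hu, zc _ hy, zc _ hu, p1, p2, p3, p4, q1, q2, q3, q4, sub_self, z4, z5, z6, z8, v1, w3,
    w4, w5, w3', w4', w5', e1, e2, T.T.db, map_neg, map_one, map_intCast] at h3
  have h4 : (288 * (-16 + 24 * (8 - 4 * i) - (8 - 4 * i) ^ 2) : ℤ) =
      (Nat.card (CC z) : ℤ) * Nat.card (CC z) := by
    refine Int.cast_injective (α := ℂ) ?_
    push_cast at h3 ⊢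
    linear_combination -h3 / 5
  have h5 : ∀ i : ℕ, i ≤ 13 →
      ¬ IsSquare (288 * (-16 + 24 * (8 - 4 * i) - (8 - 4 * i) ^ 2) : ℤ) := by decide +kernel
  exact h5 i i1 ⟨_, h4⟩

theorem valβ (T : Tab x y u a b c f ψ ψ' p q r β β' ι) (h : Nat.card G = 95040)
    {χ : IrrCharacter G} (hχ : χ = β ∨ χ = β') : charDegree χ.1 = 11 ∧
      (∀ j : ZMod 5, j ≠ 0 → χ.1 (xp y j) = 1) ∧ (∀ j : ZMod 5, j ≠ 0 → χ.1 (xp y j * u) = -1) ∧
      χ.1 u = -1 ∧ ∀ g, 11 ∣ orderOf g → χ.1 g = 0 := by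
  obtain ⟨e1, e2, rfl⟩ := T.real h
  have h1 : charDegree χ.1 = 11 := by rcases hχ with rfl | rfl <;> assumption
  have h2 : ∀ j : ZMod 5, j ≠ 0 → χ.1 (xp y j) = 1 := fun j hj => by
    rcases hχ with rfl | rfl
    exacts [(T.vy j hj).2.2.2.1, by simpa using (T.vy j hj).2.2.2.2]
  have h3 : ∀ j : ZMod 5, j ≠ 0 → χ.1 (xp y j * u) = -1 := fun j hj => by
    rcases hχ with rfl | rfl
    exacts [(T.vyu j hj).2.2.2.1, by simpa using (T.vyu j hj).2.2.2.2]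
  obtain ⟨s, s1, s2⟩ := T.valu h h1 (by decide) (s := 1) (s' := -1) (by simpa using h2)
    (by simpa using h3)
  obtain rfl : s = -1 := by omega
  exact ⟨h1, h2, h3, by simpa using s1, fun g hg => vanish' T.C.sx.isSylGen h1.symm.dvd hg⟩

theorem βz (T : Tab x y u a b c f ψ ψ' p q r β β' ι) (h : Nat.card G = 95040) (z1 : orderOf z = 2)
    (z2 : z * y * z⁻¹ = y⁻¹) (z3 : IsConj u (z * u)) (z4 : ψ.1 z = 0) (z5 : b.1 z = 6)
    {χ : IrrCharacter G} (hχ : χ = β ∨ χ = β') : χ.1 z = 3 := by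
  have key : ∀ χ : IrrCharacter G, χ = β ∨ χ = β' → ∃ v : ℤ, χ.1 z = v ∧ v ≤ 3 := fun χ hχ => by
    obtain ⟨e1, e2, e3, e4, -⟩ := T.valβ h hχ
    obtain ⟨v, v1, -⟩ := inv_val' (nc h) e1 (by decide) z1
    obtain ⟨d, a', b', k, v3⟩ := T.C.box z1 z2 z3 (char_of_irr χ.2) (n := 11) (s := 1) (s' := -1)
      (e := -1) (by rw [irr_apply_one_eq χ.2, e1]; rfl) (by simpa using e2) (by simpa using e3)
      (by simpa using e4) v1
    exact ⟨v, v1, by omega⟩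
  obtain ⟨v, v1, v2⟩ := key β (Or.inl rfl)
  obtain ⟨v', v1', v2'⟩ := key β' (Or.inr rfl)
  have z7 := T.rel1 z (by rw [z1]; decide)
  rw [(T.T.rel z (by rw [z1]; decide)).2, z4, z5, v1, v1', (T.real h).2.2] at z7
  have z8 : (0 + 0 - 6 + v + 1 * v' : ℤ) = 0 := by exact_mod_cast z7
  rcases hχ with rfl | rfl
  · rw [v1, show v = 3 by omega]; rfl
  · rw [v1', show v' = 3 by omega]; rfl

theorem symβ (T : Tab x y u a b c f ψ ψ' p q r β β' ι) (h : Nat.card G = 95040)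
    {χ : IrrCharacter G} (hχ : χ = β ∨ χ = β') : (∀ g, conj (χ.1 g) = χ.1 g) ∧
      ∃ χ' : IrrCharacter G, (χ' = β ∨ χ' = β') ∧
        ∀ g, (χ.1 g * χ.1 g + χ.1 (g * g)) / 2 = 1 + b.1 g + χ'.1 g := by
  have := Fintype.ofFinite G
  obtain ⟨e1, e2, e3, e4, e5⟩ := T.valβ h hχ
  have hx := T.C.sx.ord.symm.dvd
  have hx' : 11 ∣ orderOf x⁻¹ := by rwa [orderOf_inv]
  have hx2 : 11 ∣ orderOf (x * x) := by
    rw [← pow_two, Nat.Coprime.orderOf_pow (by rw [T.C.sx.ord]; decide)]; exact hx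
  have hx2' : 11 ∣ orderOf (x * x)⁻¹ := by rwa [orderOf_inv]
  have w1 := e2 1 one_ne_zero
  have w2 := e3 1 one_ne_zero
  have w3 := e2 2 (by decide)
  rw [xp_one T.C.hy] at w1 w2
  obtain ⟨m, ρ, k, h1, h2, h3, h4, h5, h6, h7⟩ := T.dec h (char_sym (char_of_irr χ.2)) (n := 66)
    (τ := 0) (s := 1) (t := 1) (by simp only [mul_one, irr_apply_one_eq χ.2, e1]; norm_num)
    (by simp only [← mul_inv_rev, e5 _ hx, e5 _ hx', e5 _ hx2, e5 _ hx2']; norm_num)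
    (by simp only [T.yy2.1, w1, w3]; norm_num) (by simp only [T.yy2.2, w2, w3]; norm_num)
  obtain ⟨r1, r2, r3⟩ := T.real h
  rw [r1, r2] at h4
  rw [r3] at h6 h7
  obtain ⟨f1, f2, f3, f4, f5, f6, f7, f8, f9⟩ := arβ h4 h5 h6 h7
  simp only [f1, f2, f3, f4, f5, f6, f7, h2 f8, Pi.zero_apply] at h3
  rcases f9 with ⟨g1, g2, g3, g4, g5⟩ | ⟨g1, g2, g3, g4⟩
  · obtain ⟨z, z1, z2, z3, z4, z5, z6⟩ := T.atz h
    have := h3 z
    have zz : z * z = 1 := by rw [← pow_two, ← z1, pow_orderOf_eq_one]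
    rw [g1, g2, g3, g4, g5, z6, T.βz h z1 z2 z3 z4 z5 hχ, zz, irr_apply_one_eq χ.2, e1] at this
    norm_num at this
  refine ⟨sym_one χ.2 ((h1 (irrOne G)).trans_ne (by rw [g1]; norm_num)), ?_⟩
  rcases g4 with ⟨g4, g5⟩ | ⟨g4, g5⟩
  · exact ⟨β, Or.inl rfl, fun g => by rw [h3 g, g1, g2, g3, g4, g5]; push_cast; ring⟩
  · exact ⟨β', Or.inr rfl, fun g => by rw [h3 g, g1, g2, g3, g4, g5]; push_cast; ring⟩

theorem prodβ (T : Tab x y u a b c f ψ ψ' p q r β β' ι) (h : Nat.card G = 95040) :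
    IsCharacter G (β.1 * β'.1 - p.1) := by
  have := Fintype.ofFinite G
  obtain ⟨e1, e2, e3, -, e5⟩ := T.valβ h (Or.inl rfl)
  obtain ⟨e1', e2', e3', -, -⟩ := T.valβ h (Or.inr rfl)
  have hx := T.C.sx.ord.symm.dvd
  have hx' : 11 ∣ orderOf x⁻¹ := by rwa [orderOf_inv]
  have w1 := e2 1 one_ne_zero
  have w2 := e3 1 one_ne_zero
  have w1' := e2' 1 one_ne_zero
  have w2' := e3' 1 one_ne_zero
  rw [xp_one T.C.hy] at w1 w2 w1' w2'
  have hφ := char_mul (char_of_irr β.2) (char_of_irr β'.2)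
  obtain ⟨m, ρ, k, h1, -, -, h4, -, h6, h7⟩ := T.dec h hφ (n := 121) (τ := 0) (s := 1) (t := 1)
    (by simp only [Pi.mul_apply, irr_apply_one_eq β.2, irr_apply_one_eq β'.2, e1, e1']; norm_num)
    (by simp only [Pi.mul_apply, e5 _ hx, e5 _ hx']; norm_num)
    (by simp only [Pi.mul_apply, w1, w1']; norm_num) (by simp only [Pi.mul_apply, w2, w2']; norm_num)
  have h8 : (m (irrOne G) : ℂ) = 0 := by
    rw [← h1, ← inner_irr_of_ne β.2 β'.2 fun e => by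
      have := T.nd
      simp [Subtype.ext e] at this]
    simp [inner_def, irrOne_apply, (T.symβ h (Or.inr rfl)).1]
  refine char_sub_irr hφ p.2 ((h1 p).trans_ne (Nat.cast_ne_zero.2 ?_))
  rw [Nat.cast_eq_zero] at h8
  rw [e1, e1'] at h4
  omega

theorem valw (T : Tab x y u a b c f ψ ψ' p q r β β' ι) (h : Nat.card G = 95040)
    (w1 : orderOf w = 4) (w2 : w * y * w⁻¹ = y ^ 2) (w3 : orderOf (w ^ 2) = 2)
    (w4 : w ^ 2 * y * (w ^ 2)⁻¹ = y⁻¹) {χ : IrrCharacter G} (hχ : χ = β ∨ χ = β') {s : ℤ}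
    (hs : χ.1 (w ^ 2) = s) : ∃ (v : ℤ) (k l : ℕ), χ.1 w = v ∧ (11 - 2 * v + s) % 8 = 0 ∧
      av χ.1 (zpowers y ⊔ zpowers w) = k ∧ 15 + 10 * v + 5 * s = k * 20 ∧ 15 + 5 * s = l * 10 ∧
      k ≤ l := by
  obtain ⟨e1, e2, -⟩ := T.valβ h hχ
  have hc := char_of_irr χ.2
  have e0 : χ.1 1 = (11 : ℤ) := by rw [irr_apply_one_eq χ.2, e1]; rfl
  obtain ⟨v, v1, v2⟩ := mod8 (perfect (nc h)) hc (w1 ▸ pow_orderOf_eq_one w)
    ((T.symβ h hχ).1 w) e0 hs
  obtain ⟨k, hk⟩ := exists_av hc (zpowers y ⊔ zpowers w)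
  obtain ⟨l, hl⟩ := exists_av hc (zpowers y ⊔ zpowers (w ^ 2))
  refine ⟨v, k, l, v1, v2, hk, ?_, ?_, av_mono hc (sup_le_sup_left (zpowers_le.2
    (pow_mem (mem_zpowers w) 2)) _) hl hk⟩
  · rw [av_yw hc T.C.hy w1 w2 ((T.symβ h hχ).1 w) e2, e0, v1, hs, div_eq_iff (by norm_num)] at hk
    have : (11 + 4 * 1 + 10 * v + 5 * s : ℤ) = k * 20 := by exact_mod_cast hk
    omega
  · rw [av_yt (char_classFun hc) T.C.hy w3 w4 e2, e0, hs, div_eq_iff (by norm_num)] at hl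
    have : (11 + 4 * 1 + 5 * s : ℤ) = l * 10 := by exact_mod_cast hl
    omega

theorem exists_w (T : Tab x y u a b c f ψ ψ' p q r β β' ι) (h : Nat.card G = 95040) :
    ∃ w, orderOf w = 4 ∧ w * y * w⁻¹ = y ^ 2 ∧ ∃ χ : IrrCharacter G, (χ = β ∨ χ = β') ∧
      av χ.1 (zpowers y ⊔ zpowers w) = (3 : ℕ) := by
  obtain ⟨w, -, w2⟩ := exists_pow T.C.hy (a := 2) (by rw [T.C.ey]; decide)
  have w4 : w ^ 2 * y * (w ^ 2)⁻¹ = y⁻¹ := by rw [conj_pow_pow w2, inv_eq_pow T.C.hy]; rfl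
  obtain ⟨z, z1, z2, z3, z4, z5, z6⟩ := T.atz h
  have hc := T.C.conj_of_inv z2 w4
  have w3 : orderOf (w ^ 2) = 2 := hc.elim (fun e => (ord_conj e).trans z1)
    fun e => (ord_conj (z3.trans e)).trans T.C.hu
  have w1 : orderOf w = 4 := orderOf_eq_prime_pow (p := 2) (n := 1) (fun e => by
    rw [show w ^ 2 = 1 from e, orderOf_one] at w3; omega) (by
    have := pow_orderOf_eq_one (w ^ 2)
    rwa [w3, ← pow_mul] at this)
  have n5 : ¬ 5 ∣ orderOf w := by rw [w1]; decide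
  have n11 : ¬ 11 ∣ orderOf w := by rw [w1]; decide
  have r1 := T.rel1 w n5
  rw [(T.T.rel w n11).2, (T.real h).2.2] at r1
  obtain ⟨χ', c1, c2⟩ := (T.symβ h (Or.inl rfl)).2
  have c3 := c2 w
  rw [← pow_two w] at c3
  refine ⟨w, w1, w2, ?_⟩
  rcases hc with e | e
  · have k : ∀ χ : IrrCharacter G, χ.1 (w ^ 2) = χ.1 z := fun χ =>
      (classFun_of_isConj (irr_classFun χ.2) e).symm
    obtain ⟨v, k1, l1, v1, v2, v3, v4⟩ := T.valw h w1 w2 w3 w4 (Or.inl rfl) (s := 3)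
      (by rw [k, T.βz h z1 z2 z3 z4 z5 (Or.inl rfl)]; rfl)
    obtain ⟨v', k2, l2, v1', v2', v3', v4'⟩ := T.valw h w1 w2 w3 w4 (Or.inr rfl) (s := 3)
      (by rw [k, T.βz h z1 z2 z3 z4 z5 (Or.inr rfl)]; rfl)
    by_cases e1 : k1 = 3
    · exact ⟨β, Or.inl rfl, e1 ▸ v3⟩
    by_cases e2 : k2 = 3
    · exact ⟨β', Or.inr rfl, e2 ▸ v3'⟩
    exfalso
    obtain rfl : v = -1 := by omega
    obtain rfl : v' = -1 := by omega
    have c4 : χ'.1 w = -1 := by
      rcases c1 with rfl | rfl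
      exacts [by simpa using v1, by simpa using v1']
    rw [k, T.βz h z1 z2 z3 z4 z5 (Or.inl rfl), c4, v1] at c3
    rw [v1, v1'] at r1
    obtain ⟨s, s1, s2⟩ := mod8 (perfect (nc h)) (char_of_irr ψ.2) (w1 ▸ pow_orderOf_eq_one w)
      ((T.conjψ h w).trans (T.T.rel w n11).2) (n := 16) (s := 0)
      (by rw [irr_apply_one_eq ψ.2, T.T.dψ]; rfl) (by rw [k, z4]; simp)
    have : (s : ℂ) = (2 : ℤ) := by
      push_cast at r1 c3 ⊢
      linear_combination -s1 + r1 / 2 - c3 / 2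
    have : s = 2 := by exact_mod_cast this
    omega
  · exfalso
    have k : ∀ χ : IrrCharacter G, χ.1 (w ^ 2) = χ.1 u := fun χ =>
      (classFun_of_isConj (irr_classFun χ.2) (z3.trans e)).symm
    obtain ⟨e1, e2, -, e4, -⟩ := T.valβ h (Or.inl rfl)
    obtain ⟨e1', e2', -, e4', -⟩ := T.valβ h (Or.inr rfl)
    obtain ⟨v, k1, l1, v1, v2, v3, v4⟩ := T.valw h w1 w2 w3 w4 (Or.inl rfl) (s := -1)
      (by rw [k, e4]; simp)
    obtain ⟨v', k2, l2, v1', v2', v3', v4'⟩ := T.valw h w1 w2 w3 w4 (Or.inr rfl) (s := -1)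
      (by rw [k, e4']; simp)
    obtain rfl : v = 1 := by omega
    obtain rfl : v' = 1 := by omega
    have c4 : χ'.1 w = 1 := by
      rcases c1 with rfl | rfl
      exacts [by simpa using v1, by simpa using v1']
    obtain ⟨u1, -, u3, -⟩ := T.atu h
    rw [k, e4, c4, v1] at c3
    rw [v1, v1'] at r1
    have c5 := T.symψ h n11
    rw [← pow_two w, k, u1] at c5
    have c6 : b.1 w = -2 := by push_cast at c3; linear_combination -c3
    have c7 : ψ.1 w = -2 := by push_cast at r1; linear_combination r1 / 2 + c6 / 2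
    rw [c6, c7] at c5
    have c8 : p.1 w = 8 := by linear_combination -c5
    obtain ⟨n, hn⟩ := exists_av (T.prodβ h) (zpowers y ⊔ zpowers w)
    rw [av_yw (T.prodβ h) T.C.hy w1 w2 (by
      simp only [Pi.sub_apply, Pi.mul_apply, v1, v1', c8, map_sub, map_mul, map_intCast, map_ofNat])
      (c := 0) fun j hj => by
        simp [e2 j hj, e2' j hj, (T.val5 _ (orderOf_xp T.C.hy hj).symm.dvd).1],
      div_eq_iff (by norm_num)] at hn
    simp only [Pi.sub_apply, Pi.mul_apply, v1, v1', c8, k, e4, e4', u3, irr_apply_one_eq β.2,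
      irr_apply_one_eq β'.2, irr_apply_one_eq p.2, e1, e1', T.dp] at hn
    have : (-40 : ℤ) = n * 20 := by
      refine Int.cast_injective (α := ℂ) ?_
      push_cast at hn ⊢
      linear_combination hn
    omega

end Tab

theorem card_cases (h : Nat.card G = 95040) (C : Ctx x y u) {H : Subgroup G} (h1 : x ∈ H)
    (h2 : y ∈ H) : Nat.card H = 55 ∨ Nat.card H = 660 ∨ Nat.card H = 7920 ∨ H = ⊤ := by
  obtain ⟨r, h3, h4⟩ := card_of_NN_le C.sx.isSylGen (H := H)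
    (C.gen ▸ sup_le (zpowers_le.2 h1) (zpowers_le.2 h2))
  rw [C.sx.card_NN, C.ex] at h3
  have h5 : r ∣ 1728 := Nat.dvd_of_mul_dvd_mul_left (by decide : 0 < 55)
    (h3 ▸ (card_subgroup_dvd_card H).trans h.dvd)
  have h6 : ∀ r ∈ Nat.divisors 1728, r % 11 = 1 → r = 1 ∨ r = 12 ∨ r = 144 ∨ r = 1728 := by
    decide +kernel
  rcases h6 r (Nat.mem_divisors.2 ⟨h5, by decide⟩) h4 with rfl | rfl | rfl | rfl
  · exact Or.inl h3
  · exact Or.inr (Or.inl h3)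
  · exact Or.inr (Or.inr (Or.inl h3))
  · exact Or.inr (Or.inr (Or.inr (eq_top_of_card_eq _ (h3.trans h.symm))))

omit [IsSimpleGroup G] in
theorem Ctx.card_inf (C : Ctx x y u) (w1 : orderOf w = 4) (w2 : w * y * w⁻¹ = y ^ 2)
    {L : Subgroup G} (h1 : y ∈ L) (h2 : w ∈ L) : ∃ n r, Nat.card L = n * r ∧ r % 5 = 1 ∧
      (n = 20 ∨ n = 40) ∧ (u ∈ L → n = 40) := by
  obtain ⟨r, h3, h4⟩ := card_inf_NN C.sy h1
  have wN := mem_NN_of_pow C.hy w2
  have h5 : Nat.card (NN y) = 40 := by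
    have := card_mul_index ((CC y).subgroupOf (NN y))
    rw [Nat.card_congr (subgroupOfEquivOfLe (CC_le_NN y)).toEquiv, C.card_CC] at this
    rw [← this, show ((CC y).subgroupOf (NN y)).index = 4 from C.ey]
  have h6 : zpowers y ⊔ zpowers w ≤ NN y ⊓ L := le_inf (sup_le le_normalizer (zpowers_le.2 wN))
    (sup_le (zpowers_le.2 h1) (zpowers_le.2 h2))
  have h7 := card_sup C.hy wN fun i hi => eq_one_of_mem C.hy (by rw [w1]; decide) hi
  have h8 := card_dvd_of_le h6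
  have h9 := card_dvd_of_le (inf_le_left (a := NN y) (b := L))
  rw [h5] at h9
  rw [w1] at h7
  rw [h7] at h8
  have h10 : Nat.card ↥(NN y ⊓ L) = 20 ∨ Nat.card ↥(NN y ⊓ L) = 40 := by
    have := Nat.le_of_dvd (by decide) h9
    have := Nat.card_pos (α := ↥(NN y ⊓ L))
    omega
  refine ⟨_, r, h3, h4, h10, fun hu => h10.resolve_left fun e => ?_⟩
  have h11 : u ∈ zpowers y ⊔ zpowers w :=
    eq_of_le_of_card_ge h6 (by rw [e, h7]) ▸ mem_inf.2 ⟨CC_le_NN y C.uC, hu⟩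
  obtain ⟨i, hi, j, e'⟩ := (mem_sup_iff' C.hy wN).1 h11
  have h12 := pow_eq_of_CC C.hy w2 (i := i) ((mul_mem_cancel_right (xp_mem_CC j)).1 (e' ▸ C.uC))
  rw [w1] at hi
  obtain rfl : i = 0 := by interval_cases i <;> first | rfl | exact absurd h12 (by decide)
  rw [pow_zero, one_mul] at e'
  exact C.u1 (by simpa using eq_one_of_mem C.hy (g := u) (by rw [C.hu]; decide) (i := 1) (by
    rw [pow_one, ← e']; exact xp_mem j))

omit [IsSimpleGroup G] in
theorem Ctx.ord (C : Ctx x y u) (h : Nat.card G = 95040) (g : G) : g ^ 10 = 1 ∨ g ^ 19008 = 1 := by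
  simp only [← orderOf_dvd_iff_pow_eq_one]
  by_cases h5 : 5 ∣ orderOf g
  · obtain ⟨j, v, -, hv, e⟩ := C.sy.exists_isConj_of_dvd h5
    rw [ord_conj e, ← C.card_CC]
    exact Or.inl (Subgroup.orderOf_dvd_natCard _ (mul_mem (xp_mem_CC j) (C.sy.VV_le hv)))
  · exact Or.inr (Nat.Coprime.dvd_of_dvd_mul_left (m := 5) (fact5.out.coprime_iff_not_dvd.2 h5).symm
      ((orderOf_dvd_natCard g).trans h.dvd))

theorem main (h : Nat.card G = 95040) : ∃ φ : G →* Equiv.Perm (Fin 12), Function.Injective φ ∧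
    φ.range = CA.H28Coord.G12.gen [CA.H28Coord.cX, CA.H28Coord.cY, cW, cV] := by
  obtain ⟨x, y, u, a, b, c, f, ψ, ψ', p, q, r, β, β', ι, T⟩ := exists_Tab h
  obtain ⟨w, w1, w2, χ, hχ, hB⟩ := T.exists_w h
  obtain ⟨e1, e2, -, -, e5⟩ := T.valβ h hχ
  have C := T.C
  have hA : av χ.1 (zpowers x ⊔ zpowers y) = (1 : ℕ) := by
    rw [av_xy C.sx C.hy C.yN C.yC (irr_classFun χ.2) e5 e2, irr_apply_one_eq χ.2, e1]; norm_num
  have hD : av χ.1 (zpowers y) = (3 : ℕ) := by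
    rw [av_y C.hy e2, irr_apply_one_eq χ.2, e1]; norm_num
  have hH := sup_ne_top (fun e => by rw [e, degree_one] at e1; omega) le_sup_right le_sup_left
    hA hB hD (by decide)
  have m1 := mem_sup_left (T := zpowers y ⊔ zpowers w) (mem_sup_left (T := zpowers y)
    (mem_zpowers x))
  have m2 := mem_sup_left (T := zpowers y ⊔ zpowers w) (mem_sup_right (S := zpowers x)
    (mem_zpowers y))
  have m3 := mem_sup_right (S := zpowers x ⊔ zpowers y) (mem_sup_right (S := zpowers y)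
    (mem_zpowers w))
  refine ident (C.ord h) C.sx.ord C.yx w2 (mem_CC.1 C.uC) C.uu C.u1 m1 m2 m3 ?_
    fun L l1 l2 l3 l4 => ?_
  · have h2 := card_mul_index (zpowers x ⊔ zpowers y ⊔ (zpowers y ⊔ zpowers w))
    obtain ⟨n, r, h3, h4, h5, -⟩ := C.card_inf w1 w2 m2 m3
    rcases card_cases h C m1 m2 with e | e | e | e
    · rw [e] at h3; rcases h5 with rfl | rfl <;> omega
    · rw [e] at h3; rcases h5 with rfl | rfl <;> omega
    · rw [e, h] at h2; omega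
    · exact absurd e hH
  · obtain ⟨n, r, h3, h4, -, h5⟩ := C.card_inf w1 w2 l2 l3
    rw [h5 l4] at h3
    rcases card_cases h C l1 l2 with e | e | e | e
    · omega
    · omega
    · omega
    · exact e

theorem uniq {G' : Type*} [Group G'] [Finite G'] [IsSimpleGroup G'] (h : Nat.card G = 95040)
    (h' : Nat.card G' = 95040) : Nonempty (G ≃* G') := by
  obtain ⟨φ, h1, h2⟩ := main h
  obtain ⟨φ', h1', h2'⟩ := main h'
  exact ⟨(φ.ofInjective h1).trans ((MulEquiv.subgroupCongr (h2.trans h2'.symm)).trans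
    (φ'.ofInjective h1').symm)⟩

end CA.H7M12
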