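import Mathlib
import Cfsg.Agent.Lib.Block.H7M12g
import Cfsg.Agent.Lib.Grp.H28Nse
import Cfsg.Agent.Lib.Block.H28Br8

/-! Simple groups whose order is divisible by 11 and divides 95040. -/

set_option autoImplicit false

namespace CA.H7Deg12

open Cfsg Finset Subgroup CA.H28Syl CA.H28SC CA.H28Prin CA.H28Sol CA.H28Trick CA.H28Br2 CA.H28BT
open CChar.CharRep CChar.CharFun CChar.CharOrth CChar.CharInt CChar.CharKer CA.H28Simp
open CA.H28M11 CA.H28Syl2 CA.H7M12

variable {G : Type*} [Group G] [Finite G]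

theorem no15840 [IsSimpleGroup G] (h : Nat.card G = 15840) : False := by
  have hc : ¬ IsMulCommutative G := not_comm_of_card (by rw [h]; norm_num)
  obtain ⟨x, hx⟩ := exists_isSylGen (G := G) (p := 11) (by rw [h]; decide) (by rw [h]; decide)
  obtain ⟨d⟩ := exists_P1 hx
  obtain ⟨s, hs, l, H⟩ := has_of_check hc hx d (al := fun _ => true) (B := 126)
    (S := [(144, 10, 32, [12, 12, -32, -32, -32, -32, 45, 45, 45]),
      (144, 10, -12, [12, -32, -32, -32, -32, -32, 45, 45, 45]),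
      (144, 10, -45, [12, 12, -32, -32, -32, -32, -32, 45, 45])]) h (fun _ _ => rfl)
    (by decide +kernel)
  obtain ⟨sx, ex, hal⟩ : SC 11 x ∧ ee x = 10 ∧ ∀ χ : IrrCharacter G, ¬ 11 ∣ charDegree χ.1 →
      charDegree χ.1 ∈ [1, 12, 32, 45] := by
    simp only [List.mem_cons, List.not_mem_nil, or_false] at hs
    rcases hs with rfl | rfl | rfl <;>
      exact ⟨H.sc hx h, H.ee_eq, deg_mem H (H.sc hx h) (by simp) (by simp) (by simp)⟩
  obtain ⟨n, n1, n2, n3, n4, -⟩ := SC.gen sx (a := 2) (ex ▸ (orderOf_eq_iff (by decide)).2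
    ⟨by decide, by decide⟩) (by omega)
  rw [ex] at n3
  have y1 : orderOf (n ^ 2) = 5 := by rw [orderOf_pow, n3]; rfl
  have t1 : orderOf (n ^ 5) = 2 := by rw [orderOf_pow, n3]; rfl
  have sy := isSylGen_of_not_sq_dvd y1 (by rw [h]; decide)
  obtain ⟨d'⟩ := exists_P1 sy
  obtain ⟨s', hs', l', H'⟩ := has_of_check hc sy d' (B := 126)
    (al := fun z => z % 11 == 0 || [1, 12, 32, 45].contains z)
    (S := [(66, 2, 12, [11]), (396, 2, 12, [11])]) h (fun χ _ => by
      by_cases e : 11 ∣ charDegree χ.1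
      · simp [Nat.mod_eq_zero_of_dvd e]
      · simp only [Bool.or_eq_true, List.contains_iff_mem]; exact Or.inr (hal χ e))
    (by decide +kernel)
  have h1 := H'.deg
  have h2 : s'.2.2.2 = [11] := by
    simp only [List.mem_cons, List.not_mem_nil, or_false] at hs'
    rcases hs' with rfl | rfl <;> rfl
  rw [h2] at h1
  simp only [List.map_eq_cons_iff, List.map_eq_nil_iff] at h1
  obtain ⟨χ, _, rfl, hχ, rfl⟩ := h1
  obtain ⟨c1, c2⟩ := H'.pos (z := 11) (by simp) hχ
  have v : ∀ g, 5 ∣ orderOf g → χ.1 g = (1 : ℤ) := fun g hg =>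
    c1 ▸ d'.valX' sy (H'.mem' (by simp)) hg
  have tC : n ^ 5 ∈ CC (n ^ 2) := mem_CC.2 (by rw [← pow_add, ← pow_add])
  obtain ⟨a, a1, a2, a3, a4⟩ := inv_val' hc c2 (by decide) t1
  have h3 := mod5 y1 t1 tC c2 a1 (fun j hj => v _ (orderOf_xp y1 hj).symm.dvd)
    fun j hj => v _ (sy.dvd_orderOf_xp_mul hj (sy.mem_VV.2 ⟨tC, by rw [t1]; decide⟩))
  obtain rfl : a = -9 := by omega
  obtain ⟨k, hk⟩ := exists_av (char_of_irr χ.2) (zpowers x ⊔ zpowers (n ^ 5))
  rw [av_sup sx.ord (pow_mem n1 5) (fun i hi => by rw [← pow_mul] at hi ⊢; exact n4 _ hi)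
    (irr_classFun χ.2) (m := 1) t1, sum_xp_const fun j hj => vanish' hx c2.symm.dvd
      (orderOf_xp sx.ord hj).symm.dvd, sum_range_one, zero_add, pow_one, a1,
    irr_apply_one_eq χ.2, c2, inv_mul_eq_iff_eq_mul₀ (by norm_num)] at hk
  have : (-88 : ℤ) = 22 * k := by
    refine Int.cast_injective (α := ℂ) ?_
    push_cast at hk ⊢
    linear_combination hk
  omega

theorem no47520 [IsSimpleGroup G] (h : Nat.card G = 47520) : False := by
  have hc : ¬ IsMulCommutative G := not_comm_of_card (by rw [h]; norm_num)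
  obtain ⟨x, hx⟩ := exists_isSylGen (G := G) (p := 11) (by rw [h]; decide) (by rw [h]; decide)
  obtain ⟨d⟩ := exists_P1 hx
  obtain ⟨s, hs, l, H⟩ := has_of_check hc hx d (al := fun _ => true) (B := 218)
    (S := [(144, 10, 32, [-32, -32, -32, -32, 45, 45, 45, -120, 144]),
      (144, 10, -45, [-32, -32, -32, -32, -32, 45, 45, -120, 144]),
      (144, 10, 120, [-32, -32, -32, -32, -32, 45, 45, 45, 144]),
      (144, 10, -144, [-32, -32, -32, -32, -32, 45, 45, 45, -120])]) h (fun _ _ => rfl)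
    (by decide +kernel)
  obtain ⟨hN, he⟩ : s.1 = 144 ∧ s.2.1 = 10 := by
    simp only [List.mem_cons, List.not_mem_nil, or_false] at hs
    rcases hs with rfl | rfl | rfl | rfl <;> exact ⟨rfl, rfl⟩
  have hV := H.card_VV hx
  rw [hN, he, h] at hV
  obtain ⟨r, hr, r1, r2⟩ := exists_mul_VV hx Nat.prime_three (by omega)
  have h1 : zpowers r = VV 11 x := eq_of_le_of_card_ge (zpowers_le.2 hr) (by
    rw [Nat.card_zpowers, r1]; omega)
  have h2 : NN x ≤ normalizer (zpowers r : Set G) := fun n hn =>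
    mem_normalizer_fintype fun g hg => by rw [h1] at hg ⊢; exact conj_mem_VV hx hn hg
  have h3 : Nat.card (NN x) = 330 := by
    have := card_mul_index (NN x)
    rw [← hx.card_sylow, H.syl, hN, h] at this
    omega
  obtain ⟨m, h4, h5⟩ := card_of_NN_le hx h2
  have h6 := card_mul_index (normalizer (zpowers r : Set G))
  have h7 : 3 ^ (1 + 1) ∣ Nat.card (normalizer (zpowers r : Set G)) :=
    Sylow.prime_pow_dvd_card_normalizer (by rw [h]; norm_num) (by rw [Nat.card_zpowers, r1]; rfl)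
  have h8 : normalizer (zpowers r : Set G) ≠ ⊤ := normalizer_ne_top (fun e => by
    rw [zpowers_eq_bot.1 e, orderOf_one] at r1; omega) fun e => by
      have := Nat.card_zpowers r
      rw [e, card_top, h, r1] at this; omega
  rw [h3] at h4
  rw [h4, h] at h6
  have h9 : m ∣ 144 := ⟨_, Nat.eq_of_mul_eq_mul_left (show 0 < 330 by norm_num)
    (by rw [← mul_assoc, h6])⟩
  have h10 : m = 1 ∨ m = 12 ∨ m = 144 := by
    have := Nat.le_of_dvd (by decide) h9
    interval_cases m <;> omega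
  rcases h10 with rfl | rfl | rfl
  · rw [h4] at h7; norm_num at h7
  · obtain ⟨f, hf⟩ := embed_alt hc _ h8
    refine perm_ne_33 (by rw [Fintype.card_fin]; omega) (f (x * r)).1 ?_
    rw [Subgroup.orderOf_coe, orderOf_injective f hf, r2]
  · exact h8 (eq_top_of_card_eq _ (h4.trans h.symm))

theorem ord_simple [IsSimpleGroup G] (hc : ¬ IsMulCommutative G) (h1 : 11 ∣ Nat.card G)
    (h2 : Nat.card G ∣ 95040) : Nat.card G = 660 ∨ Nat.card G = 7920 ∨ Nat.card G = 95040 := by
  obtain ⟨x, hx⟩ := exists_isSylGen h1 fun e => absurd (e.trans h2) (by decide)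
  obtain ⟨d⟩ := exists_P1 hx
  obtain ⟨m, hm⟩ := h1
  have h3 : m ∣ 8640 := Nat.dvd_of_mul_dvd_mul_left (by decide : 0 < 11) (hm ▸ h2)
  have key : ∀ m ∈ Nat.divisors 8640, m ∈ [60, 720, 1440, 4320, 8640] ∨
      checkS [] (fun _ => true) (11 * m) 11 309 = true := by decide +kernel
  rcases key m (Nat.mem_divisors.2 ⟨h3, by decide⟩) with e | e
  · simp only [List.mem_cons, List.not_mem_nil, or_false] at e
    rcases e with rfl | rfl | rfl | rfl | rfl
    exacts [Or.inl hm, Or.inr (Or.inl hm), (no15840 hm).elim, (no47520 hm).elim, Or.inr (Or.inr hm)]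
  · obtain ⟨s, hs, -⟩ := has_of_check hc hx d hm (fun _ _ => rfl) e
    simp at hs

theorem cent {K : Subgroup G} [K.Normal] {x : G} (hx : orderOf x = 11) (hK : Nat.card K ∣ 8640) :
    K ≤ CC x := by
  classical
  rw [← subgroupOf_eq_top, ← index_eq_one]
  by_contra h
  obtain ⟨q, hq, hd⟩ := Nat.exists_prime_and_dvd h
  have := Fact.mk hq
  let σ : MulAut K := MulAut.conjNormal x
  have h1 : σ ^ 11 = 1 := by rw [← map_pow, ← hx, pow_orderOf_eq_one, map_one]
  have h2 : IsPGroup 11 (zpowers σ) := IsPGroup.of_card_dvd_pow (n := 1) (by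
    rw [Nat.card_zpowers, pow_one]; exact orderOf_dvd_of_pow_eq_one h1)
  obtain ⟨Q⟩ : Nonempty (Sylow q K) := inferInstance
  obtain ⟨Q, hQ⟩ := h2.nonempty_fixed_point_of_prime_not_dvd_card (Sylow q K) fun e =>
    absurd (e.trans (Q.card_dvd_index.trans ((index_dvd_card _).trans hK))) (by decide)
  have h3 : ∀ k ∈ (Q : Subgroup K), σ k ∈ (Q : Subgroup K) := fun k hk => by
    have e := congrArg Sylow.toSubgroup (hQ ⟨σ, mem_zpowers σ⟩)
    rw [← e]
    exact smul_mem_pointwise_smul k _ _ hk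
  let f : Function.End Q := fun k => ⟨σ k, h3 _ k.2⟩
  have h4 : ∀ (n : ℕ) (k : Q), ((f ^ n) k : K) = (σ ^ n) k := fun n => by
    induction n with
    | zero => exact fun k => rfl
    | succ n ih => exact fun k => by rw [pow_succ, pow_succ]; exact ih (f k)
  have := Fintype.ofFinite Q
  have h5 := Equiv.Perm.card_fixedPoints_modEq (f := f) (p := 11) (n := 1)
    (funext fun k => Subtype.ext (by rw [pow_one, h4, h1]; rfl))
  let D := ((CC x).subgroupOf K).subgroupOf Q
  have h6 : Nat.card f.fixedPoints = Nat.card D := by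
    refine Nat.card_congr (Equiv.subtypeEquivRight fun k => ?_)
    rw [mem_subgroupOf, mem_subgroupOf, mem_CC, eq_comm, ← mul_inv_eq_iff_eq_mul]
    exact ⟨fun e => congrArg (fun k : Q => ((k : K) : G)) e, fun e => Subtype.ext (Subtype.ext e)⟩
  rw [← Nat.card_eq_fintype_card, ← Nat.card_eq_fintype_card, h6, ← card_mul_index D] at h5
  have h7 : Nat.card Q ∣ 8640 := (card_subgroup_dvd_card _).trans hK
  have h8 : D.index ≡ 1 [MOD 11] := Nat.ModEq.cancel_left_of_coprime
    (Nat.Coprime.coprime_dvd_right ((card_subgroup_dvd_card D).trans h7) (by decide))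
    (by rwa [mul_one])
  obtain ⟨c, hc⟩ := Q.2.index D
  have h9 : c = 0 := by
    by_contra e
    exact CA.H28Nse.pow_check (p := 11) (n := 8640) (B := 14) (by decide) (by decide)
      (by decide +kernel) q c hq (Nat.pos_of_ne_zero e) (hc ▸ (index_dvd_card D).trans h7) (hc ▸ h8)
  rw [h9, pow_zero, index_eq_one, subgroupOf_eq_top] at hc
  exact Q.not_dvd_index (hd.trans (index_dvd_of_le hc))

theorem normal_cases {x : G} (hx : IsSylGen 11 x) (h : Nat.card G ∣ 95040)
    (N : Subgroup (normalClosure ({x} : Set G))) [N.Normal] : N = ⊤ ∨ N ≤ center _ := by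
  have m : x ∈ normalClosure ({x} : Set G) := subset_normalClosure rfl
  have sx := CA.H28Br6.isSylGen_subgroup hx m
  by_cases h1 : 11 ∣ Nat.card N
  · refine Or.inl (eq_top_iff.2 fun g _ => ?_)
    have h2 : normalClosure ({x} : Set G) ≤ N.map (Subgroup.subtype _) := by
      refine (closure_le _).2 fun z hz => ?_
      obtain ⟨a, rfl, ha⟩ := Group.mem_conjugatesOfSet_iff.1 hz
      have m' : z ∈ normalClosure ({a} : Set G) :=
        conjugatesOfSet_subset_normalClosure hz
      exact ⟨⟨z, m'⟩, mem_of_dvd_card (isSylGen_of_not_sq_dvd (by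
        rw [Subgroup.orderOf_mk, ord_conj ha, hx.ord]) sx.not_sq_dvd) N h1, rfl⟩
    obtain ⟨z, hz, e⟩ := h2 g.2
    exact (Subtype.ext e : z = g) ▸ hz
  · refine Or.inr ((CA.H28Br8.le_pPrimeCore' h1).trans (CA.H28Br8.pPrimeCore_KK_le ?_))
    have : (pPrimeCore 11 G).Normal := inferInstance
    exact cent hx.ord (Nat.Coprime.dvd_of_dvd_mul_left (m := 11) (fact11.out.coprime_iff_not_dvd.2
      (CA.H28Br8.not_dvd_card_pPrimeCore G)).symm ((card_subgroup_dvd_card _).trans h))

theorem simple_quot {L : Type*} [Group L] (h : ∀ (N : Subgroup L) [N.Normal], N = ⊤ ∨ N ≤ center L)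
    (hc : center L ≠ ⊤) : IsSimpleGroup (L ⧸ center L) ∧ ¬ IsMulCommutative (L ⧸ center L) ∧
      commutator L = ⊤ := by
  have h0 : Nontrivial (L ⧸ center L) := QuotientGroup.nontrivial_iff.2 hc
  have h1 : IsSimpleGroup (L ⧸ center L) := ⟨fun N hN => by
    rcases h (N.comap (QuotientGroup.mk' _)) with e | e
    · exact Or.inr (comap_injective (QuotientGroup.mk'_surjective _) (e.trans (comap_top _).symm))
    · refine Or.inl (eq_bot_iff.2 fun n hn => ?_)
      obtain ⟨g, rfl⟩ := QuotientGroup.mk_surjective n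
      exact (QuotientGroup.eq_one_iff g).2 (e hn)⟩
  have h2 : ¬ IsMulCommutative (L ⧸ center L) := fun e => by
    have : IsCyclic (L ⧸ center L) := by
      letI : CommGroup (L ⧸ center L) := { mul_comm := e.1.1 }
      infer_instance
    exact hc (eq_top_iff.2 fun a _ => mem_center_iff.2 fun b =>
      commutative_of_cyclic_center_quotient (QuotientGroup.mk' (center L))
        (QuotientGroup.ker_mk' _).le b a)
  refine ⟨h1, h2, (h _).resolve_right fun e => h2 ⟨⟨fun a b => ?_⟩⟩⟩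
  obtain ⟨a, rfl⟩ := QuotientGroup.mk_surjective a
  obtain ⟨b, rfl⟩ := QuotientGroup.mk_surjective b
  rw [← commutatorElement_eq_one_iff_mul_comm]
  exact (QuotientGroup.eq_one_iff (a * b * a⁻¹ * b⁻¹)).2
    (e (commutator_mem_commutator (mem_top a) (mem_top b)))

theorem deg55 [IsSimpleGroup G] (h : Nat.card G = 95040) :
    (∃ χ : IrrCharacter G, 5 * 11 ∣ charDegree χ.1) ∧ ∃ χ : IrrCharacter G, 3 * 11 ∣ charDegree χ.1 := by
  obtain ⟨x, y, u, a, b, c, f, ψ, ψ', p, q, r, β, β', ι, T⟩ := exists_Tab h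
  refine ⟨by_contra fun e => ?_, p, by rw [T.dp]; decide⟩
  have s7 := sum_charDegree_sq (G := G)
  rw [split2 T.nd ∅ (by simp) _ fun χ e1 _ => absurd ⟨χ, T.rest χ e1⟩ e, h] at s7
  simp [degree_one, T.T.da, T.T.db, T.T.dc, T.T.df, T.T.dψ, T.T.dψ', T.dp, T.dq, T.dr,
    (T.real h).1, (T.real h).2.1] at s7

theorem not33 [IsSimpleGroup G] (h : Nat.card G = 7920) (χ : IrrCharacter G)
    (h1 : 11 ∣ charDegree χ.1) : ¬ 3 ∣ charDegree χ.1 := by
  obtain ⟨a, b, c, f, ψ, ψ', α, β, γ, T⟩ := CA.H28M11.exists_Tab h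
  have := T.all χ
  simp only [List.mem_cons, List.not_mem_nil, or_false] at this
  rcases this with rfl | rfl | rfl | rfl | rfl | rfl | rfl | rfl | rfl | rfl <;>
    simp [degree_one, T.da, T.db, T.dc, T.df, T.dψ, T.dψ', T.dα, T.dβ, T.dγ] at h1 ⊢

end CA.H7Deg12
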