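import Mathlib
import Cfsg.Agent.Lib.Block.H7Deg12
import Cfsg.Agent.Lib.Block.BlkCov
import Cfsg.Agent.S0169

/-! The normal closure of a Sylow subgroup of prime order. -/

set_option autoImplicit false

namespace CA.H7Gr

open Cfsg Subgroup CA.H28Syl CA.H7Deg12 CChar.CharInt CChar.CharKer CChar.CharFun
open CA.H28Syl2 CA.H28SC CA.H28Sol CA.H28M11 CA.H7M12

variable {G : Type*} [Group G] [Finite G] {p : ℕ} [hp : Fact p.Prime] {x : G}

theorem idx_mod (hx : orderOf x = p) {A : Subgroup G} (hA : ∀ a ∈ A, x * a * x⁻¹ ∈ A)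
    (h : ¬ p ∣ Nat.card A) : ((CC x).subgroupOf A).index ≡ 1 [MOD p] := by
  classical
  let f : Function.End A := fun k => ⟨x * k * x⁻¹, hA _ k.2⟩
  have h4 : ∀ (n : ℕ) (k : A), ((f ^ n) k : G) = x ^ n * k * (x ^ n)⁻¹ := fun n => by
    induction n with
    | zero => exact fun k => by simp; rfl
    | succ n ih =>
      intro k
      rw [pow_succ, pow_succ]
      exact (ih (f k)).trans (by simp only [f, mul_assoc, mul_inv_rev])
  have := Fintype.ofFinite A
  have h5 := Equiv.Perm.card_fixedPoints_modEq (f := f) (p := p) (n := 1)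
    (funext fun k => Subtype.ext (by rw [pow_one, h4, ← hx, pow_orderOf_eq_one]; simp; rfl))
  have h6 : Nat.card f.fixedPoints = Nat.card ((CC x).subgroupOf A) := by
    refine Nat.card_congr (Equiv.subtypeEquivRight fun k => ?_)
    rw [mem_subgroupOf, mem_CC, eq_comm, ← mul_inv_eq_iff_eq_mul]
    exact ⟨fun e => congrArg Subtype.val e, fun e => Subtype.ext e⟩
  rw [← Nat.card_eq_fintype_card, ← Nat.card_eq_fintype_card, h6,
    ← card_mul_index ((CC x).subgroupOf A)] at h5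
  exact Nat.ModEq.cancel_left_of_coprime ((hp.out.coprime_iff_not_dvd.2 fun e =>
    h (e.trans (card_subgroup_dvd_card _)))) (by rwa [mul_one])

theorem inv_sylow (hx : orderOf x = p) {K : Subgroup G} [K.Normal] (h : ¬ p ∣ Nat.card K)
    (q : ℕ) [Fact q.Prime] : ∃ Q : Sylow q K, ∀ a ∈ (Q : Subgroup K).map K.subtype,
      x * a * x⁻¹ ∈ (Q : Subgroup K).map K.subtype := by
  let σ : MulAut K := MulAut.conjNormal x
  have h1 : σ ^ p = 1 := by rw [← map_pow, ← hx, pow_orderOf_eq_one, map_one]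
  have h2 : IsPGroup p (zpowers σ) := IsPGroup.of_card_dvd_pow (n := 1) (by
    rw [Nat.card_zpowers, pow_one]; exact orderOf_dvd_of_pow_eq_one h1)
  obtain ⟨Q⟩ : Nonempty (Sylow q K) := inferInstance
  obtain ⟨Q, hQ⟩ := h2.nonempty_fixed_point_of_prime_not_dvd_card (Sylow q K) fun e =>
    h (e.trans (Q.card_dvd_index.trans (index_dvd_card _)))
  refine ⟨Q, ?_⟩
  rintro _ ⟨k, hk, rfl⟩
  refine ⟨σ k, ?_, rfl⟩
  have e := congrArg Sylow.toSubgroup (hQ ⟨σ, mem_zpowers σ⟩)
  rw [← e]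
  exact smul_mem_pointwise_smul k _ _ hk

theorem ito (H : Subgroup G) [H.Normal] (hH : ∀ a ∈ H, ∀ b ∈ H, a * b = b * a)
    (χ : IrrCharacter G) : charDegree χ.1 ∣ H.index := by
  obtain ⟨_, n, ρ, hρ, rfl⟩ := χ
  have : charDegree ρ.character = Module.finrank ℂ (Fin n → ℂ) := by simp [charDegree]
  exact this ▸ Cfsg.Agent.S0169.result ρ H hH

theorem cent (hx : orderOf x = p) {K : Subgroup G} [hK : K.Normal] (h : ¬ p ∣ Nat.card K) {q : ℕ}
    (h1 : ∀ r c : ℕ, r.Prime → 0 < c → r ^ c ∣ Nat.card K → r ^ c ≡ 1 [MOD p] → r = q ∧ c = 3)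
    (h2 : ¬ q ^ 4 ∣ Nat.card G) (h3 : ∃ χ : IrrCharacter G, q ∣ charDegree χ.1) : K ≤ CC x := by
  rw [← subgroupOf_eq_top, ← index_eq_one]
  by_contra h4
  have key : ∀ r : ℕ, r.Prime → r ∣ ((CC x).subgroupOf K).index → r = q ∧ ∃ Q : Subgroup G,
      Q ≤ K ∧ IsPGroup r Q ∧ (∀ a ∈ Q, x * a * x⁻¹ ∈ Q) ∧ ((CC x).subgroupOf Q).index = q ^ 3 ∧
      ¬ r ∣ Q.relIndex K := fun r hr hd => by
    have := Fact.mk hr
    obtain ⟨Q, hQ⟩ := inv_sylow hx h r
    have k1 : IsPGroup r ((Q : Subgroup K).map K.subtype) := Q.isPGroup'.map _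
    have k2 := card_dvd_of_le (map_subtype_le (Q : Subgroup K))
    have k3 := idx_mod hx hQ fun e => h (e.trans k2)
    obtain ⟨c, hc⟩ := k1.index ((CC x).subgroupOf _)
    have k4 : ¬ r ∣ ((Q : Subgroup K).map K.subtype).relIndex K := by
      rw [relIndex, subgroupOf, comap_map_eq_self_of_injective (subtype_injective K)]
      exact Q.not_dvd_index
    have k5 : 0 < c := Nat.pos_of_ne_zero fun e => by
      rw [e, pow_zero, index_eq_one, subgroupOf_eq_top] at hc
      exact k4 (hd.trans (relIndex_dvd_of_le_left K hc))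
    obtain ⟨rfl, rfl⟩ := h1 r c hr k5 (hc ▸ (index_dvd_card _).trans k2) (hc ▸ k3)
    exact ⟨rfl, _, map_subtype_le _, k1, hQ, hc, k4⟩
  obtain ⟨r, hr, hd⟩ := Nat.exists_prime_and_dvd h4
  obtain ⟨rfl, Q, q1, q2, q3, q4, q5⟩ := key r hr hd
  have := Fact.mk hr
  have le3 : ∀ c : ℕ, r ^ c ∣ Nat.card G → c ≤ 3 := fun c e => by
    by_contra e'
    exact h2 ((pow_dvd_pow r (by omega)).trans e)
  obtain ⟨c, hc⟩ := IsPGroup.iff_card.1 q2
  have c3 : c = 3 := le_antisymm (le3 c (hc ▸ card_subgroup_dvd_card Q))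
    ((Nat.pow_dvd_pow_iff_le_right hr.one_lt).1 (q4 ▸ hc ▸ index_dvd_card _))
  subst c3
  have k1 : ∀ u ∈ Q, u * x = x * u → u = 1 := fun u hu e => by
    have k1 := card_mul_index ((CC x).subgroupOf Q)
    rw [q4, hc, Nat.mul_eq_right (pow_pos hr.pos 3).ne', card_eq_one] at k1
    have : (⟨u, hu⟩ : Q) ∈ (CC x).subgroupOf Q := mem_CC.2 e
    rw [k1] at this
    exact congrArg Subtype.val (mem_bot.1 this)
  have k2 : ((CC x).subgroupOf K).index ≤ Nat.card Q := by
    obtain ⟨j, hj⟩ : ∃ j, ((CC x).subgroupOf K).index = r ^ j :=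
      ⟨_, Nat.eq_prime_pow_of_unique_prime_dvd index_ne_zero_of_finite fun hs e => (key _ hs e).1⟩
    rw [hj, hc]
    exact Nat.pow_le_pow_right hr.pos (le3 j (hj ▸ (index_dvd_card _).trans
      (card_subgroup_dvd_card K)))
  have k3 : ∀ k ∈ K, ∃ u ∈ Q, k * x * k⁻¹ = u * x * u⁻¹ := fun k hk => by
    have k3 : Function.Injective fun u : Q => ((⟨u, q1 u.2⟩ : K) : K ⧸ (CC x).subgroupOf K) :=
      fun u v e => Subtype.ext (inv_mul_eq_one.1 (k1 _ (mul_mem (inv_mem u.2) v.2)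
        (mem_CC.1 (mem_subgroupOf.1 ((QuotientGroup.eq (s := (CC x).subgroupOf K)).1 e)))))
    obtain ⟨u, hu⟩ := (k3.bijective_of_nat_card_le k2).2 ((⟨k, hk⟩ : K) : K ⧸ (CC x).subgroupOf K)
    have k4 : (u : G)⁻¹ * k * x = x * ((u : G)⁻¹ * k) := mem_CC.1
      (mem_subgroupOf.1 ((QuotientGroup.eq (s := (CC x).subgroupOf K)).1 hu))
    refine ⟨u, u.2, ?_⟩
    calc k * x * k⁻¹ = u * ((u : G)⁻¹ * k * x) * k⁻¹ := by group
      _ = _ := by rw [k4]; group
  have k4 : ∀ u ∈ Q, u * x * u⁻¹ * x⁻¹ ∈ Q := fun u hu => by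
    simpa only [mul_assoc] using mul_mem hu (q3 _ (inv_mem hu))
  have k5 : ∀ w ∈ Q, ∃ u ∈ Q, w = u * x * u⁻¹ * x⁻¹ := fun w hw => by
    have k5 : Function.Injective fun u : Q => (⟨_, k4 u u.2⟩ : Q) := fun u v e => by
      have e' : (u : G) * x * (u : G)⁻¹ = v * x * (v : G)⁻¹ :=
        mul_right_cancel (congrArg Subtype.val e)
      refine Subtype.ext (inv_mul_eq_one.1 (k1 _ (mul_mem (inv_mem u.2) v.2) ?_))
      calc (u : G)⁻¹ * v * x = (u : G)⁻¹ * (v * x * (v : G)⁻¹) * v := by group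
        _ = _ := by rw [← e']; group
    obtain ⟨u, hu⟩ := Finite.injective_iff_surjective.1 k5 ⟨w, hw⟩
    exact ⟨u, u.2, (congrArg Subtype.val hu).symm⟩
  have k6 : (Q.subgroupOf K).Normal := ⟨fun w hw k => by
    obtain ⟨u, hu, e⟩ := k5 w hw
    obtain ⟨u1, m1, e1⟩ := k3 (k * u) (mul_mem k.2 (q1 hu))
    obtain ⟨u2, m2, e2⟩ := k3 k k.2
    have := mul_mem (k4 u1 m1) (inv_mem (k4 u2 m2))
    rw [← e1, ← e2] at this
    rw [mem_subgroupOf, coe_mul, coe_mul, coe_inv, e]
    convert this using 1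
    group⟩
  let P : Sylow r K := (q2.comap_subtype (K := K)).toSylow q5
  have k7 : (P : Subgroup K).Characteristic := Sylow.characteristic_of_normal P k6
  have k8 : Q.Normal := by
    have : ((P : Subgroup K).map K.subtype).Normal := ConjAct.normal_of_characteristic_of_normal
    rwa [show (P : Subgroup K) = Q.subgroupOf K from rfl, subgroupOf_map_subtype,
      inf_eq_left.2 q1] at this
  have k9 : ∀ a ∈ Q, ∀ b ∈ Q, a * b = b * a := by
    have : Nontrivial Q := Finite.one_lt_card_iff_nontrivial.1 (hc ▸ Nat.one_lt_pow (by decide) hr.one_lt)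
    have z1 := q2.center_nontrivial
    let Z := (center Q).map Q.subtype
    have : Z.Normal := ConjAct.normal_of_characteristic_of_normal
    have z2 : Nat.card Z ∣ Nat.card Q := card_dvd_of_le (map_subtype_le _)
    have z3 := idx_mod hx (A := Z) (fun a ha => this.conj_mem a ha x) fun e =>
      h (e.trans (z2.trans (card_dvd_of_le q1)))
    rw [show (CC x).subgroupOf Z = ⊥ from eq_bot_iff.2 fun u hu => Subtype.ext
      (k1 u (map_subtype_le _ u.2) (mem_CC.1 hu)), index_bot] at z3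
    obtain ⟨j, -, hj⟩ := (Nat.dvd_prime_pow hr).1 (hc ▸ z2)
    have z4 : 0 < j := Nat.pos_of_ne_zero fun e => by
      rw [e, pow_zero, card_map_of_injective (subtype_injective Q)] at hj
      exact (Finite.one_lt_card_iff_nontrivial.2 z1).ne' hj
    obtain ⟨-, rfl⟩ := h1 r j hr z4 (hj ▸ z2.trans (card_dvd_of_le q1)) (hj ▸ z3)
    rw [card_map_of_injective (subtype_injective Q), ← hc] at hj
    intro a ha b hb
    exact congrArg Subtype.val (mem_center_iff.1 (eq_top_of_card_eq _ hj ▸ mem_top (⟨b, hb⟩ : Q))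
      ⟨a, ha⟩)
  obtain ⟨χ, hχ⟩ := h3
  refine h2 ?_
  rw [← card_mul_index Q, hc, pow_succ]
  exact Nat.mul_dvd_mul_left _ (hχ.trans (ito Q k9 χ))

theorem normal_cases (hx : IsSylGen p x) (h : pPrimeCore p G ≤ CC x)
    (N : Subgroup (normalClosure ({x} : Set G))) [N.Normal] : N = ⊤ ∨ N ≤ center _ := by
  have m : x ∈ normalClosure ({x} : Set G) := subset_normalClosure rfl
  have sx := CA.H28Br6.isSylGen_subgroup hx m
  by_cases h1 : p ∣ Nat.card N
  · refine Or.inl (eq_top_iff.2 fun g _ => ?_)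
    have h2 : normalClosure ({x} : Set G) ≤ N.map (Subgroup.subtype _) := by
      refine (closure_le _).2 fun z hz => ?_
      obtain ⟨a, rfl, ha⟩ := Group.mem_conjugatesOfSet_iff.1 hz
      have m' : z ∈ normalClosure ({a} : Set G) :=
        conjugatesOfSet_subset_normalClosure hz
      exact ⟨⟨z, m'⟩, mem_of_dvd_card (isSylGen_of_not_sq_dvd (by
        rw [Subgroup.orderOf_mk, ord_conj ha, hx.ord]) sx.not_sq_dvd) N h1, rfl⟩
    obtain ⟨z, hz, e⟩ := h2 g.2
    exact (Subtype.ext e : z = g) ▸ hz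
  · exact Or.inr ((CA.H28Br8.le_pPrimeCore' h1).trans (CA.H28Br8.pPrimeCore_KK_le h))

/-- The structure of the normal closure `L` of a Sylow `p`-subgroup. -/
structure Nice (p : ℕ) (L : Subgroup G) : Prop where
  normal : L.Normal
  idx : ¬ p ∣ L.index
  cases : ∀ (N : Subgroup L) [N.Normal], N = ⊤ ∨ N ≤ center L
  simple : IsSimpleGroup (L ⧸ center L)
  nc : ¬ IsMulCommutative (L ⧸ center L)
  perfect : commutator L = ⊤
  dvd : p ∣ (center L).index

theorem exists_nice {n q : ℕ} (hn : Nat.card G = n) (h0 : p ∣ n) (h0' : ¬ p ^ 2 ∣ n)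
    (h1 : ∀ r c : ℕ, r.Prime → 0 < c → r ^ c ∣ n → r ^ c ≡ 1 [MOD p] → r = q ∧ c = 3)
    (h2 : ¬ q ^ 4 ∣ n) (h3 : ∃ χ : IrrCharacter G, q ∣ charDegree χ.1)
    (h4 : ∃ χ : IrrCharacter G, p ∣ charDegree χ.1) : ∃ L : Subgroup G, Nice p L := by
  subst hn
  obtain ⟨x, hx⟩ := exists_isSylGen h0 h0'
  have : (pPrimeCore p G).Normal := inferInstance
  have hN := normal_cases hx (cent hx.ord (CA.H28Br8.not_dvd_card_pPrimeCore G)
    (fun r c a1 a2 a3 => h1 r c a1 a2 (a3.trans (card_subgroup_dvd_card _))) h2 h3)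
  have hI := hx.not_dvd_index_of_le (H := normalClosure {x})
    (zpowers_le.2 (subset_normalClosure rfl))
  have hn : (normalClosure ({x} : Set G)).Normal := inferInstance
  generalize normalClosure ({x} : Set G) = L at hN hI hn
  obtain ⟨χ, hχ⟩ := h4
  obtain ⟨θ, hθ⟩ := CA.H12Cover.exists_under L χ
  have h5 := ((CA.BlkCov.not_dvd_degree_iff hp.out hI hθ).1 hχ).trans
    (degree_dvd_index_center θ.2 (irr_apply_one_eq θ.2))
  obtain ⟨s1, s2, s3⟩ := simple_quot hN fun e => by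
    rw [e, index_top] at h5
    exact hp.out.one_lt.ne' (Nat.dvd_one.1 h5)
  exact ⟨L, hn, hI, hN, s1, s2, s3, h5⟩

theorem Nice.mul {L : Subgroup G} :
    Nat.card (center L) * (center L).index * L.index = Nat.card G := by
  rw [card_mul_index, card_mul_index]

theorem Nice.simple_of {L : Subgroup G} (h : Nice p L) (e : (center L).index = Nat.card G) :
    IsSimpleGroup G := by
  have k1 : Nat.card L = Nat.card G := le_antisymm (card_le_card_group L)
    (e ▸ Nat.le_of_dvd Nat.card_pos (index_dvd_card _))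
  obtain rfl := eq_top_of_card_eq L k1
  have := h.simple
  exact (topEquiv.symm.trans (MulEquiv.ofBijective (QuotientGroup.mk' (center (⊤ : Subgroup G)))
    ((Nat.bijective_iff_surjective_and_card _).2
      ⟨QuotientGroup.mk'_surjective _, k1.trans e.symm⟩))).isSimpleGroup

theorem Nice.eq {p' : ℕ} {L L' : Subgroup G} (h : Nice p L) (h' : Nice p' L')
    (e : Nat.card G < (center L).index * (center L').index) : L ≤ L' := by
  have := h'.normal
  refine subgroupOf_eq_top.1 ((h.cases (L'.subgroupOf L)).resolve_right fun e' => ?_)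
  have h1 : (center L).index ≤ L'.index := Nat.le_of_dvd (Nat.pos_of_ne_zero index_ne_zero_of_finite)
    ((index_dvd_of_le e').trans (relIndex_dvd_index_of_normal L' L))
  have h2 : (center L').index ≤ Nat.card L' := Nat.le_of_dvd Nat.card_pos (index_dvd_card _)
  have h3 := card_mul_index L'
  have := Nat.mul_le_mul h1 h2
  rw [mul_comm L'.index] at this
  omega

end CA.H7Gr
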