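import Mathlib
import Cfsg.Agent.Lib.Block.H7M12b
import Cfsg.Agent.Lib.Grp.H7L33P
import Cfsg.Agent.Lib.Grp.H28L33c
import Cfsg.Agent.Lib.Grp.PRes
import Cfsg.Agent.S1012
import Cfsg.Agent.S0204

/-! A simple group of order 5616 is isomorphic to `PSL(3,3)`. -/

set_option autoImplicit false

namespace CA.H7L33

open Cfsg Finset Subgroup CA.H28Syl CA.H28SC CA.H28Prin CA.H28Sol CA.H28Trick CA.H28Br2 CA.H28BT
open CChar.CharRep CChar.CharFun CChar.CharOrth CChar.CharInt CChar.CharKer CA.H28Simp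
open CA.H28M11 CA.BlkCore CA.BlkVal CA.H28Syl2 CA.H28Blk CA.H7M12 CA.CWord
open scoped ComplexConjugate

variable {G : Type*} [Group G] [Finite G]

/-- The class multiplication sum at a self-centralizing element. -/
theorem cls {p : ℕ} [Fact p.Prime] {x : G} (d : P1 p x) (h : SC p x)
    {ψ : IrrCharacter G} (hψ : ψ ∈ d.Y) {t g : G} (ht : ¬ p ∣ orderOf t) (hg : ¬ p ∣ orderOf g) :
    ∑ χ : IrrCharacter G, χ.1 t * χ.1 g * conj (χ.1 x) / χ.1 1 =
      ∑ χ ∈ d.X, d.ε χ * (χ.1 t * χ.1 g) / charDegree χ.1 -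
        d.δ * (ψ.1 t * ψ.1 g) / charDegree ψ.1 := by
  classical
  rw [← Finset.sum_subset (subset_univ (d.X ∪ d.Y)) fun χ _ e => by
      rw [apply_eq_zero_of_dvd h.isSylGen χ.2 (by
        by_contra e'
        exact e (mem_union.2 ((d.mem_iff_not_dvd h.isSylGen h.VV_eq_bot χ).2 e'))) h.ord.symm.dvd]
      simp, sum_union d.disj, Finset.sum_congr rfl (s₁ := d.X)
      (g := fun χ => d.ε χ * (χ.1 t * χ.1 g) / charDegree χ.1) fun χ e => by
        rw [d.valX' h.isSylGen e h.ord.symm.dvd, map_intCast, mul_comm, irr_apply_one_eq χ.2],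
    Finset.sum_congr rfl (s₁ := d.Y)
      (g := fun χ => ψ.1 t * ψ.1 g / charDegree ψ.1 * conj (χ.1 x)) fun χ e => by
        rw [d.Y_agree e hψ ht, d.Y_agree e hψ hg, irr_apply_one_eq χ.2, d.deg_Y_eq e hψ]; ring,
    ← Finset.mul_sum, ← map_sum, d.sum_Y' h.isSylGen h.ord.symm.dvd]
  simp only [map_neg, map_intCast]
  ring

instance fact13 : Fact (Nat.Prime 13) := ⟨by norm_num⟩

variable [IsSimpleGroup G]

theorem nc (h : Nat.card G = 5616) : ¬ IsMulCommutative G :=
  not_comm_of_card (by rw [h]; norm_num)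

theorem blk (h : Nat.card G = 5616) {x : G} (hx : IsSylGen 13 x) (d : P1 13 x) :
    ∃ l, Has d (144, 3, 16, [-12, 27]) l := by
  obtain ⟨s, hs, l, H⟩ := has_of_check (nc h) hx d (al := fun _ => true) (B := 75)
    (S := [(144, 3, 16, [-12, 27])]) h (fun _ _ => rfl) (by decide +kernel)
  obtain rfl := List.mem_singleton.1 hs
  exact ⟨l, H⟩

theorem tab (h : Nat.card G = 5616) : (∀ t : G, orderOf t = 2 → Nat.card (CC t) = 48) ∧
    ∀ g : G, 6 ∣ orderOf g → Nat.card (CC g) ∣ 6 := by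
  classical
  obtain ⟨x, hx⟩ := exists_isSylGen (G := G) (p := 13) (by rw [h]; decide) (by rw [h]; decide)
  obtain ⟨d⟩ := exists_P1 hx
  obtain ⟨l, H⟩ := blk h hx d
  have hs := H.sc hx h
  have h1 := H.deg
  simp only [List.map_eq_cons_iff, List.map_eq_nil_iff] at h1
  obtain ⟨a, _, rfl, ha, b, _, rfl, hb, rfl⟩ := h1
  obtain ⟨a1, a2⟩ := H.neg (z := 12) (by simp) ha
  obtain ⟨b1, b2⟩ := H.pos (z := 27) (by simp) hb
  obtain ⟨y1, y2⟩ := H.posY (z := 16) rfl
  obtain ⟨ψ, m1⟩ := d.Y_nonempty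
  have no : ∀ g : G, 2 ∣ orderOf g → ¬ 13 ∣ orderOf g := SC_no hs (by decide)
  have v1 : ∀ g : G, 2 ∣ orderOf g → ψ.1 g = 0 := fun g hg =>
    CA.H28E2.vanish Nat.prime_two (m := 351) (by rw [y2 ψ m1, h]) (by decide) hg
  have v2 : ∀ g : G, 3 ∣ orderOf g → b.1 g = 0 := fun g hg =>
    CA.H28E2.vanish Nat.prime_three (m := 208) (by rw [b2, h]) (by decide) hg
  have v3 : ∀ g : G, 2 ∣ orderOf g → b.1 g = a.1 g - 1 := fun g hg => by
    have := H.rel m1 (no g hg)
    simp only [List.map_cons, List.map_nil, List.sum_cons, List.sum_nil, a1, b1, y1, v1 g hg] at this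
    push_cast at this
    linear_combination -this
  have v4 : ∀ g : G, 2 ∣ orderOf g → 13 ∣ (CC g).index := fun g hg => by
    have h2 := card_mul_index (CC g)
    refine ((Nat.Prime.dvd_mul fact13.out).1 (by rw [h2, h]; decide)).resolve_left fun e => ?_
    obtain ⟨y, hy⟩ := exists_prime_orderOf_dvd_card' (G := CC g) 13 e
    have h3 : Commute (y : G) g := mem_CC.1 y.2
    rw [← Subgroup.orderOf_coe] at hy
    have h4 := h3.orderOf_mul_eq_mul_orderOf_of_coprime (by
      rw [hy]; exact (fact13.out.coprime_iff_not_dvd).2 (no g hg))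
    exact no _ (h4 ▸ hg.mul_left _) (h4 ▸ hy ▸ dvd_mul_right _ _)
  have nr : ¬ IsConj x x⁻¹ := by
    have := isConj_xp_iff hx.ord (a := 1) (b := -1) one_ne_zero
    rw [xp_neg hx.ord, xp_one hx.ord, H.ee_eq] at this
    rw [this]; decide
  have v5 : ∀ t : G, orderOf t = 2 → a.1 t = 4 := fun t ht => by
    obtain ⟨a', a3, -⟩ := inv_val' (nc h) a2 (by norm_num) ht
    have := inv_eq d hs nr m1 ht (by norm_num)
    rw [H.sum] at this
    simp only [List.map_cons, List.map_nil, List.sum_cons, List.sum_nil, a1, b1, y1, a2, b2,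
      d.ε_one, degree_one, irrOne_apply, v1 t ht.symm.dvd, v3 t ht.symm.dvd, a3] at this
    have h2 : (a' - 4) * (5 * a' + 28) = 0 := by
      refine Int.cast_injective (α := ℂ) ?_
      push_cast at this ⊢
      linear_combination -108 * this
    rw [a3, show a' = 4 by rcases mul_eq_zero.1 h2 with e | e <;> omega]; rfl
  have v6 : ∀ t : G, orderOf t = 2 → (CC t).index = 117 := fun t ht => by
    have h2 := isIntegral_centralChar b.2 t
    rw [centralChar_def, v3 t ht.symm.dvd, v5 t ht, irr_apply_one_eq b.2, b2,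
      show ((centralizer {t}).index : ℂ) * (4 - 1) / (27 : ℕ) = ((CC t).index : ℂ) / (9 : ℕ) by
        push_cast; unfold CC; ring] at h2
    obtain ⟨k, hk⟩ := Nat.Coprime.mul_dvd_of_dvd_of_dvd (by decide)
      (dvd_of_isIntegral_div (by decide) h2) (v4 t ht.symm.dvd)
    have h3 := sum_irr_norm_sq t
    have h4 := Finset.sum_le_sum_of_subset_of_nonneg (f := fun χ : IrrCharacter G => ‖χ.1 t‖ ^ 2)
      (subset_univ d.X) fun _ _ _ => by positivity
    rw [h3, H.sum] at h4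
    simp only [List.map_cons, List.map_nil, List.sum_cons, List.sum_nil, irrOne_apply,
      v3 t ht.symm.dvd, v5 t ht] at h4
    have h5 : (26 : ℝ) ≤ Nat.card (CC t) := by
      refine le_trans (le_of_eq ?_) h4
      norm_num
    have h6 : 26 ≤ Nat.card (CC t) := by exact_mod_cast h5
    have h7 := card_mul_index (CC t)
    rw [hk, h] at h7
    rcases k with _ | _ | k
    · omega
    · exact hk
    · nlinarith
  refine ⟨fun t ht => ?_, fun g hg => ?_⟩
  · have := card_mul_index (CC t)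
    rw [v6 t ht, h] at this
    omega
  obtain ⟨t, ht⟩ := exists_prime_orderOf_dvd_card' (G := G) 2 (by rw [h]; decide)
  have g2 : 2 ∣ orderOf g := Dvd.dvd.trans (by decide) hg
  have h2 := card_class_mul t g x
  have h3 := v3 g g2
  rw [v2 g (Dvd.dvd.trans (by decide) hg), eq_comm, sub_eq_zero] at h3
  rw [cls d hs m1 (no t ht.symm.dvd) (no g g2), H.sum, show (centralizer {t}).index = 117 from v6 t ht,
    h] at h2
  simp only [List.map_cons, List.map_nil, List.sum_cons, List.sum_nil, a1, b1, y1, a2, b2,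
    d.ε_one, degree_one, irrOne_apply, v1 g g2, v2 g (Dvd.dvd.trans (by decide) hg), v5 t ht,
    h3] at h2
  have h4 : (CC g).index = 72 * Nat.card {p : G × G // IsConj t p.1 ∧ IsConj g p.2 ∧ p.1 * p.2 = x} := by
    refine Nat.cast_injective (R := ℂ) ?_
    push_cast at h2 ⊢
    unfold CC
    linear_combination -72 * h2
  obtain ⟨k, hk⟩ := Nat.Coprime.mul_dvd_of_dvd_of_dvd (by decide) ⟨_, h4⟩ (v4 g g2)
  have h7 := card_mul_index (CC g)
  rw [hk, h] at h7
  exact ⟨k, by linarith⟩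

abbrev S4 := Equiv.Perm (Fin 4)

/-- The centralizer of `t` is an extension of `⟨t⟩` by the symmetric group of degree four. -/
structure St (t : G) (π : CC t →* S4) : Prop where
  surj : Function.Surjective π
  ker : ∀ g : CC t, π g = 1 ↔ (g : G) = 1 ∨ (g : G) = t

theorem exists_St (h : Nat.card G = 5616) {t : G} (ht : orderOf t = 2) : ∃ π, St t π := by
  let z : CC t := ⟨t, mem_CC.2 rfl⟩
  have hz : orderOf z = 2 := by rw [Subgroup.orderOf_mk, ht]
  have z2 : z * z = 1 := by rw [← pow_two, ← hz, pow_orderOf_eq_one]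
  have mz : ∀ g, g ∈ zpowers z ↔ g = 1 ∨ g = z := fun g => by
    refine ⟨fun hg => ?_, fun hg => hg.elim (fun e => e ▸ one_mem _) fun e => e ▸ mem_zpowers z⟩
    obtain ⟨k, rfl⟩ := mem_powers_iff_mem_zpowers.2 hg
    simp only
    rw [← pow_mod_orderOf, hz]
    rcases Nat.mod_two_eq_zero_or_one k with e | e <;> simp [e]
  have : (zpowers z).Normal := ⟨fun n hn g => by
    rcases (mz n).1 hn with rfl | rfl
    · simp
    · rw [show g * z = z * g from Subtype.ext (mem_CC.1 g.2), mul_inv_cancel_right]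
      exact mem_zpowers z⟩
  have h1 := card_mul_index (zpowers z)
  rw [Nat.card_zpowers, hz, (tab h).1 t ht] at h1
  obtain ⟨e⟩ := Cfsg.Agent.S1012.result (G := CC t ⧸ zpowers z) (show (zpowers z).index = 24 by omega)
    fun q hq => by
      obtain ⟨g, rfl⟩ := QuotientGroup.mk_surjective q
      have h2 : 6 ∣ orderOf (g : G) := by
        rw [Subgroup.orderOf_coe, ← hq]
        exact orderOf_map_dvd (QuotientGroup.mk' (zpowers z)) g
      have h3 := (tab h).2 g h2
      have h4 : zpowers (g : G) = CC (g : G) := eq_of_le_of_card_ge (zpowers_le.2 (mem_CC.2 rfl))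
        ((Nat.le_of_dvd (by decide) h3).trans (by
          rw [Nat.card_zpowers]; exact Nat.le_of_dvd (orderOf_pos _) h2))
      have h5 : orderOf (g : G) = 6 := Nat.dvd_antisymm (by rwa [← Nat.card_zpowers, h4]) h2
      obtain ⟨k, hk⟩ := mem_powers_iff_mem_zpowers.2 (h4 ▸ mem_CC.2 (mem_CC.1 g.2).symm :
        t ∈ zpowers (g : G))
      simp only at hk
      have h6 : (g : CC t ⧸ zpowers z) ^ k = 1 := by
        rw [← QuotientGroup.mk_pow, QuotientGroup.eq_one_iff, mz]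
        exact Or.inr (Subtype.ext hk)
      have h7 := orderOf_dvd_of_pow_eq_one h6
      rw [hq, ← h5, orderOf_dvd_iff_pow_eq_one, hk] at h7
      rw [h7, orderOf_one] at ht
      omega
  refine ⟨e.toMonoidHom.comp (QuotientGroup.mk' _), e.surjective.comp
    (QuotientGroup.mk'_surjective _), fun g => ?_⟩
  rw [MonoidHom.comp_apply, MulEquiv.coe_toMonoidHom, e.map_eq_one_iff, QuotientGroup.mk'_apply,
    QuotientGroup.eq_one_iff, mz, Subtype.ext_iff, Subtype.ext_iff]
  rfl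

set_option synthInstance.maxSize 4000 in
theorem k1 : ∀ γ : S4, γ ^ 4 = 1 → γ ^ 2 ≠ 1 → ∃ α : S4, α * γ * α⁻¹ * γ = 1 ∧
    ∀ β ∈ [γ, α, γ * α, γ * α⁻¹], β ≠ 1 ∧ β ≠ γ ^ 2 := by decide +kernel

set_option synthInstance.maxSize 4000 in
theorem k2 : ∀ z : S4, z * z = 1 → ∀ x : S4, x * z = z * x → ∀ y : S4, y * z = z * y → x * y = y * x →
    z = 1 ∨ ∃ β ∈ [x, y, x * y, x * y⁻¹], β = 1 ∨ β * z = 1 := by decide +kernel

theorem pow_four (h : Nat.card G = 5616) {t : G} (ht : orderOf t = 2) {π : CC t →* S4} (S : St t π)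
    {c : CC t} (h1 : π c ^ 2 ≠ 1) : c ^ 4 ≠ 1 := fun h2 => by
  obtain ⟨α, h3, h4⟩ := k1 (π c) (by rw [← map_pow, h2, map_one]) h1
  obtain ⟨a, rfl⟩ := S.surj α
  have t2 : t * t = 1 := by rw [← pow_two, ← ht, pow_orderOf_eq_one]
  have ct : (c : G) * t = t * c := mem_CC.1 c.2
  have at' : (a : G) * t = t * a := mem_CC.1 a.2
  have c4 : (c : G) ^ 4 = 1 := congrArg Subtype.val h2
  have pt : π ⟨t, mem_CC.2 rfl⟩ = 1 := (S.ker _).2 (Or.inr rfl)
  obtain ⟨e, he, e1, e2, e3⟩ : ∃ e : CC t, π e = 1 ∧ (e : G) * e = 1 ∧ (∀ g : CC t, g * e = e * g) ∧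
      a * c * a⁻¹ * c = e := by
    refine ⟨_, by simpa using h3, ?_, fun g => ?_, rfl⟩ <;>
      rcases (S.ker (a * c * a⁻¹ * c)).1 (by simpa using h3) with e | e
    · rw [e, one_mul]
    · rw [e, t2]
    · rw [Subtype.ext_iff, Subgroup.coe_mul, Subgroup.coe_mul _ _ g, e, one_mul, mul_one]
    · rw [Subtype.ext_iff, Subgroup.coe_mul, Subgroup.coe_mul _ _ g, e]; exact mem_CC.1 g.2
  have e1' : e * e = 1 := Subtype.ext e1
  have e4 : a * c * a⁻¹ = c⁻¹ * e := by rw [e2, ← e3]; group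
  have c5 : c * c * (c * c) = 1 := by rw [← h2, show 4 = 2 + 2 from rfl, pow_add, pow_two]
  have cc : c⁻¹ * c⁻¹ = c * c := by rw [← mul_inv_rev, inv_eq_of_mul_eq_one_right c5]
  set s : CC t := c * c * e with hs
  have s1 : π s = π c ^ 2 := by rw [hs, map_mul, he, mul_one, map_mul, pow_two]
  have s2 : s * s = 1 := by
    calc s * s = c * c * (e * (c * c)) * e := by simp only [hs, mul_assoc]
      _ = c * c * (c * c) * (e * e) := by rw [← e2]; simp only [mul_assoc]
      _ = 1 := by rw [c5, e1', mul_one]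
  have s3 : orderOf (s : G) = 2 := by
    rw [Subgroup.orderOf_coe]
    exact orderOf_eq_prime (by rw [pow_two, s2]) fun e => h1 (by rw [← s1, e, map_one])
  have s4 : c * s = s * c := by rw [hs, mul_assoc (c * c) e c, ← e2]; simp only [mul_assoc]
  have s5 : a * s = s * a := by
    calc a * s = (a * c * a⁻¹) * (a * c * a⁻¹) * (a * e) := by
          simp only [hs, mul_assoc, inv_mul_cancel_left]
      _ = c⁻¹ * (e * c⁻¹) * e * (a * e) := by rw [e4]; simp only [mul_assoc]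
      _ = c⁻¹ * c⁻¹ * (e * e) * (a * e) := by rw [← e2]; simp only [mul_assoc]
      _ = s * a := by rw [e1', cc, e2 a, hs]; simp only [mul_assoc, mul_one]
  have s6 : c * a = s * (a * c) := by
    calc c * a = c * c * (c⁻¹ * (e * e)) * a := by
          rw [e1']; simp only [mul_assoc, mul_one, mul_inv_cancel_left]
      _ = c * c * (e * c⁻¹ * e) * a := by rw [← e2 c⁻¹]; simp only [mul_assoc]
      _ = c * c * e * (a * c * a⁻¹) * a := by rw [e4]; simp only [mul_assoc]
      _ = s * (a * c) := by simp only [hs, mul_assoc, inv_mul_cancel, mul_one]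
  obtain ⟨π', S'⟩ := exists_St h s3
  let x : CC (s : G) := ⟨c, mem_CC.2 (congrArg Subtype.val s4)⟩
  let y : CC (s : G) := ⟨a, mem_CC.2 (congrArg Subtype.val s5)⟩
  let z : CC (s : G) := ⟨t, mem_CC.2 (mem_CC.1 s.2).symm⟩
  have key : ∀ (u : CC (s : G)) (v : CC t), (u : G) = v → π' u = 1 → π v = 1 ∨ π v = π c ^ 2 :=
    fun u v e h => ((S'.ker u).1 h).imp (fun e' => by rw [show v = 1 from Subtype.ext (e ▸ e'), map_one])
      fun e' => by rw [show v = s from Subtype.ext (e ▸ e'), s1]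
  rcases k2 (π' z) (by rw [← map_mul, show z * z = 1 from Subtype.ext t2, map_one])
    (π' x) (by rw [← map_mul, ← map_mul, show x * z = z * x from Subtype.ext ct])
    (π' y) (by rw [← map_mul, ← map_mul, show y * z = z * y from Subtype.ext at'])
    (by rw [← map_mul, ← map_mul, show x * y = ⟨s, mem_CC.2 rfl⟩ * (y * x) from
      Subtype.ext (congrArg (Subtype.val : CC t → G) s6), map_mul π' _ (y * x),
      (S'.ker _).2 (Or.inr rfl), one_mul]) with e | ⟨β, hβ, e⟩
  · rcases (S'.ker z).1 e with e | e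
    · rw [show t = 1 from e, orderOf_one] at ht; omega
    · exact h1 (by rw [← s1, show s = ⟨t, mem_CC.2 rfl⟩ from Subtype.ext e.symm, pt])
  · obtain ⟨u, v, rfl, f1, f2⟩ : ∃ (u : CC (s : G)) (v : CC t), π' u = β ∧ (u : G) = v ∧
        π v ∈ [π c, π a, π c * π a, π c * (π a)⁻¹] := by
      simp only [List.mem_cons, List.not_mem_nil, or_false] at hβ
      rcases hβ with rfl | rfl | rfl | rfl
      exacts [⟨x, c, rfl, rfl, by simp⟩, ⟨y, a, rfl, rfl, by simp⟩,
        ⟨x * y, c * a, by simp, rfl, by simp⟩, ⟨x * y⁻¹, c * a⁻¹, by simp, rfl, by simp⟩]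
    obtain ⟨f3, f4⟩ := h4 _ f2
    rcases e with e | e
    · exact (key u v f1 e).elim f3 f4
    · have := key (u * z) (v * ⟨t, mem_CC.2 rfl⟩) (congrArg (· * t) f1)
        (by rw [map_mul, e])
      rw [map_mul, pt, mul_one] at this
      exact this.elim f3 f4

set_option synthInstance.maxSize 4000 in
theorem k3 : ∀ σ : S4, σ * σ = 1 → σ ≠ 1 → (∃ γ : S4, γ ^ 2 = σ) ∨ ∃ β : S4, β ^ 3 = 1 ∧
    (σ * β) ^ 4 = 1 ∧ (σ * β) ^ 2 ≠ 1 ∧ ∀ g : S4, ∃ w ∈ CA.H7L33P.ws,
      ev (CA.H7L33P.two σ β) w = g := by decide +kernel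

theorem iso (h : Nat.card G = 5616) : Nonempty (G ≃* CA.H28L33.L33) := by
  obtain ⟨E, hE⟩ := Cfsg.Agent.S0204.result (G := G) fun e => nc h e.isMulCommutative
  have : Nontrivial E := Finite.one_lt_card_iff_nontrivial.1 (by rw [hE.card_four]; decide)
  obtain ⟨t', ht'⟩ := exists_ne (1 : E)
  obtain ⟨u', hu1, hu2⟩ : ∃ u' : E, u' ≠ 1 ∧ u' ≠ t' := by
    by_contra e
    push Not at e
    have : Nat.card E ≤ Nat.card (Fin 2) := Nat.card_le_card_of_surjective ![1, t'] fun g => by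
      by_cases e' : g = 1
      exacts [⟨0, e'.symm⟩, ⟨1, (e g e').symm⟩]
    rw [hE.card_four, Nat.card_eq_fintype_card, Fintype.card_fin] at this
    omega
  have sq : ∀ g : E, (g : G) * g = 1 := fun g => congrArg Subtype.val (IsKleinFour.mul_self g)
  have ht : orderOf (t' : G) = 2 := orderOf_eq_prime (by rw [pow_two, sq])
    fun e => ht' (Subtype.ext e)
  obtain ⟨π, S⟩ := exists_St h ht
  let u : CC (t' : G) := ⟨u', mem_CC.2
    (congrArg Subtype.val (mul_comm_of_exponent_two hE.exponent_two u' t'))⟩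
  have u2 : u * u = 1 := Subtype.ext (sq u')
  have u1 : π u ≠ 1 := fun e => ((S.ker u).1 e).elim (fun e => hu1 (Subtype.ext e))
    fun e => hu2 (Subtype.ext e)
  let z : CC (t' : G) := ⟨t', mem_CC.2 rfl⟩
  have zc : ∀ g : CC (t' : G), g * z = z * g := fun g => Subtype.ext (mem_CC.1 g.2)
  have z2 : z * z = 1 := Subtype.ext (sq t')
  have kz : ∀ g, π g = 1 → g = 1 ∨ g = z := fun g hg =>
    ((S.ker g).1 hg).imp (fun e => Subtype.ext e) fun e => Subtype.ext e
  rcases k3 (π u) (by rw [← map_mul, u2, map_one]) u1 with ⟨γ, hγ⟩ | ⟨β, b1, b2, b3, b4⟩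
  · obtain ⟨c, rfl⟩ := S.surj γ
    refine absurd ?_ (pow_four h ht S (c := c) (hγ ▸ u1))
    have h1 : c ^ 4 = (c ^ 2 * u⁻¹ * u) * (c ^ 2 * u⁻¹ * u) := by
      rw [inv_mul_cancel_right, ← pow_add]
    rcases kz (c ^ 2 * u⁻¹) (by rw [map_mul, map_pow, hγ, map_inv, mul_inv_cancel]) with e | e
    · rw [h1, e, one_mul, u2]
    · rw [h1, e, mul_assoc, ← mul_assoc u, zc u, mul_assoc, u2, mul_one, z2]
  obtain ⟨b', rfl⟩ := S.surj β
  have b5 : (b' ^ 4) ^ 3 = 1 := by
    rw [← pow_mul, show 4 * 3 = 3 * 2 * 2 from rfl, pow_mul, pow_mul]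
    rcases kz (b' ^ 3) (by rw [map_pow, b1]) with e | e <;> simp [e, pow_two, z2]
  have b6 : π (b' ^ 4) = π b' := by rw [map_pow, pow_succ, b1, one_mul]
  rw [← b6] at b2 b3 b4
  generalize b' ^ 4 = b at b2 b3 b4 b5
  rw [← map_mul] at b2 b3
  have c1 : (u * b) ^ 4 = z := (kz _ (by rw [map_pow, b2])).resolve_left (pow_four h ht S b3)
  have c2 : u * b * u * b * u * b * u * b = z := by rw [← c1]; simp only [pow_succ, mul_assoc]; simp
  have e1 : (fun i => π (CA.H7L33P.two u b i)) = CA.H7L33P.two (π u) (π b) :=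
    funext fun i => by unfold CA.H7L33P.two; cases (i == 0) <;> rfl
  have mz : z ∈ grp (CA.H7L33P.two u b) [[0], [2]] := c1 ▸ pow_mem (mul_mem
    (ev_gen (CA.H7L33P.two u b) 0 ▸ mem_grp _ (w := [0]) (by simp) : CA.H7L33P.two u b 0 ∈ _)
    (ev_gen (CA.H7L33P.two u b) 1 ▸ mem_grp _ (w := [2]) (by simp) : CA.H7L33P.two u b 1 ∈ _)) 4
  obtain ⟨e⟩ := CA.H7L33P.iso ((tab h).1 _ ht) (a := u) (b := b) (by
    have l0 : lv (CA.H7L33P.two u b) 0 = u := rfl
    have l1 : lv (CA.H7L33P.two u b) 1 = u⁻¹ := rfl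
    have l2 : lv (CA.H7L33P.two u b) 2 = b := rfl
    have l3 : lv (CA.H7L33P.two u b) 3 = b⁻¹ := rfl
    simp only [CA.H7L33P.rg, List.mem_cons, List.not_mem_nil, or_false, forall_eq_or_imp, forall_eq,
      ev_cons, ev_nil, l0, l1, l2, l3, mul_one]
    refine ⟨u2, by rw [← b5, pow_three], ?_, ?_⟩
    · rw [← z2, ← c2]; simp only [mul_assoc]
    · calc _ = z * u * z⁻¹ * u⁻¹ := by rw [← c2]; simp only [mul_assoc, mul_inv_rev]
        _ = 1 := by rw [← zc u]; group) (eq_top_iff.2 fun g _ => by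
      obtain ⟨w, hw, h1⟩ := b4 (π g)
      have h2 := CA.H7L33P.mem_ws u b hw
      rw [← e1, ← map_ev] at h1
      rw [← mul_mem_cancel_right (inv_mem h2)]
      rcases kz (g * (ev (CA.H7L33P.two u b) w)⁻¹) (by rw [map_mul, map_inv, h1, mul_inv_cancel])
        with e | e <;> rw [e]
      exacts [one_mem _, mz])
  have := Fintype.ofFinite G
  obtain ⟨ι, hι, -⟩ := CA.H28GL23.exists_hyp ht e
  exact CA.H28L33.iso_L33 h (CA.H28L33.brauer13 hι (fun H e => by
    have := two_mul_card_dvd (nc h) H fun e' => by rw [e', index_top] at e; omega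
    rw [e, h] at this
    norm_num at this) h)

end CA.H7L33
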