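import Mathlib
import Cfsg.Agent.Lib.Block.H28Sv

/-! The sieve for the orders of simple groups between 1093 and 3640. -/

set_option autoImplicit false

namespace CA.H7OrdA

open CA.H28Sv

def ex : List ℕ := [1800, 2448, 2520, 2700, 3360, 3420, 3600]

def L0 : List (ℕ × ℕ) :=
  [(1093,2),(2,547),(73,0),(2,137),(1097,2),(61,0),(7,157),(11,0),(3,367),(29,0),(1103,2),(23,0),
    (17,0),(79,0),(3,41),(2,277),(1109,2),(37,0),(11,101),(2,139),(53,0),(2,557),(5,223),(31,0),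
    (1117,2),(43,0),(3,373),(7,0),(19,59),(17,0),(1123,2),(2,281),(3,5),(2,563),(7,23),(47,0),
    (1129,2),(113,0),(29,0),(2,283),(11,103),(7,0),(5,227),(2,71),(3,379),(2,569),(17,67),(19,0),
    (7,163),(2,571),(3,127),(13,0),(5,229),(191,0),(31,37),(41,0),(3,383),(23,0),(1151,2),(2,3),
    (1153,2),(2,577),(11,0),(2,17),(13,89),(193,0),(19,61),(29,0),(3,43),(83,0),(1163,2),(97,0),
    (5,233),(53,0),(3,389),(2,73),(7,167),(13,0),(1171,2),(2,293),(23,0),(2,587),(5,47),(7,1),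
    (11,107),(31,0),(3,131),(59,0),(1181,2),(197,0),(7,13),(2,37),(79,0),(2,593),(1187,2),(11,0),
    (29,41),(17,0),(3,397),(2,149),(1193,2),(199,0),(5,239),(23,0),(19,0),(2,599),(11,109),(3,0),
    (1201,2),(2,601),(3,401),(43,0),(5,241),(67,0),(17,71),(2,151),(31,0),(5,0),(7,173),(101,0),
    (1213,2),(2,607),(3,5),(2,19),(1217,2),(29,0),(23,53),(61,0),(37,0),(47,0),(1223,2),(17,0),
    (5,7),(2,613),(3,409),(2,307),(1229,2),(41,0),(1231,2),(11,0),(3,137),(2,617),(19,0),(103,0),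
    (1237,2),(2,619),(59,0),(31,0),(17,73),(23,0),(11,113),(2,311),(83,0),(89,0),(29,43),(13,0),
    (1249,2),(2,5),(3,139),(2,313),(7,179),(19,0),(5,251),(2,157),(3,419),(37,0),(1259,2),(7,0),
    (13,97),(2,631),(3,421),(2,79),(23,0),(211,0),(7,181),(2,317),(3,47),(127,0),(31,41),(53,0),
    (19,67),(13,0),(17,0),(29,0),(1277,2),(71,0),(1279,2),(2,5),(61,0),(2,641),(1283,2),(107,0),
    (5,257),(2,643),(13,0),(23,0),(1289,2),(43,0),(1291,2),(19,0),(3,431),(2,647),(37,0),(2,3),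
    (1297,2),(59,0),(3,433),(13,0),(1301,2),(31,0),(1303,2),(2,163),(29,0),(2,653),(1307,2),
    (109,0),(17,0),(131,0),(23,0),(2,41),(13,101),(73,0),(5,263),(47,0),(3,439),(2,659),(1319,2),
    (11,0),(1321,2),(2,661),(3,7),(2,331),(5,53),(17,0),(1327,2),(2,83),(3,443),(19,0),(11,2),
    (37,0),(31,43),(29,0),(89,0),(2,167),(7,191),(223,0),(13,103),(67,0),(3,149),(61,0),(17,79),
    (7,0),(5,269),(2,673),(3,449),(2,337),(19,71),(2,0),(7,193),(2,13),(41,0),(2,677),(5,271),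
    (113,0),(23,59),(97,0),(3,151),(17,0),(1361,2),(227,0),(29,47),(31,0),(13,0),(2,683),(1367,2),
    (19,0),(37,2),(137,0),(3,457),(2,7),(1373,2),(229,0),(5,11),(2,43),(3,17),(53,0),(7,197),
    (23,0),(1381,2),(2,691),(3,461),(2,173),(5,277),(11,0),(19,73),(2,347),(3,463),(139,0),
    (13,107),(29,0),(7,199),(41,0),(31,0),(2,349),(11,127),(233,0),(1399,2),(7,0),(3,467),(2,701),
    (23,61),(13,0),(5,281),(37,0),(67,0),(2,11),(1409,2),(47,0),(17,83),(2,353),(3,157),(101,0),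
    (5,283),(59,0),(13,109),(2,709),(43,0),(71,0),(7,29),(79,0),(1423,2),(2,89),(19,0),(31,0),
    (1427,2),(17,0),(1429,2),(13,0),(3,53),(2,179),(1433,2),(239,0),(41,0),(2,359),(3,479),
    (2,719),(1439,2),(5,0),(11,131),(103,0),(37,0),(2,19),(5,17),(241,0),(1447,2),(2,181),(23,0),
    (29,0),(1451,2),(3,0),(1453,2),(2,727),(97,0),(13,0),(31,47),(2,3),(1459,2),(73,0),(3,487),
    (43,0),(19,0),(61,0),(5,293),(2,733),(3,163),(2,367),(13,113),(5,0),(1471,2),(2,23),(3,491),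
    (67,0),(5,59),(41,0),(7,211),(2,739),(29,0),(37,0),(1481,2),(19,0),(1483,2),(53,0),(11,0),
    (2,743),(1487,2),(31,0),(1489,2),(149,0),(71,0),(2,373),(1493,2),(83,0),(23,0),(17,0),(3,499),
    (107,0),(1499,2),(5,1),(19,79),(2,751),(3,167),(2,47),(43,0),(251,0),(11,137),(29,0),(3,503),
    (151,0),(1511,2),(7,0),(17,89),(2,757),(101,0),(2,379),(37,41),(23,0),(7,31),(19,0),(3,13),
    (2,761),(1523,2),(127,0),(5,61),(109,0),(3,509),(2,191),(11,139),(17,0),(1531,2),(2,383),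
    (73,0),(59,0),(5,307),(2,3),(29,53),(2,769),(3,19),(11,0),(23,67),(257,0),(1543,2),(2,193),
    (103,0),(2,773),(17,0),(43,0),(1549,2),(31,0),(47,0),(2,97),(1553,2),(37,0),(5,311),(2,389),
    (3,173),(41,0),(1559,2),(13,0),(7,223),(71,0),(3,521),(23,0),(5,313),(29,0),(1567,2),(2,7),
    (3,523),(157,0),(1571,2),(131,0),(11,13),(2,787),(7,0),(2,197),(19,83),(263,0),(1579,2),
    (79,0),(31,0),(113,0),(1583,2),(11,0),(5,317),(61,0),(3,23),(2,397),(7,227),(53,0),(37,43),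
    (2,199),(3,59),(2,797),(29,0),(19,0),(1597,2),(47,0),(41,0),(2,5),(1601,2),(89,0),(7,229),
    (2,401),(107,0),(73,0),(1607,2),(67,0),(1609,2),(23,0),(3,179),(31,0),(1613,2),(269,0),(19,0),
    (2,101),(11,0),(2,809),(1619,2),(5,0),(1621,2),(2,811),(3,541),(29,0),(5,13),(271,0),(1627,2),
    (37,0),(3,181),(163,0),(7,233),(17,0),(23,71),(43,0),(109,0),(2,409),(1637,2),(13,0),(11,149),
    (41,0),(3,547),(2,821),(31,53),(137,0),(47,0),(2,823),(3,61),(2,103),(17,97),(11,0),(13,127),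
    (59,0),(29,0),(2,827),(5,331),(23,0),(1657,2),(2,829),(79,0),(83,0),(11,151),(277,0),(1663,2),
    (2,13),(37,0),(17,0),(1667,2),(139,0),(1669,2),(167,0),(3,557),(19,0),(7,239),(31,0),(5,67),
    (2,419),(43,0),(2,839),(23,73),(5,0),(41,2),(2,29),(17,0),(2,421),(5,337),(281,0),(7,241),
    (2,211),(3,563),(5,0),(19,89),(47,0),(1693,2),(7,0),(113,0),(2,53),(1697,2),(283,0),(1699,2),
    (17,0),(3,7),(37,0),(13,131),(71,0),(31,0),(2,853),(3,569),(61,0),(1709,2),(19,0),(29,59),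
    (2,107),(3,571),(2,857),(5,7),(3,0),(17,101),(2,859),(3,191),(43,0),(1721,2),(41,0),(1723,2),
    (2,431),(23,0),(2,863),(11,157),(2,3),(19,0),(173,0),(3,577),(2,433)]

theorem c0 : checkL 80 ex 1093 L0 = true ∧ L0.length = 640 := by decide +kernel

def L1 : List (ℕ × ℕ) :=
  [(1733,2),(3,0),(5,347),(31,0),(3,193),(79,0),(37,47),(29,0),(1741,2),(67,0),(83,0),(2,109),
    (5,349),(97,0),(1747,2),(23,0),(53,0),(7,0),(17,103),(73,0),(1753,2),(2,877),(13,0),(2,439),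
    (7,251),(293,0),(1759,2),(11,0),(3,587),(2,881),(41,43),(7,1),(5,353),(2,883),(31,0),(17,0),
    (29,61),(59,0),(23,0),(2,443),(3,197),(2,887),(5,71),(37,0),(1777,2),(127,0),(3,593),(89,0),
    (13,137),(11,0),(1783,2),(2,223),(17,0),(47,0),(1787,2),(149,0),(1789,2),(179,0),(3,199),
    (2,7),(11,163),(23,0),(5,359),(2,449),(3,599),(31,0),(7,257),(0,0),(1801,2),(53,0),(3,601),
    (41,0),(5,19),(43,0),(13,139),(2,113),(3,67),(181,0),(1811,2),(151,0),(7,37),(2,907),(5,0),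
    (2,227),(23,79),(101,0),(17,107),(13,0),(3,607),(2,911),(1823,2),(19,0),(5,73),(83,0),(29,0),
    (2,457),(31,59),(61,0),(1831,2),(2,229),(47,0),(131,0),(5,367),(17,0),(11,167),(2,919),
    (3,613),(23,0),(7,263),(307,0),(19,97),(2,461),(41,0),(71,0),(1847,2),(11,0),(43,2),(37,0),
    (3,617),(2,463),(17,109),(103,0),(53,0),(2,29),(3,619),(2,929),(11,13),(31,0),(1861,2),(19,0),
    (3,23),(2,233),(5,373),(311,0),(1867,2),(2,467),(89,0),(17,0),(1871,2),(13,0),(1873,2),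
    (2,937),(3,5),(67,0),(1877,2),(313,0),(1879,2),(47,0),(19,0),(2,941),(7,269),(157,0),(29,0),
    (41,0),(37,0),(2,59),(1889,2),(7,0),(31,61),(43,0),(3,631),(2,947),(5,379),(79,0),(7,271),
    (73,0),(3,211),(19,0),(1901,2),(317,0),(11,173),(17,0),(127,0),(2,953),(1907,2),(53,0),
    (23,83),(191,0),(13,0),(2,239),(1913,2),(29,0),(5,383),(2,479),(3,71),(137,0),(19,101),(5,0),
    (17,113),(2,31),(3,641),(37,0),(11,0),(107,0),(41,47),(2,241),(3,643),(193,0),(1931,2),(23,0),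
    (1933,2),(2,967),(43,0),(2,11),(13,149),(19,0),(7,277),(97,0),(3,647),(2,971),(29,67),(2,3),
    (5,389),(139,0),(59,0),(2,487),(1949,2),(13,0),(1951,2),(2,61),(31,0),(2,977),(23,0),(163,0),
    (19,103),(89,0),(3,653),(5,0),(37,53),(109,0),(13,151),(2,491),(131,0),(2,983),(7,281),(41,0),
    (11,179),(197,0),(3,73),(29,0),(1973,2),(47,0),(5,79),(19,0),(3,659),(43,0),(1979,2),(11,0),
    (7,283),(2,991),(3,661),(2,31),(5,397),(331,0),(1987,2),(71,0),(17,0),(199,0),(11,181),(83,0),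
    (1993,2),(2,997),(19,0),(2,499),(1997,2),(37,0),(1999,2),(2,5),(29,0),(13,0),(2003,2),(167,0),
    (5,401),(59,0),(3,223),(2,251),(7,41),(67,0),(2011,2),(2,503),(61,0),(53,0),(31,0),(7,0),
    (2017,2),(2,1009),(3,673),(101,0),(43,47),(337,0),(7,17),(23,0),(3,5),(2,1013),(2027,2),(3,0),
    (2029,2),(29,0),(3,677),(2,127),(19,107),(113,0),(37,0),(2,509),(97,0),(2,1019),(2039,2),
    (17,0),(13,157),(2,1021),(3,227),(73,0),(5,409),(31,0),(23,89),(2,3),(3,683),(41,0),(7,293),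
    (19,0),(2053,2),(79,0),(137,0),(2,257),(11,17),(3,0),(29,71),(103,0),(3,229),(2,1031),
    (2063,2),(43,0),(59,0),(2,1033),(53,0),(47,0),(2069,2),(23,0),(19,109),(37,0),(3,691),(61,0),
    (5,83),(173,0),(31,67),(2,1039),(11,0),(13,0),(2081,2),(347,0),(2083,2),(2,521),(139,0),
    (149,0),(2087,2),(29,0),(2089,2),(19,0),(41,0),(2,523),(23,0),(349,0),(5,419),(2,131),(3,233),
    (2,1049),(2099,2),(7,0),(11,191),(2,1051),(3,701),(2,263),(5,421),(13,0),(7,43),(31,0),(37,0),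
    (211,0),(2111,2),(11,0),(2113,2),(151,0),(47,0),(2,23),(29,73),(353,0),(13,163),(53,0),
    (101,0),(2,1061),(11,193),(59,0),(5,17),(2,1063),(3,709),(19,0),(2129,2),(71,0),(2131,2),
    (41,0),(3,79),(97,0),(61,0),(89,0),(2137,2),(2,1069),(31,0),(107,0),(2141,2),(17,0),(2143,2),
    (2,67),(13,0),(37,0),(19,113),(179,0),(7,307),(43,0),(3,239),(2,269),(2153,2),(359,0),(5,431),
    (11,0),(3,719),(83,0),(17,127),(5,0),(2161,2),(47,0),(103,0),(2,541),(5,433),(3,0),(11,197),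
    (2,271),(3,241),(31,0),(13,167),(181,0),(41,53),(2,1087),(29,0),(2,17),(7,311),(2,0),(2179,2),
    (109,0),(3,727),(2,1091),(37,59),(13,0),(23,0),(2,1093),(3,2),(2,547),(11,199),(73,0),(7,313),
    (2,137),(43,0),(2,1097),(5,439),(61,0),(13,2),(157,0),(3,733),(11,0),(31,71),(367,0),(2203,2),
    (29,0),(5,0),(2,1103),(2207,2),(23,0),(47,2),(17,0),(67,0),(79,0),(2213,2),(41,0),(5,443),
    (2,277),(3,739),(2,1109),(7,317),(37,0),(2221,2),(101,0),(19,0),(2,139),(5,89),(53,0),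
    (17,131),(2,557),(3,743),(223,0),(23,97),(31,0),(29,0),(2,1117),(149,0),(43,0),(2237,2),
    (373,0),(2239,2),(7,0),(3,83),(59,0),(2243,2),(17,0),(5,449),(2,1123),(107,0),(2,281),
    (13,173),(2,0),(2251,2),(2,563),(3,751),(23,0),(41,0),(47,0),(37,61),(2,1129),(3,251),(113,0),
    (19,0),(29,0),(31,73),(2,283),(151,0),(103,0),(2267,2),(7,0),(2269,2),(227,0),(3,757),(2,71),
    (2273,2),(379,0),(13,0),(2,569),(23,0),(67,0),(43,53),(19,0),(2281,2),(163,0),(3,761),(2,571),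
    (5,457),(127,0),(2287,2),(13,0),(109,0),(229,0),(29,79),(191,0),(2293,2),(37,0),(17,0),(41,0),
    (2297,2),(383,0),(11,19),(23,0),(59,0),(2,1151),(7,47),(2,3),(5,461),(2,1153),(3,769),(2,577),
    (2309,2),(11,0),(2311,2),(2,17),(3,257),(89,0),(5,463),(193,0),(7,331),(61,0),(3,773),(29,0),
    (11,211),(43,0),(23,101),(83,0),(31,0),(2,1163),(13,179),(97,0),(17,137),(233,0),(37,0),
    (53,0),(2333,2),(389,0),(5,467),(2,73),(41,0),(167,0),(2339,2),(13,0),(2341,2),(2,1171),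
    (71,0),(2,293),(67,0),(23,0),(2347,2),(2,587),(3,29),(47,0),(2351,2),(7,1),(13,181),(107,0),
    (157,0),(31,0),(2357,2),(131,0),(7,337),(59,0),(3,787),(2,1181),(17,139),(197,0),(43,0),(7,0),
    (3,263),(2,37),(23,103),(79,0),(2371,2),(2,593)]

theorem c1 : checkL 80 ex 1733 L1 = true ∧ L1.length = 640 := by decide +kernel

def L2 : List (ℕ × ℕ) :=
  [(113,0),(2,1187),(5,19),(11,0),(2377,2),(41,0),(61,0),(17,0),(2381,2),(397,0),(2383,2),
    (2,149),(53,0),(2,1193),(31,0),(199,0),(2389,2),(239,0),(3,797),(23,0),(2393,2),(19,0),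
    (5,479),(2,599),(47,0),(109,0),(2399,2),(3,0),(7,2),(2,1201),(3,89),(2,601),(37,0),(401,0),
    (29,83),(43,0),(73,0),(241,0),(2411,2),(67,0),(19,127),(71,0),(23,0),(2,151),(2417,2),(31,0),
    (41,59),(5,0),(3,269),(173,0),(2423,2),(101,0),(5,97),(2,1213),(3,809),(2,607),(7,347),(5,0),
    (17,0),(2,19),(3,811),(2,1217),(5,487),(29,0),(2437,2),(53,0),(3,271),(61,0),(2441,2),(37,0),
    (7,349),(47,0),(163,0),(2,1223),(2447,2),(0,0),(31,79),(2,0),(43,0),(2,613),(11,223),(409,0),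
    (5,491),(2,307),(13,0),(2,1229),(2459,2),(41,0),(23,107),(2,1231),(3,821),(11,0),(29,0),
    (137,0),(2467,2),(2,617),(3,823),(19,0),(7,353),(103,0),(2473,2),(2,1237),(11,0),(2,619),
    (2477,2),(59,0),(37,67),(31,0),(3,827),(73,0),(13,191),(23,0),(71,0),(113,0),(3,829),(2,311),
    (19,131),(83,0),(47,53),(89,0),(3,277),(43,0),(5,499),(13,0),(11,227),(2,1249),(17,0),(2,5),
    (41,61),(139,0),(2503,2),(2,313),(167,0),(179,0),(23,109),(19,0),(13,193),(251,0),(3,31),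
    (2,157),(7,359),(419,0),(5,503),(37,0),(3,839),(2,1259),(11,229),(0,0),(2521,2),(97,0),(3,29),
    (2,631),(5,101),(421,0),(7,19),(2,79),(3,281),(23,0),(2531,2),(211,0),(17,149),(181,0),(5,0),
    (2,317),(43,59),(47,0),(2539,2),(127,0),(7,0),(41,0),(2543,2),(53,0),(5,509),(67,0),(3,283),
    (13,0),(2549,2),(17,0),(2551,2),(29,0),(37,0),(2,1277),(73,0),(71,0),(2557,2),(2,1279),
    (3,853),(2,5),(13,197),(61,0),(11,233),(2,641),(19,0),(2,1283),(17,151),(107,0),(7,367),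
    (257,0),(3,857),(2,643),(31,83),(13,0),(5,103),(23,0),(3,859),(2,1289),(2579,2),(43,0),
    (29,89),(2,1291),(41,0),(19,0),(47,0),(431,0),(13,199),(2,647),(3,863),(37,0),(2591,2),(2,3),
    (2593,2),(2,1297),(173,0),(59,0),(7,53),(433,0),(23,113),(13,0),(3,17),(2,1301),(19,137),
    (31,0),(5,521),(2,1303),(79,0),(2,163),(2609,2),(29,0),(7,373),(2,653),(67,0),(2,1307),
    (5,523),(109,0),(2617,2),(17,0),(3,97),(131,0),(2621,2),(23,0),(43,61),(2,41),(7,0),(101,0),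
    (37,71),(73,0),(11,239),(263,0),(3,877),(47,0),(2633,2),(439,0),(31,0),(2,659),(3,293),
    (2,1319),(29,0),(11,0),(19,139),(2,1321),(3,881),(2,661),(5,23),(2,0),(2647,2),(2,331),
    (3,883),(53,0),(11,241),(17,0),(7,379),(2,1327),(59,0),(2,83),(2657,2),(443,0),(2659,2),
    (19,0),(3,887),(2,11),(2663,2),(37,0),(41,0),(43,0),(127,0),(29,0),(17,157),(89,0),(2671,2),
    (2,167),(3,11),(191,0),(5,107),(223,0),(2677,2),(103,0),(47,0),(67,0),(7,383),(149,0),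
    (2683,2),(61,0),(179,0),(79,0),(2687,2),(7,0),(2689,2),(269,0),(23,0),(2,673),(2693,2),
    (449,0),(11,0),(2,337),(31,0),(71,0),(2699,2),(0,0),(37,73),(193,0),(53,0),(2,13),(5,541),
    (41,0),(2707,2),(2,677),(43,0),(271,0),(2711,2),(113,0),(2713,2),(59,0),(181,0),(97,0),(19,0),
    (151,0),(2719,2),(17,0),(3,907),(2,1361),(7,389),(227,0),(5,109),(47,0),(3,101),(31,0),
    (2729,2),(7,0),(2731,2),(2,683),(3,911),(2,1367),(5,547),(19,0),(23,0),(2,37),(83,0),(137,0),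
    (2741,2),(457,0),(13,211),(2,7),(61,0),(2,1373),(41,67),(229,0),(2749,2),(11,0),(131,0),
    (2,43),(2753,2),(17,0),(29,0),(53,0),(3,919),(197,0),(31,89),(23,0),(11,251),(2,1381),(3,307),
    (2,691),(79,0),(461,0),(2767,2),(2,173),(71,0),(277,0),(17,163),(11,0),(47,59),(73,0),(37,0),
    (2,347),(2777,2),(463,0),(7,397),(139,0),(3,103),(107,0),(11,23),(29,0),(5,557),(199,0),
    (3,929),(41,0),(2789,2),(31,0),(2791,2),(2,349),(19,0),(127,0),(43,0),(233,0),(2797,2),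
    (2,1399),(3,311),(7,0),(2801,2),(467,0),(2803,2),(2,701),(17,0),(61,0),(7,401),(13,0),(53,2),
    (281,0),(3,937),(37,0),(29,97),(67,0),(5,563),(2,11),(3,313),(2,1409),(2819,2),(47,0),(31,0),
    (83,0),(3,941),(2,353),(5,113),(157,0),(11,257),(101,0),(41,0),(283,0),(19,149),(59,0),
    (2833,2),(109,0),(7,0),(2,709),(2837,2),(43,0),(17,167),(71,0),(3,947),(29,0),(2843,2),(79,0),
    (5,569),(2,1423),(73,0),(2,89),(37,0),(19,0),(2851,2),(31,0),(3,317),(2,1427),(5,571),(17,0),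
    (2857,2),(2,1429),(3,953),(13,0),(2861,2),(53,0),(7,409),(2,179),(191,0),(2,1433),(47,61),
    (239,0),(19,151),(41,0),(29,0),(2,359),(13,17),(479,0),(5,23),(2,719),(137,0),(2,1439),
    (2879,2),(5,0),(43,67),(131,0),(3,31),(103,0),(5,577),(37,0),(2887,2),(2,19),(3,107),(5,0),
    (7,59),(241,0),(11,263),(2,1447),(193,0),(2,181),(2897,2),(23,0),(13,223),(29,0),(3,967),
    (2,1451),(2903,2),(3,0),(83,0),(2,1453),(19,0),(2,727),(2909,2),(97,0),(41,71),(13,0),(3,971),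
    (47,0),(53,0),(2,3),(2917,2),(2,1459),(139,0),(73,0),(23,127),(487,0),(37,79),(43,0),(13,0),
    (19,0),(2927,2),(61,0),(29,101),(293,0),(3,977),(2,733),(7,419),(163,0),(5,587),(2,367),
    (89,0),(113,0),(2939,2),(5,0),(17,173),(2,1471),(3,109),(2,23),(31,0),(491,0),(7,421),(67,0),
    (3,983),(59,0),(13,227),(41,0),(2953,2),(211,0),(197,0),(2,739),(2957,2),(29,0),(11,269),
    (37,0),(47,0),(2,1481),(2963,2),(19,0),(5,593),(2,1483),(43,0),(53,0),(2969,2),(11,0),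
    (2971,2),(2,743),(3,991),(2,1487),(17,0),(31,0),(13,229),(2,1489),(3,331),(149,0),(11,271),
    (71,0),(19,157),(2,373),(199,0),(2,1493),(29,103),(83,0),(7,61),(23,0),(3,997),(17,0),(41,73),
    (499,0),(5,599),(107,0),(3,37),(2,1499),(2999,2),(3,0),(3001,2),(79,0),(13,0),(2,751),(5,601),
    (167,0),(31,97),(2,47),(59,0),(43,0),(3011,2),(251,0)]

theorem c2 : checkL 80 ex 2373 L2 = true ∧ L2.length = 640 := by decide +kernel

def L3 : List (ℕ × ℕ) :=
  [(23,131),(137,0),(67,0),(29,0),(7,431),(503,0),(3019,2),(151,0),(53,0),(2,1511),(3023,2),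
    (7,0),(5,11),(89,0),(3,1009),(2,757),(13,233),(101,0),(7,433),(2,379),(3,337),(41,0),(5,607),
    (23,0),(3037,2),(31,0),(3,1013),(19,0),(3041,2),(2,0),(17,179),(2,761),(29,0),(2,1523),
    (11,277),(127,0),(3049,2),(61,0),(3,113),(109,0),(43,71),(509,0),(47,0),(2,191),(3,1019),
    (139,0),(23,0),(17,0),(3061,2),(2,1531),(3,1021),(2,383),(5,613),(73,0),(3067,2),(59,0),
    (31,0),(307,0),(37,83),(2,3),(7,439),(53,0),(41,0),(2,769),(17,181),(19,0),(3079,2),(11,0),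
    (79,0),(67,0),(3083,2),(257,0),(5,617),(2,1543),(3,7),(2,193),(3089,2),(103,0),(11,281),
    (2,773),(3,1031),(17,0),(5,619),(43,0),(19,163),(2,1549),(3,1033),(31,0),(7,443),(47,0),
    (29,107),(2,97),(23,0),(2,1553),(13,239),(37,0),(3109,2),(311,0),(61,0),(2,389),(11,283),
    (173,0),(89,0),(41,0),(3,1039),(2,1559),(3119,2),(13,0),(3121,2),(223,0),(3,347),(71,0),(5,2),
    (521,0),(53,59),(23,0),(149,0),(313,0),(31,101),(29,0),(13,241),(2,1567),(19,0),(2,7),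
    (3137,2),(523,0),(43,73),(157,0),(3,349),(2,1571),(7,449),(131,0),(37,0),(13,0),(3,1049),
    (2,787),(47,67),(7,0),(23,137),(2,197),(3,1051),(83,0),(5,631),(263,0),(41,0),(2,1579),(3,13),
    (79,0),(29,109),(31,0),(3163,2),(113,0),(211,0),(2,1583),(3167,2),(11,0),(3169,2),(317,0),
    (151,0),(61,0),(19,167),(3,0),(5,127),(2,397),(3,353),(227,0),(11,17),(53,0),(3181,2),(43,0),
    (3,1061),(2,199),(13,0),(59,0),(3187,2),(2,797),(3,1063),(29,0),(3191,2),(19,0),(31,103),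
    (2,1597),(71,0),(47,0),(23,139),(41,0),(7,457),(2,5),(97,0),(2,1601),(3203,2),(89,0),(5,641),
    (229,0),(3,1069),(2,401),(3209,2),(107,0),(13,19),(73,0),(17,0),(2,1607),(5,643),(67,0),
    (3217,2),(2,1609),(37,0),(23,0),(3221,2),(179,0),(11,293),(31,0),(43,0),(2,1613),(7,461),
    (269,0),(3229,2),(19,0),(3,359),(2,101),(53,61),(11,0),(5,647),(2,809),(83,0),(2,1619),
    (41,79),(5,0),(7,463),(2,1621),(47,0),(2,811),(59,0),(541,0),(17,191),(29,0),(3,19),(13,0),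
    (3251,2),(271,0),(3253,2),(2,1627),(31,0),(37,0),(3257,2),(181,0),(3259,2),(163,0),(3,1087),
    (233,0),(13,251),(17,0),(5,653),(71,0),(3,11),(43,0),(7,467),(109,0),(3271,2),(2,409),
    (3,1091),(2,1637),(5,131),(13,0),(29,113),(149,0),(3,1093),(41,0),(17,193),(547,0),(7,67),
    (2,821),(73,0),(53,0),(19,173),(137,0),(23,0),(47,0),(3,1097),(2,823),(37,89),(61,0),(5,659),
    (2,103),(157,0),(97,0),(3299,2),(11,0),(3301,2),(127,0),(3,367),(59,0),(5,661),(29,0),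
    (3307,2),(2,827),(3,1103),(331,0),(43,0),(23,0),(3313,2),(2,1657),(17,0),(2,829),(31,107),
    (79,0),(3319,2),(83,0),(3,41),(151,0),(3323,2),(277,0),(19,0),(2,1663),(3,1109),(2,13),
    (3329,2),(37,0),(3331,2),(17,0),(101,0),(2,1667),(29,0),(139,0),(47,71),(2,1669),(53,0),
    (167,0),(13,257),(557,0),(3343,2),(19,0),(223,0),(239,0),(3347,2),(31,0),(17,197),(67,0),
    (3,1117),(2,419),(7,479),(43,0),(61,0),(2,839),(3,373),(73,0),(3359,2),(0,0),(3361,2),(2,41),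
    (59,0),(2,29),(5,673),(17,0),(37,0),(2,421),(3,1123),(337,0),(3371,2),(281,0),(3373,2),
    (241,0),(3,5),(2,211),(11,307),(563,0),(31,109),(5,0),(23,0),(89,0),(17,199),(47,0),(5,677),
    (2,1693),(3,1129),(7,0),(3389,2),(113,0),(3391,2),(2,53),(29,0),(2,1697),(97,0),(283,0),
    (43,79),(2,1699),(103,0),(17,0),(19,179),(7,0),(41,83),(37,0),(227,0),(131,0),(3407,2),(71,0),
    (7,487),(31,0),(3,379),(2,853),(3413,2),(569,0),(5,683),(61,0),(67,0),(2,1709),(13,263),(0,0),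
    (11,311),(59,0),(163,0),(2,107),(5,137),(571,0),(23,149),(2,857),(3,127),(5,0),(47,73),(13,0),
    (3433,2),(101,0),(229,0),(2,859),(7,491),(191,0),(19,181),(43,0),(37,0),(2,1721),(11,313),
    (41,0),(53,0),(2,1723),(3,383),(2,431),(3449,2),(23,0),(29,0),(2,863),(3,1151),(157,0),
    (5,691),(2,3),(3457,2),(19,0),(3,1153),(173,0),(3461,2),(577,0),(3463,2),(2,433),(11,0),
    (2,1733),(3467,2),(3,0),(3469,2),(347,0),(89,0),(31,0),(23,151),(193,0),(5,139),(79,0),(61,0),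
    (47,0),(7,71),(29,0),(59,2),(2,1741),(3,43),(67,0),(41,0),(83,0),(11,317),(2,109),(3,1163),
    (349,0),(3491,2),(97,0),(7,499),(2,1747),(233,0),(23,0),(13,269),(53,0),(3499,2),(7,0),
    (3,389),(103,0),(31,113),(73,0),(5,701),(2,1753),(167,0),(2,877),(11,29),(13,0),(3511,2),
    (2,439),(3,1171),(251,0),(37,0),(293,0),(3517,2),(2,1759),(23,0),(11,0),(7,503),(587,0),
    (13,271),(2,881),(47,0),(43,0),(3527,2),(7,1),(3529,2),(353,0),(107,0),(2,883),(3533,2),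
    (31,0),(101,0),(17,0),(3,131),(61,0),(3539,2),(59,0),(3541,2),(23,0),(3,1181),(2,443),(5,709),
    (197,0),(3547,2),(2,887),(7,0),(71,0),(53,67),(37,0),(19,0),(2,1777),(79,0),(127,0),(3557,2),
    (593,0),(3559,2),(89,0),(3,1187),(137,0),(7,509),(11,0),(31,0),(2,1783),(41,0),(2,223),
    (43,83),(17,0),(3571,2),(47,0),(3,397),(2,1787),(13,0),(149,0),(7,73),(2,1789),(3,1193),
    (179,0),(3581,2),(199,0),(3583,2),(2,7),(239,0),(163,0),(17,211),(23,0),(37,97),(359,0),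
    (19,0),(2,449),(3593,2),(599,0),(5,719),(31,0),(109,0),(257,0),(59,61),(0,0),(13,277),
    (2,1801),(3,1201),(53,0),(103,0),(601,0),(3607,2),(41,0),(3,401),(5,0),(23,157),(43,0),
    (3613,2),(139,0),(241,0),(2,113),(3617,2),(67,0),(47,0),(181,0),(71,0),(2,1811),(3623,2),
    (151,0),(5,29),(37,0),(31,0),(2,907),(19,191),(5,0),(3631,2),(2,227),(173,0),(79,0),(5,727),
    (101,0),(3637,2),(107,0),(3,1213),(13,0)]

theorem c3 : checkL 80 ex 3013 L3 = true ∧ L3.length = 628 := by decide +kernel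

theorem mem_ex {G : Type*} [Group G] [Finite G] [IsSimpleGroup G] (hG : ¬ IsMulCommutative G)
    (h1 : 1092 < Nat.card G) (h2 : Nat.card G ≤ 3640) : Nat.card G ∈ ex := by
  by_cases h10 : Nat.card G < 1733
  · exact mem_of_checkL hG c0.1 (by omega) (by rw [c0.2]; omega)
  by_cases h11 : Nat.card G < 2373
  · exact mem_of_checkL hG c1.1 (by omega) (by rw [c1.2]; omega)
  by_cases h12 : Nat.card G < 3013
  · exact mem_of_checkL hG c2.1 (by omega) (by rw [c2.2]; omega)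
  exact mem_of_checkL hG c3.1 (by omega) (by rw [c3.2]; omega)

end CA.H7OrdA
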