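import Mathlib
import Cfsg.Agent.Lib.Block.H7OrdA
import Cfsg.Agent.Lib.Block.H7M12b
import Cfsg.Agent.Lib.Perm.Sharp4
import Cfsg.Agent.S0496
import Cfsg.Agent.S0983

/-! The orders of the non-abelian simple groups of order less than 6000. -/

set_option autoImplicit false

namespace CA.H7OrdB

open Cfsg Subgroup CA.H28Syl CA.H28SC CA.H28Prin CA.H28Sol CA.H28Br2 CA.H28Simp CA.H28Sv
open CA.H7M12 MulAction

variable {G : Type*} [Group G] [Finite G]

theorem ten_le [IsSimpleGroup G] (hG : ¬ IsMulCommutative G) (h : 25 ∣ Nat.card G)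
    {M : Subgroup G} (hM : M ≠ ⊤) : 10 ≤ M.index := by
  by_contra h7
  have := (h.mul_left 2).trans ((two_mul_card_dvd hG M hM).trans
    (Nat.factorial_dvd_factorial (show M.index ≤ 9 by omega)))
  norm_num [Nat.factorial] at this

theorem index_ge [IsSimpleGroup G] (hG : ¬ IsMulCommutative G) (h : 25 ∣ Nat.card G)
    (hle : Nat.card G ≤ 3600) {M : Subgroup G} (hM : M ≠ ⊤) : 15 ≤ M.index := by
  classical
  by_contra h1
  have h2 := ten_le hG h hM
  have : Fact (Nat.Prime 5) := ⟨by norm_num⟩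
  have := Fintype.ofFinite (G ⧸ M)
  have hc : Fintype.card (G ⧸ M) = M.index := Nat.card_eq_fintype_card.symm
  have h3 : IsCoatom M := ⟨hM, fun K hK => by_contra fun e => by
    have h4 := ten_le hG h e
    obtain ⟨k, hk⟩ := index_dvd_of_le hK.le
    have h5 : k = 1 := by
      rcases k with _ | _ | k
      · omega
      · rfl
      · nlinarith
    rw [h5, mul_one] at hk
    have h6 := card_mul_index M
    rw [hk, ← card_mul_index K] at h6
    exact hK.ne (eq_of_le_of_card_ge hK.le
      (Nat.eq_of_mul_eq_mul_right (by omega) h6).ge)⟩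
  have : Nontrivial (G ⧸ M) := Fintype.one_lt_card_iff_nontrivial.1 (by omega)
  have h4 : IsPreprimitive G (G ⧸ M) := (isCoatom_stabilizer_iff_preprimitive G
    ((1 : G) : G ⧸ M)).1 (by rwa [stabilizer_quotient])
  have h5 : Function.Injective (toPermHom G (G ⧸ M)) := by
    rw [← MonoidHom.ker_eq_bot_iff, ← normalCore_eq_ker]
    exact (normalCore_normal M).eq_bot_or_eq_top.resolve_right fun e =>
      hM (top_le_iff.1 (e ▸ normalCore_le M))
  obtain ⟨P, hP⟩ := Sylow.exists_subgroup_card_pow_prime 5 (n := 2) h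
  have h6 : Nat.card (P.map (toPermHom G (G ⧸ M))) =
      5 ^ (Nat.card (Equiv.Perm (G ⧸ M))).factorization 5 := by
    rw [card_map_of_injective h5, hP, Nat.card_perm, Nat.card_eq_fintype_card, hc]
    have : M.index ≤ 14 := by omega
    generalize M.index = i at *
    interval_cases i <;> decide +kernel
  obtain ⟨c, h7⟩ := (Equiv.Perm.exists_with_cycleType_iff (G ⧸ M) (m := {5})).2
    ⟨by simp; omega, by simp⟩
  have h8 : c.IsCycle := Equiv.Perm.card_cycleType_eq_one.1 (by rw [h7]; rfl)
  have h9 : c.support.card = 5 := by rw [← Equiv.Perm.sum_cycleType, h7]; rfl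
  obtain ⟨R, hR⟩ := (IsPGroup.of_card (G := zpowers c) (p := 5) (n := 1) (by
    rw [Nat.card_zpowers, h8.orderOf, h9]; rfl)).exists_le_sylow
  obtain ⟨σ, hσ⟩ := exists_smul_eq (Equiv.Perm (G ⧸ M)) R (Sylow.ofCard _ h6)
  have h10 : σ * c * σ⁻¹ ∈ P.map (toPermHom G (G ⧸ M)) := by
    have := smul_mem_pointwise_smul c (MulAut.conj σ) _ (hR (mem_zpowers c))
    rwa [← Sylow.coe_subgroup_smul, hσ] at this
  have h11 := card_le_of_le (CA.PermJordan.alt_le_of_prime_cycle _
    (CA.Sharp4.preprimitive_range h4) (p := 5) (by norm_num) (by omega) h8.conj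
    (by rw [Equiv.Perm.card_support_conj, h9]) (map_le_range _ _ h10))
  have h12 := two_mul_nat_card_alternatingGroup (α := G ⧸ M)
  rw [Nat.card_perm, Nat.card_eq_fintype_card (α := G ⧸ M), hc] at h12
  have h13 := Nat.factorial_le h2
  have h14 : Nat.card (toPermHom G (G ⧸ M)).range = Nat.card G :=
    (Nat.card_congr (MonoidHom.ofInjective h5).toEquiv).symm
  norm_num [Nat.factorial] at h13
  omega

theorem no150 (h : Nat.card G = 150) [Fact (Nat.Prime 5)] {P R : Sylow 5 G} : P = R := by
  by_contra hne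
  obtain ⟨Q⟩ : Nonempty (Sylow (Nat.card G).minFac G) := by
    haveI : Fact (Nat.card G).minFac.Prime := ⟨Nat.minFac_prime (by omega)⟩
    infer_instance
  have h2 : (Nat.card G).minFac = 2 := by rw [h]; norm_num
  generalize hq : (Nat.card G).minFac = q at Q h2
  subst h2
  have h3 := card_sylow_of (G := G) (p := 2) (a := 1) (m := 75) h (by norm_num) Q
  have h4 := (isCyclic_of_prime_card (p := 2) h3).isComplement' hq
  set K := (MonoidHom.transferSylow Q _).ker
  have h5 : K.index = 2 := by rw [h4.symm.index_eq_card, h3]; rfl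
  have h6 : Nat.card K = 5 ^ 2 * 3 := by
    have := K.card_mul_index
    rw [h5] at this
    omega
  have key : ∀ S : Sylow 5 G, (S : Subgroup G) ≤ K := fun S x hx => by
    have h7 := card_sylow_of (G := G) (p := 5) (a := 2) (m := 6) h (by norm_num) S
    have h8 : x ^ 25 = 1 := congrArg Subtype.val (h7 ▸ pow_card_eq_one' (x := (⟨x, hx⟩ : S)))
    have h9 := K.pow_mem (K.pow_index_mem x) 13
    rwa [h5, ← pow_mul, pow_succ, h8, one_mul] at h9
  have h7 := one_lt_card_sylow hne (key P) (key R)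
  have h8 := card_sylow_dvd h6 (by norm_num)
  have h9 := card_sylow_modEq_one 5 K
  have := Nat.le_of_dvd (by norm_num) h8
  unfold Nat.ModEq at h9
  omega

theorem no25 [IsSimpleGroup G] {m : ℕ} (h : Nat.card G = 5 ^ 2 * m) (hm : m = 72 ∨ m = 108 ∨ m = 144) :
    False := by
  have hG : ¬ IsMulCommutative G := not_comm_of_card (by
    rw [h]; exact Nat.not_prime_mul (by norm_num) (by omega))
  have : Fact (Nat.Prime 5) := ⟨by norm_num⟩
  have h5 : ¬ 5 ∣ m := by omega
  have h1 := card_sylow_dvd h h5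
  have h2 := card_sylow_ne_one hG (p := 5) (h ▸ (by norm_num : 5 ∣ 5 ^ 2).mul_right m)
  obtain ⟨P, R, hne, h8, hP, hR⟩ := exists_inter_normal (p := 5) (G := G) fun h8 => by
    have := Nat.le_of_dvd (by omega) h1
    unfold Nat.ModEq at h8
    generalize Nat.card (Sylow 5 G) = n at *
    have h9 : n = 26 ∨ n = 51 ∨ n = 76 ∨ n = 101 ∨ n = 126 := by omega
    rcases hm with rfl | rfl | rfl <;> rcases h9 with rfl | rfl | rfl | rfl | rfl <;> omega
  have h9 := card_sylow_of h h5 P
  set M := normalizer (((P : Subgroup G) ⊓ R : Subgroup G) : Set G) with hM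
  have h10 : M ≠ ⊤ := normalizer_ne_top (fun e => by rw [e, card_bot, h9] at h8; omega)
    fun e => sylow_ne_top hG P (top_le_iff.1 (e ▸ inf_le_left))
  obtain ⟨l, hl⟩ := h9 ▸ card_dvd_of_le hP
  have h11 : l * M.index = m := Nat.eq_of_mul_eq_mul_left (show 0 < 5 ^ 2 by norm_num) (by
    rw [← mul_assoc, ← hl, card_mul_index, h])
  have h12 := index_ge hG ⟨m, h⟩ (by omega) h10
  have hl1 : ¬ 5 ∣ l := fun e => h5 (h11 ▸ e.mul_right _)
  have h13 := card_sylow_dvd hl hl1
  have h14 := card_sylow_modEq_one 5 M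
  have h15 := one_lt_card_sylow hne hP hR
  have h16 : l ≤ 9 := by have := Nat.mul_le_mul_left l h12; omega
  have h17 := Nat.le_of_dvd (Nat.pos_of_ne_zero fun e => hl1 (by rw [e]; exact dvd_zero 5)) h13
  unfold Nat.ModEq at h14
  have h18 : Nat.card (Sylow 5 M) = 6 := by omega
  have h19 : l = 6 := by rw [h18] at h13; omega
  rw [Finite.one_lt_card_iff_nontrivial] at h15
  obtain ⟨A, B, e⟩ := h15
  exact e (no150 (by rw [hl, h19]; rfl))

theorem no3360 [IsSimpleGroup G] (h : Nat.card G = 3360) : False := by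
  have hc : ¬ IsMulCommutative G := not_comm_of_card (by rw [h]; norm_num)
  have : Fact (Nat.Prime 5) := ⟨by norm_num⟩
  have : Fact (Nat.Prime 7) := ⟨by norm_num⟩
  obtain ⟨x, hx⟩ := exists_isSylGen (G := G) (p := 5) (by rw [h]; decide) (by rw [h]; decide)
  obtain ⟨d⟩ := exists_P1 hx
  obtain ⟨s, hs, l, H⟩ := has_of_check hc hx d (al := fun _ => true) (B := 58)
    (S := [(336, 2, 7, [6])]) h (fun _ _ => rfl) (by decide +kernel)
  obtain rfl := List.mem_singleton.1 hs
  have hal := deg_mem H (H.sc hx h) (L := [1, 6, 7]) (by simp) (by simp) (by simp)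
  obtain ⟨y, hy⟩ := exists_isSylGen (G := G) (p := 7) (by rw [h]; decide) (by rw [h]; decide)
  obtain ⟨d'⟩ := exists_P1 hy
  obtain ⟨s, hs, -⟩ := has_of_check hc hy d' (B := 58) (S := [])
    (al := fun z => z % 5 == 0 || [1, 6, 7].contains z) h (fun χ _ => by
      by_cases e : 5 ∣ charDegree χ.1
      · simp [Nat.mod_eq_zero_of_dvd e]
      · simp only [Bool.or_eq_true, List.contains_iff_mem]; exact Or.inr (hal χ e))
    (by decide +kernel)
  simp at hs

/-- The orders of the non-abelian simple groups of order less than 6000. -/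
def ords : List ℕ := [60, 168, 360, 504, 660, 1092, 2448, 2520, 3420, 4080, 5616]

theorem mem_ords [IsSimpleGroup G] (hG : ¬ IsMulCommutative G) (h : Nat.card G < 6000) :
    Nat.card G ∈ ords := by
  simp only [ords, List.mem_cons, List.not_mem_nil, or_false]
  by_cases h1 : Nat.card G ≤ 1092
  · have := Cfsg.Agent.S0496.result hG h1
    omega
  by_cases h2 : Nat.card G ≤ 3640
  · have h3 := CA.H7OrdA.mem_ex hG (by omega) h2
    simp only [CA.H7OrdA.ex, List.mem_cons, List.not_mem_nil, or_false] at h3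
    have h4 : Nat.card G ≠ 1800 := fun e => no25 (m := 72) e (by simp)
    have h5 : Nat.card G ≠ 2700 := fun e => no25 (m := 108) e (by simp)
    have h6 : Nat.card G ≠ 3600 := fun e => no25 (m := 144) e (by simp)
    have h7 : Nat.card G ≠ 3360 := no3360
    omega
  · have := Cfsg.Agent.S0983.result hG (by omega) (by omega)
    omega

end CA.H7OrdB
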