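import Mathlib
import Cfsg.Agent.Lib.Block.H7Gr
import Cfsg.Agent.Lib.Block.H7OrdB
import Cfsg.Agent.Lib.Block.H7L33
import Cfsg.Agent.Lib.Char.Gall
import Cfsg.Agent.S0892
import Cfsg.Agent.S0494
import Cfsg.Agent.S0495
import Cfsg.Agent.S0497
import Cfsg.Agent.S0498
import Cfsg.Agent.S1011
import Cfsg.Agent.S1020
import Cfsg.Agent.S0984
import Cfsg.Agent.S1021
import Cfsg.Agent.S0981

/-! Character degrees of the simple groups of order less than 6000. -/

set_option autoImplicit false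

namespace CA.H7Gr

open Cfsg Finset Subgroup CA.H28Syl CA.H28SC CA.H28Prin CA.H28Sol CA.H28Trick CA.H28Br2 CA.H28BT
open CChar.CharRep CChar.CharFun CChar.CharOrth CChar.CharInt CChar.CharKer CA.H28Simp
open CA.H28M11 CA.H28Syl2 CA.H7M12 CA.H7OrdB CA.H12Cover CA.BlkCov CA.Clif
open scoped ComplexConjugate

variable {G : Type*} [Group G] [Finite G]

section
variable {p : ℕ} [hp : Fact p.Prime] {x : G} {d : P1 p x} {s : Pat} {l : List (IrrCharacter G)}

theorem split (d : P1 p x) (hs : SC p x) {A : Type*} [AddCommMonoid A] (F : IrrCharacter G → A) :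
    ∑ χ, F χ = ∑ χ ∈ d.X, F χ + ∑ χ ∈ d.Y, F χ + ∑ χ with p ∣ charDegree χ.1, F χ := by
  classical
  rw [← sum_union d.disj, add_comm, ← sum_filter_add_sum_filter_not univ
    (fun χ : IrrCharacter G => p ∣ charDegree χ.1)]
  congr 2
  ext χ
  rw [mem_filter, mem_union, d.mem_iff_not_dvd hs.isSylGen hs.VV_eq_bot]
  simp

theorem degY (H : Has d s l) {ψ : IrrCharacter G} (h : ψ ∈ d.Y) :
    charDegree ψ.1 = s.2.2.1.natAbs := by
  rw [← H.degY ψ h]
  rcases d.hδ with e | e <;> simp [e]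

theorem degX (H : Has d s l) : l.map (fun χ => charDegree χ.1) = s.2.2.2.map Int.natAbs := by
  rw [← H.deg, List.map_map]
  exact List.map_congr_left fun χ h => by rcases d.hε χ (H.mem' h) with e | e <;> simp [e]

/-- The sum of the squares of the degrees in the principal block. -/
def sq (p : ℕ) (s : Pat) : ℕ :=
  1 + ((s.2.2.2.map Int.natAbs).map (· ^ 2)).sum + (p - 1) / s.2.1 * s.2.2.1.natAbs ^ 2

theorem sq_eq (H : Has d s l) (hs : SC p x) :
    Nat.card G = sq p s + ∑ χ : IrrCharacter G with p ∣ charDegree χ.1, charDegree χ.1 ^ 2 := by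
  rw [← sum_charDegree_sq, split d hs, H.sum, degree_one, Finset.sum_congr rfl (s₁ := d.Y)
    fun ψ h => by rw [degY H h], sum_const, d.card_Y, H.ee_eq, sq, ← degX H, List.map_map]
  rfl

theorem info [IsSimpleGroup G] {n B : ℕ} {L : List Pat} (hn : Nat.card G = n) (h0 : p ∣ n)
    (h0' : ¬ p ^ 2 ∣ n) (h1 : ¬ n.Prime) (h : checkS L (fun _ => true) n p B = true)
    (hL : ∀ s ∈ L, n = p * (s.2.1 * s.1)) :
    ∃ (x : G) (d : P1 p x), SC p x ∧ ∃ s ∈ L, ∃ l, Has d s l := by
  subst hn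
  obtain ⟨x, hx⟩ := exists_isSylGen h0 h0'
  obtain ⟨d⟩ := exists_P1 hx
  obtain ⟨s, hs, l, H⟩ := has_of_check (not_comm_of_card h1) hx d rfl (fun _ _ => rfl) h
  exact ⟨x, d, H.sc hx (hL s hs), s, hs, l, H⟩

theorem rho [IsSimpleGroup G] {n q B : ℕ} {L : List Pat} (hn : Nat.card G = n) (h0 : p ∣ n)
    (h0' : ¬ p ^ 2 ∣ n) (h1 : ¬ n.Prime) (h : checkS L (fun _ => true) n p B = true)
    (hL : ∀ s ∈ L, n = p * (s.2.1 * s.1) ∧ n ≠ sq p s ∧ (q = p ∨ ∃ z ∈ s.2.2.2, q ∣ z.natAbs)) :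
    (∃ χ : IrrCharacter G, p ∣ charDegree χ.1) ∧ ∃ χ : IrrCharacter G, q ∣ charDegree χ.1 := by
  obtain ⟨x, d, hs, s, m, l, H⟩ := info hn h0 h0' h1 h fun s e => (hL s e).1
  obtain ⟨-, h2, h3⟩ := hL s m
  have h4 : ∃ χ : IrrCharacter G, p ∣ charDegree χ.1 := by
    by_contra e
    push Not at e
    refine h2 ?_
    rw [← hn, sq_eq H hs, filter_false_of_mem fun χ _ => e χ, sum_empty, add_zero]
  refine ⟨h4, h3.elim (fun e => e ▸ h4) fun ⟨z, z1, z2⟩ => ?_⟩
  obtain ⟨χ, -, e⟩ := List.mem_map.1 (degX H ▸ List.mem_map_of_mem (f := Int.natAbs) z1)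
  exact ⟨χ, e ▸ z2⟩

theorem pw {n q : ℕ} (hn : n ≠ 0) (hq : q.Prime) (h : ∀ d ∈ n.divisors, d % p = 1 % p → d = 1 ∨
    d = q ^ 3 ∨ ∃ a ∈ [2, 3, 5, 7], ∃ b ∈ [2, 3, 5, 7], a ≠ b ∧ a ∣ d ∧ b ∣ d) (r c : ℕ)
    (hr : r.Prime) (hc : 0 < c) (h1 : r ^ c ∣ n) (h2 : r ^ c ≡ 1 [MOD p]) : r = q ∧ c = 3 := by
  have k0 : ∀ a ∈ [2, 3, 5, 7], Nat.Prime a := by decide
  have k : ∀ a ∈ [2, 3, 5, 7], a ∣ r ^ c → a = r := fun a ha e =>
    (Nat.prime_dvd_prime_iff_eq (k0 a ha) hr).1 ((k0 a ha).dvd_of_dvd_pow e)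
  rcases h _ (Nat.mem_divisors.2 ⟨h1, hn⟩) h2 with e | e | ⟨a, a1, b, b1, e, a2, b2⟩
  · exact absurd e (Nat.one_lt_pow hc.ne' hr.one_lt).ne'
  · obtain rfl : r = q := (Nat.prime_dvd_prime_iff_eq hr hq).1
      (hr.dvd_of_dvd_pow (e ▸ dvd_pow_self r hc.ne'))
    exact ⟨rfl, Nat.pow_right_injective hr.two_le e⟩
  · exact absurd ((k a a1 a2).trans (k b b1 b2).symm) e

end

instance fact5 : Fact (Nat.Prime 5) := ⟨by norm_num⟩
instance fact7 : Fact (Nat.Prime 7) := ⟨by norm_num⟩
instance fact17 : Fact (Nat.Prime 17) := ⟨by norm_num⟩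
instance fact19 : Fact (Nat.Prime 19) := ⟨by norm_num⟩

theorem i60 [IsSimpleGroup G] (h : Nat.card G = 60) :
    (∃ ψ : IrrCharacter G, charDegree ψ.1 = 3) ∧
    (∀ T : Finset (IrrCharacter G), (∀ χ ∈ T, charDegree χ.1 = 3) → T.card ≤ 2) ∧
    ∀ θ θ' : IrrCharacter G, 5 ∣ charDegree θ.1 → 5 ∣ charDegree θ'.1 → θ = θ' := by
  classical
  obtain ⟨x, d, hs, s, m, l, H⟩ := info (p := 5) (B := 8) (L := [(6, 2, -3, [-4])]) h (by decide)
    (by decide) (by norm_num) (by decide +kernel) (by decide)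
  obtain rfl := List.mem_singleton.1 m
  obtain ⟨ψ, hψ⟩ := d.Y_nonempty
  refine ⟨⟨ψ, degY H hψ⟩, fun T hT => ?_, fun θ θ' h1 h2 => by_contra fun e => ?_⟩
  · have h1 := d.card_Y
    rw [H.ee_eq] at h1
    refine (card_le_card fun χ hχ => ?_).trans h1.le
    refine ((d.mem_iff_not_dvd hs.isSylGen hs.VV_eq_bot χ).2 (by rw [hT χ hχ]; decide)).resolve_left
      fun e => ?_
    have h2 := hT χ hχ
    rcases List.mem_cons.1 ((H.mem χ).1 e) with rfl | e'
    · rw [degree_one] at h2; omega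
    · have := degX H ▸ List.mem_map_of_mem (f := fun χ : IrrCharacter G => charDegree χ.1) e'
      simp [h2] at this
  · have h3 := sq_eq H hs
    have h4 := Finset.sum_le_sum_of_subset (f := fun χ : IrrCharacter G => charDegree χ.1 ^ 2)
      (show ({θ, θ'} : Finset _) ⊆ univ.filter fun χ : IrrCharacter G => 5 ∣ charDegree χ.1 by
        intro χ; simp only [mem_insert, mem_singleton, mem_filter]
        rintro (rfl | rfl) <;> simp [h1, h2])
    rw [sum_pair e] at h4
    have := Nat.pow_le_pow_left (Nat.le_of_dvd (charDegree_pos θ.2) h1) 2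
    have := Nat.pow_le_pow_left (Nat.le_of_dvd (charDegree_pos θ'.2) h2) 2
    rw [h, show sq 5 (6, 2, -3, [-4]) = 35 by decide] at h3
    omega

theorem i168 [IsSimpleGroup G] (h : Nat.card G = 168) :
    ∃ ψ : IrrCharacter G, 2 * 3 ∣ charDegree ψ.1 :=
  (rho (p := 7) (B := 13) (L := [(8, 3, 3, [-6, 8])]) h (by decide) (by decide) (by norm_num)
    (by decide +kernel) (by decide)).2

theorem i504 [IsSimpleGroup G] (h : Nat.card G = 504) (χ : IrrCharacter G) :
    ¬ 2 * 3 ∣ charDegree χ.1 := fun e => by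
  obtain ⟨x, d, hs, s, m, l, H⟩ := info (p := 7) (B := 23) (L := [(36, 2, 9, [8])]) h (by decide)
    (by decide) (by norm_num) (by decide +kernel) (by decide)
  obtain rfl := List.mem_singleton.1 m
  by_cases h1 : 7 ∣ charDegree χ.1
  · have := Nat.pow_le_pow_left (Nat.le_of_dvd (charDegree_pos χ.2)
      (Nat.Coprime.mul_dvd_of_dvd_of_dvd (by decide) h1 e)) 2
    have := degree_sq_le χ.2
    omega
  · have := deg_mem H hs (L := [1, 8, 9]) (by simp) (by simp) (by simp) χ h1
    simp only [List.mem_cons, List.not_mem_nil, or_false] at this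
    omega

theorem i360 [IsSimpleGroup G] (h : Nat.card G = 360) :
    (∃ χ : IrrCharacter G, 2 * 5 ∣ charDegree χ.1) ∧
      ∀ χ : IrrCharacter G, ¬ 2 * 3 ∣ charDegree χ.1 := by
  classical
  have hc : ¬ IsMulCommutative G := not_comm_of_card (by rw [h]; norm_num)
  obtain ⟨x, d, hs, s, m, l, H⟩ := info (p := 5) (B := 19) (L := [(36, 2, -8, [-9])]) h (by decide)
    (by decide) (by norm_num) (by decide +kernel) (by decide)
  obtain rfl := List.mem_singleton.1 m
  refine ⟨by_contra fun e => ?_, fun χ e => ?_⟩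
  · push Not at e
    have h3 := sq_eq H hs
    rw [h, show sq 5 (36, 2, -8, [-9]) = 210 by decide] at h3
    have h4 : ∀ χ : IrrCharacter G, 5 ∣ charDegree χ.1 → charDegree χ.1 = 5 := fun χ h1 => by
      have h5 := Finset.single_le_sum (f := fun χ : IrrCharacter G => charDegree χ.1 ^ 2)
        (s := univ.filter fun χ : IrrCharacter G => 5 ∣ charDegree χ.1)
        (fun _ _ => Nat.zero_le _) (mem_filter.2 ⟨mem_univ χ, h1⟩)
      have h6 : charDegree χ.1 < 15 := lt_of_pow_lt_pow_left₀ 2 (by decide) (by omega)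
      have := e χ
      have := charDegree_pos χ.2
      omega
    have h1 := H.deg
    simp only [List.map_eq_cons_iff, List.map_eq_nil_iff] at h1
    obtain ⟨a, _, rfl, ha, rfl⟩ := h1
    obtain ⟨a1, a2⟩ := H.neg (z := 9) (by simp) ha
    obtain ⟨y1, y2⟩ := H.negY (z := 8) rfl
    obtain ⟨t, ht⟩ := exists_prime_orderOf_dvd_card' (G := G) 2 (by rw [h]; decide)
    have v1 : ∀ ψ ∈ d.Y, ψ.1 t = 0 := fun ψ m1 =>
      CA.H28E2.vanish Nat.prime_two (m := 45) (by rw [y2 ψ m1, h]) (by decide) ht.symm.dvd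
    obtain ⟨ψ, m1⟩ := d.Y_nonempty
    have v2 : a.1 t = 1 := by
      have := H.rel m1 (not_dvd_of_two ht (by decide))
      simp only [List.map_cons, List.map_nil, List.sum_cons, List.sum_nil, a1, y1, v1 ψ m1] at this
      push_cast at this
      linear_combination this
    have h2 := isIntegral_centralChar a.2 t
    rw [centralChar_def, v2, irr_apply_one_eq a.2, a2, mul_one] at h2
    have h5 := dvd_of_isIntegral_div (by decide) h2
    have h6 := split d hs fun χ => 25 * (χ.1 t * conj (χ.1 t)) + 10 * (χ.1 1 * χ.1 t) - 3 * χ.1 1 ^ 2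
    have h7 := d.card_Y
    rw [H.ee_eq] at h7
    rw [sum_sub_distrib, sum_add_distrib, ← mul_sum, ← mul_sum, ← mul_sum,
      sum_irr_mul_conj_of_isConj (IsConj.refl t), sum_degree_mul_apply, sum_degree_sq, H.sum,
      Finset.sum_congr rfl (s₁ := d.Y) (g := fun _ => -192) fun ψ m => by
        rw [v1 ψ m, irr_apply_one_eq ψ.2, y2 ψ m]; norm_num, sum_const, h7,
      Finset.sum_eq_zero (s := filter _ _) fun χ m => by
        obtain ⟨z, z1, z2, z3, z4⟩ := inv_val' hc (h4 χ (mem_filter.1 m).2) (by decide) ht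
        rw [irr_apply_one_eq χ.2, h4 χ (mem_filter.1 m).2, z1, map_intCast]
        rcases (by omega : z = 1 ∨ z = -3) with rfl | rfl <;> norm_num, h,
      regChar_of_ne fun e => by rw [e, orderOf_one] at ht; omega] at h6
    simp only [List.map_cons, List.map_nil, List.sum_cons, List.sum_nil, irrOne_apply, v2,
      irr_apply_one_eq a.2, a2, map_one] at h6
    have h8 : Nat.card (centralizer ({t} : Set G)) = 24 := by
      refine Nat.cast_injective (R := ℂ) ?_
      simp only [nsmul_eq_mul] at h6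
      push_cast at h6 ⊢
      linear_combination h6 / 25
    have := card_mul_index (centralizer ({t} : Set G))
    rw [h8] at this
    omega
  · by_cases h1 : 5 ∣ charDegree χ.1
    · have := Nat.pow_le_pow_left (Nat.le_of_dvd (charDegree_pos χ.2)
        (Nat.Coprime.mul_dvd_of_dvd_of_dvd (by decide) h1 e)) 2
      have := degree_sq_le χ.2
      omega
    · have := deg_mem H hs (L := [1, 8, 9]) (by simp) (by simp) (by simp) χ h1
      simp only [List.mem_cons, List.not_mem_nil, or_false] at this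
      omega

theorem no360 (h : Nat.card G = 360) {L : Subgroup G} (N : Nice 5 L) (hL : (center L).index = 60)
    (h1 : ∃ χ : IrrCharacter G, 2 * 5 ∣ charDegree χ.1)
    (h2 : ∀ χ : IrrCharacter G, ¬ 2 * 3 ∣ charDegree χ.1) : False := by
  classical
  have := N.normal
  have := N.simple
  have := Fintype.ofFinite G
  have := Fintype.ofFinite L
  obtain ⟨χ, hχ⟩ := h1
  obtain ⟨θ, hθ⟩ := exists_under L χ
  have a1 := (not_dvd_degree_iff fact5.out N.idx hθ).1 (Dvd.dvd.trans (by decide) hχ)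
  have a2 := degree_sq_le_index θ.2 (center_le_charCenter θ.2) (irr_apply_one_eq θ.2)
  have a3 : charDegree θ.1 = 5 := by
    have h6 : charDegree θ.1 < 10 := lt_of_pow_lt_pow_left₀ 2 (by decide) (by omega)
    have := charDegree_pos θ.2
    omega
  obtain ⟨k, k1, k2⟩ := exists_degree_eq hθ
  rw [a3] at k2
  obtain ⟨e⟩ := Cfsg.Agent.S0494.result (G := L ⧸ center L) hL
  have a4 := Cfsg.Agent.S0892.result 5 (by decide) (by decide) (by decide) (center L) le_rfl
    (N.perfect ▸ le_top) e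
  have a5 := Nice.mul (L := L)
  have a6 : 0 < Nat.card (center L) := Nat.card_pos
  rw [hL, h] at a5
  have a7 : 2 ∣ L.index := Dvd.dvd.trans (by omega) k1
  obtain ⟨a8, a9⟩ : Nat.card (center L) = 1 ∧ L.index = 6 := by
    interval_cases Nat.card (center L) <;> omega
  have a10 : Nat.card L = 60 := by have := card_mul_index L; rw [a9] at this; omega
  have : Nontrivial L := Finite.one_lt_card_iff_nontrivial.1 (by omega)
  have : IsSimpleGroup L := ⟨fun M hM => (N.cases M).symm.imp_left fun e =>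
    le_bot_iff.1 (card_eq_one.1 a8 ▸ e)⟩
  obtain ⟨⟨ψ, hψ⟩, b1, b2⟩ := i60 a10
  obtain ⟨η, η1, η2⟩ := CA.Ext.exists_ext_of_det θ.2 (inertia_eq_top_iff.2 fun g =>
    congrArg Subtype.val (b2 (cjI g θ) θ (by
      rwa [coe_cjI, charDegree_eq_of_apply (cj_apply_one g θ.1)]) a1)) (irr_apply_one_eq θ.2)
    (by rw [a9, a3]; decide) 1 fun n => by
      obtain ⟨lam, e⟩ := CA.Ext.exists_detHom θ.1
      rw [e]
      simp only
      rw [show lam n = 1 from Abelianization.commutator_subset_ker lam (N.perfect ▸ mem_top n)]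
      rfl
  have η3 : (fun n : L => η n) = θ.1 := funext η2
  obtain ⟨β, β1, β2, β3⟩ := CA.Gall.exists_eq_mul (char_of_irr η1) (η3 ▸ θ.2) χ.2
    (η3 ▸ over_iff.1 hθ)
  have β4 : charDegree χ.1 = charDegree β * 5 := charDegree_eq (by
    rw [β3, Pi.mul_apply, irr_apply_one_eq β1, ← OneMemClass.coe_one L, η2, irr_apply_one_eq θ.2, a3]
    simp)
  obtain ⟨ζ, hζ⟩ := exists_over ψ
  obtain ⟨j, j1, j2⟩ := exists_degree_eq hζ
  obtain ⟨c, hc⟩ := inner_char_char (char_restrict (char_of_irr ζ.2) L) (char_of_irr ψ.2)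
  have c1 := apply_one_eq ζ.2 ψ.2 (over_iff.1 hζ)
  have c2 := inner_restrict_re_le L ζ.1
  rw [inner_res_res ζ.2 ψ.2 (over_iff.1 hζ), hc, inner_irr_self ζ.2, a9] at c2
  rw [hc, irr_apply_one_eq ζ.2, irr_apply_one_eq ψ.2, hψ] at c1
  have c3 : charDegree ζ.1 = c * (inertia ψ.1).index * 3 := by exact_mod_cast c1
  have c4 : c ^ 2 * (inertia ψ.1).index ≤ 6 := by
    have : ((c ^ 2 * (inertia ψ.1).index : ℕ) : ℝ) ≤ (6 : ℕ) := by
      rw [← Complex.natCast_re]; simpa using c2
    exact_mod_cast this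
  have c5 : (inertia ψ.1).index ≤ 2 := by
    rw [← card_conjs, ← card_attach, ← card_map ⟨fun φ : {φ // φ ∈ conjs ψ.1} =>
      (⟨φ.1, conjs_irr ψ.2 φ.2⟩ : IrrCharacter L), fun φ φ' e =>
        Subtype.ext (congrArg (Subtype.val : IrrCharacter L → _) e)⟩]
    refine b1 _ fun φ m => ?_
    obtain ⟨⟨φ', m'⟩, -, rfl⟩ := mem_map.1 m
    obtain ⟨g, rfl⟩ := mem_conjs.1 m'
    exact (charDegree_eq_of_apply (cj_apply_one g ψ.1)).trans hψ
  have c6 := h2 ζ
  have c7 := charDegree_pos ζ.2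
  have c8 : charDegree ζ.1 = 3 := by
    have : (inertia ψ.1).index ≠ 0 := index_ne_zero_of_finite
    generalize (inertia ψ.1).index = i at *
    have : c < 3 := lt_of_pow_lt_pow_left₀ 2 (by decide) (by interval_cases i <;> omega)
    interval_cases i <;> interval_cases c <;> omega
  have c9 : (fun n : L => ζ.1 n) = ψ.1 := funext (ext_of_over (char_of_irr ζ.2) hζ (by
    rw [irr_apply_one_eq ζ.2, irr_apply_one_eq ψ.2, c8, hψ]))
  refine h2 ⟨_, CA.Gall.irr_mul (char_of_irr ζ.2) (c9 ▸ ψ.2) β1 β2⟩ ?_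
  rw [charDegree_eq (n := charDegree β * 3) (by
    simp only [Pi.mul_apply, irr_apply_one_eq β1, irr_apply_one_eq ζ.2, c8]; simp)]
  omega

theorem uniq {H : Type*} [Group H] [Finite H] [IsSimpleGroup G] [IsSimpleGroup H]
    (h : Nat.card G = Nat.card H) (m : Nat.card H ∈ ords) : Nonempty (G ≃* H) := by
  have key : ∀ {K : Type} [Group K], Nonempty (G ≃* K) → Nonempty (H ≃* K) → Nonempty (G ≃* H) :=
    fun ⟨e⟩ ⟨e'⟩ => ⟨e.trans e'.symm⟩
  have := Fintype.ofFinite (GaloisField 2 3)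
  have := Fintype.ofFinite (GaloisField 2 4)
  have c8 : Fintype.card (GaloisField 2 3) = 8 := by
    rw [← Nat.card_eq_fintype_card, GaloisField.card 2 3 (by norm_num)]; rfl
  have c16 : Fintype.card (GaloisField 2 4) = 16 := by
    rw [← Nat.card_eq_fintype_card, GaloisField.card 2 4 (by norm_num)]; rfl
  simp only [ords, List.mem_cons, List.not_mem_nil, or_false] at m
  rcases m with e | e | e | e | e | e | e | e | e | e | e <;> rw [e] at h
  · exact key (Agent.S0494.result h) (Agent.S0494.result e)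
  · exact key (Agent.S0495.result h (ZMod.card 7)) (Agent.S0495.result e (ZMod.card 7))
  · exact key (Agent.S0497.result h) (Agent.S0497.result e)
  · exact key (Agent.S1011.result h c8) (Agent.S1011.result e c8)
  · exact key (Agent.S0498.result 11 (by simp) (by rw [h]; rfl) (ZMod.card 11))
      (Agent.S0498.result 11 (by simp) (by rw [e]; rfl) (ZMod.card 11))
  · exact key (Agent.S0498.result 13 (by simp) (by rw [h]; rfl) (ZMod.card 13))
      (Agent.S0498.result 13 (by simp) (by rw [e]; rfl) (ZMod.card 13))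
  · exact key (Agent.S1020.result h (ZMod.card 17)) (Agent.S1020.result e (ZMod.card 17))
  · exact key (Agent.S0984.result h) (Agent.S0984.result e)
  · exact key (Agent.S1021.result h (ZMod.card 19)) (Agent.S1021.result e (ZMod.card 19))
  · exact key (Agent.S0981.result h c16) (Agent.S0981.result e c16)
  · exact key (CA.H7L33.iso h) (CA.H7L33.iso e)

end CA.H7Gr
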